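import Groth.Agent.HensSchLib.Flat

/-!
# Common distinguished opens of two affine Henselian opens
-/

set_option autoImplicit false
set_option backward.isDefEq.respectTransparency false
set_option linter.style.haveILetI false

universe u

open CategoryTheory CategoryTheory.Limits Opposite TopologicalSpace Topology AlgebraicGeometry

namespace Groth.Agent.HensSchLib

variable {A : Type u} [CommRing A] {X : LocallyRingedSpace.{u}} {π : X ⟶ HensSch.specLRS A} {I : Ideal A}

theorem isUnit_toStk_iff (π : X ⟶ HensSch.specLRS A) (x : X) (a : A) :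
    IsUnit (toStk π x a) ↔ π.base x ∈ PrimeSpectrum.basicOpen a := by
  let S := (HensSch.specLRS A).presheaf.stalk (π.base x)
  letI : Algebra A S := (StructureSheaf.toStalk A (π.base x)).hom.toAlgebra
  haveI : IsLocalization.AtPrime S (π.base x).asIdeal := StructureSheaf.IsLocalization.to_stalk A (π.base x)
  show IsUnit ((π.stalkMap x).hom (algebraMap A S a)) ↔ _
  rw [isUnit_map_iff (π.stalkMap x).hom, IsLocalization.AtPrime.isUnit_to_map_iff S (π.base x).asIdeal a]
  exact Iff.rfl

theorem exists_dOpen_le (hX : HensSch.IsSph A I X π) {U : Opens X} {x : X} (hxU : x ∈ U) :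
    ∃ f : A, x ∈ HensSch.dOpen π f ∧ HensSch.dOpen π f ≤ U := by
  obtain ⟨U', hU', e⟩ := hX.1.isInducing.isOpen_iff.1 U.2
  obtain ⟨_, ⟨f, rfl⟩, hxf, hfU⟩ :=
    PrimeSpectrum.isTopologicalBasis_basic_opens.exists_subset_of_mem_open
      (show π.base x ∈ U' from (Set.ext_iff.1 e x).2 hxU) hU'
  exact ⟨f, hxf, fun y hy => (Set.ext_iff.1 e y).1 (hfU hy)⟩

/-- The Henselization of a localisation, as a Henselization of a pair. -/
theorem isPairHenselization_away {f : A} {B : Type u} [CommRing B] {φ : A →+* B}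
    (h : HensSch.IsHensAway A I f B φ) :
    letI := (IsLocalization.Away.lift f h.1 : Localization.Away f →+* B).toAlgebra
    Hens2.IsPairHenselization (Localization.Away f) (I.map (algebraMap A (Localization.Away f))) B := by
  obtain ⟨hu, hhens, huniv⟩ := h
  let ψ : Localization.Away f →+* B := IsLocalization.Away.lift f hu
  have hψ : ψ.comp (algebraMap A (Localization.Away f)) = φ := IsLocalization.Away.lift_comp f hu
  letI : Algebra (Localization.Away f) B := ψ.toAlgebra
  refine ⟨?_, fun C _ J g hC hJ => ?_⟩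
  · show HenselianRing B ((I.map (algebraMap A (Localization.Away f))).map ψ)
    rw [Ideal.map_map, hψ]
    exact hhens
  · have hunit : IsUnit (g.comp (algebraMap A (Localization.Away f)) f) :=
      (IsLocalization.Away.algebraMap_isUnit f).map g
    obtain ⟨k, hk, hk'⟩ := huniv C J (g.comp (algebraMap A (Localization.Away f))) hC
      (by rw [← Ideal.map_map]; exact hJ) hunit
    refine ⟨k, IsLocalization.ringHom_ext (Submonoid.powers f) ?_, fun g' hg' => hk' g' ?_⟩
    · show (k.comp ψ).comp (algebraMap A (Localization.Away f)) = _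
      rw [RingHom.comp_assoc, hψ, hk]
    · have e : g'.comp ψ = g := hg'
      show g'.comp φ = _
      rw [← hψ, ← RingHom.comp_assoc, e]

/-- The unit locus of a section over a distinguished open is a distinguished open. -/
theorem exists_dOpen_eq (hX : HensSch.IsSph A I X π) (f : A)
    (s : X.presheaf.obj (op (HensSch.dOpen π f))) :
    ∃ a : A, ∀ y (hy : y ∈ HensSch.dOpen π f),
      IsUnit (X.presheaf.germ (HensSch.dOpen π f) y hy s) ↔ π.base y ∈ PrimeSpectrum.basicOpen a := by
  obtain ⟨-, hrange, haway⟩ := hX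
  let φ := HensSch.secMap π (PrimeSpectrum.basicOpen f)
  have hu := (haway f).1
  letI : Algebra (Localization.Away f) (X.presheaf.obj (op (HensSch.dOpen π f))) :=
    (IsLocalization.Away.lift f hu : Localization.Away f →+* _).toAlgebra
  obtain ⟨r, hr⟩ := Groth.Agent.PairHens.exists_sub_mem_map_pow (isPairHenselization_away (haway f)) 1 s
  obtain ⟨⟨a, m, n, rfl⟩, har⟩ := IsLocalization.surj (Submonoid.powers f) r
  refine ⟨a, fun y hy => ?_⟩
  let γ := (X.presheaf.germ (HensSch.dOpen π f) y hy).hom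
  rw [← isUnit_toStk_iff]
  have hlift : ∀ b : A, algebraMap (Localization.Away f) (X.presheaf.obj (op (HensSch.dOpen π f)))
      (algebraMap A (Localization.Away f) b) = φ b := fun b => IsLocalization.Away.lift_eq f hu b
  have hmem : γ (s - algebraMap (Localization.Away f) _ r) ∈ IsLocalRing.maximalIdeal (X.presheaf.stalk y) := by
    have hle : (I.map (algebraMap A (Localization.Away f)) ^ 1).map
        (algebraMap (Localization.Away f) (X.presheaf.obj (op (HensSch.dOpen π f)))) ≤
        (IsLocalRing.maximalIdeal (X.presheaf.stalk y)).comap γ := by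
      rw [pow_one, Ideal.map_map, Ideal.map_le_iff_le_comap]
      intro i hi
      show γ (algebraMap (Localization.Away f) (X.presheaf.obj (op (HensSch.dOpen π f)))
        (algebraMap A (Localization.Away f) i)) ∈ IsLocalRing.maximalIdeal _
      rw [hlift, IsLocalRing.mem_maximalIdeal, mem_nonunits_iff, show γ (φ i) = toStk π y i from germ_secMap π _ y hy i,
        isUnit_toStk_iff, PrimeSpectrum.mem_basicOpen, not_not]
      have : π.base y ∈ PrimeSpectrum.zeroLocus (I : Set A) := hrange ▸ ⟨y, rfl⟩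
      exact this hi
    exact hle hr
  have hunitf : IsUnit (toStk π y (f ^ n)) := by
    rw [map_pow]
    exact ((isUnit_toStk_iff π y f).2 hy).pow n
  have heq : γ (algebraMap (Localization.Away f) (X.presheaf.obj (op (HensSch.dOpen π f))) r) * toStk π y (f ^ n) =
      toStk π y a := by
    rw [← germ_secMap π (PrimeSpectrum.basicOpen f) y hy (f ^ n), ← germ_secMap π (PrimeSpectrum.basicOpen f) y hy a]
    show γ _ * γ (φ (f ^ n)) = γ (φ a)
    rw [← map_mul, ← hlift, ← hlift, ← map_mul]
    exact congrArg (fun b => γ (algebraMap (Localization.Away f) _ b)) har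
  have h1 : IsUnit (γ (algebraMap (Localization.Away f) (X.presheaf.obj (op (HensSch.dOpen π f))) r)) ↔
      IsUnit (toStk π y a) := by
    rw [← heq, IsUnit.mul_iff]
    exact ⟨fun h => ⟨h, hunitf⟩, fun h => h.1⟩
  rw [← h1]
  show IsUnit (γ s) ↔ _
  rw [map_sub] at hmem
  have key : ∀ p q : X.presheaf.stalk y, p - q ∈ IsLocalRing.maximalIdeal _ → (IsUnit p ↔ IsUnit q) := fun p q h => by
    rw [← IsLocalRing.notMem_maximalIdeal, ← IsLocalRing.notMem_maximalIdeal]
    exact not_congr ⟨fun hp => (Submodule.sub_mem_iff_right _ hp).1 h, fun hq => (Submodule.sub_mem_iff_left _ hq).1 h⟩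
  exact key _ _ hmem

variable {U V : LocallyRingedSpace.{u}} (iU : U ⟶ X) [LocallyRingedSpace.IsOpenImmersion iU]
  (iV : V ⟶ X) [LocallyRingedSpace.IsOpenImmersion iV]
  {B C : Type u} [CommRing B] [CommRing C] {J : Ideal B} {K : Ideal C}
  {πU : U ⟶ HensSch.specLRS B} {πV : V ⟶ HensSch.specLRS C}

theorem exists_common (hU : HensSch.IsSph B J U πU) (hV : HensSch.IsSph C K V πV) (x : X)
    (hxU : x ∈ Set.range iU.base) (hxV : x ∈ Set.range iV.base) :
    ∃ (f : B) (g : C), x ∈ iU.base '' (HensSch.dOpen πU f : Set U) ∧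
      iU.base '' (HensSch.dOpen πU f : Set U) = iV.base '' (HensSch.dOpen πV g : Set V) := by
  obtain ⟨z, rfl⟩ := hxU
  obtain ⟨w, hw⟩ := hxV
  have hiU : IsOpenEmbedding iU.base := PresheafedSpace.IsOpenImmersion.base_open (f := iU.toShHom.hom)
  have hiV : IsOpenEmbedding iV.base := PresheafedSpace.IsOpenImmersion.base_open (f := iV.toShHom.hom)
  let O : Opens U := ⟨iU.base ⁻¹' Set.range iV.base, hiV.isOpen_range.preimage iU.base.hom.continuous⟩
  obtain ⟨f, hzf, hfO⟩ := exists_dOpen_le hU (U := O) (show z ∈ O from ⟨w, hw⟩)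
  let P : Opens V := ⟨iV.base ⁻¹' (iU.base '' (HensSch.dOpen πU f : Set U)),
    (hiU.isOpenMap _ (HensSch.dOpen πU f).2).preimage iV.base.hom.continuous⟩
  obtain ⟨g, hwg, hgP⟩ := exists_dOpen_le hV (U := P) (show w ∈ P from ⟨z, hzf, hw.symm⟩)
  let D : Opens U := HensSch.dOpen πU f
  let U' := U.restrict D.isOpenEmbedding
  let j : U' ⟶ U := U.ofRestrict D.isOpenEmbedding
  have hj : Set.range (j ≫ iU).base ⊆ Set.range iV.base := by
    rintro _ ⟨y, rfl⟩
    exact hfO y.2
  let h : U' ⟶ V := LocallyRingedSpace.IsOpenImmersion.lift iV (j ≫ iU) hj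
  have hfac : h ≫ iV = j ≫ iU := LocallyRingedSpace.IsOpenImmersion.lift_fac _ _ _
  have hbase : ∀ y : U', iV.base (h.base y) = iU.base y.1 := fun y =>
    congr(($hfac).base y)
  let T : Opens (PrimeSpectrum C) := ⊤
  let E : Opens U' := (Opens.map h.base).obj ((Opens.map πV.base).obj T)
  let s' : U'.presheaf.obj (op E) := h.c.app _ (HensSch.secMap πV T g)
  have hDE : D ≤ D.isOpenEmbedding.functor.obj E := fun y hy => ⟨⟨y, hy⟩, trivial, rfl⟩
  let s : U.presheaf.obj (op D) := U.presheaf.map (homOfLE hDE).op s'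
  have hs : ∀ (y : U) (hy : y ∈ D), IsUnit (U.presheaf.germ D y hy s) ↔
      h.base ⟨y, hy⟩ ∈ HensSch.dOpen πV g := by
    intro y hy
    let y' : U' := ⟨y, hy⟩
    have h1 : U.presheaf.germ D y hy s = U.presheaf.germ (D.isOpenEmbedding.functor.obj E) y ⟨y', trivial, rfl⟩ s' :=
      TopCat.Presheaf.germ_res_apply U.presheaf (homOfLE hDE) y hy s'
    have h2 : (PresheafedSpace.restrictStalkIso U.toPresheafedSpace D.isOpenEmbedding y').hom
        (U'.presheaf.germ E y' trivial s') =
        U.presheaf.germ (D.isOpenEmbedding.functor.obj E) y ⟨y', trivial, rfl⟩ s' :=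
      congr($(PresheafedSpace.restrictStalkIso_hom_eq_germ U.toPresheafedSpace D.isOpenEmbedding E y' trivial) s')
    have h3 : h.stalkMap y' (V.presheaf.germ ((Opens.map πV.base).obj T) (h.base y') trivial (HensSch.secMap πV T g)) =
        U'.presheaf.germ E y' trivial s' :=
      congr($(LocallyRingedSpace.stalkMap_germ h ((Opens.map πV.base).obj T) y' trivial) (HensSch.secMap πV T g))
    rw [h1, ← h2]
    refine ((MulEquiv.isUnit_map (PresheafedSpace.restrictStalkIso U.toPresheafedSpace D.isOpenEmbedding y').commRingCatIsoToRingEquiv)).trans ?_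
    rw [← h3, isUnit_map_iff (h.stalkMap y').hom, germ_secMap, isUnit_toStk_iff]
    exact Iff.rfl
  obtain ⟨a, ha⟩ := exists_dOpen_eq hU f s
  refine ⟨f * a, g, ?_, ?_⟩
  · refine ⟨z, ?_, rfl⟩
    have hz : h.base ⟨z, hzf⟩ = w := hiV.injective ((hbase _).trans hw.symm)
    have := (hs z hzf).2 (by rw [hz]; exact hwg)
    show πU.base z ∈ PrimeSpectrum.basicOpen (f * a)
    rw [PrimeSpectrum.basicOpen_mul]
    exact ⟨hzf, (ha z hzf).1 this⟩
  · ext p
    constructor
    · rintro ⟨y, hy, rfl⟩
      have hy' : πU.base y ∈ PrimeSpectrum.basicOpen f ⊓ PrimeSpectrum.basicOpen a :=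
        PrimeSpectrum.basicOpen_mul f a ▸ hy
      exact ⟨h.base ⟨y, hy'.1⟩, (hs y hy'.1).1 ((ha y hy'.1).2 hy'.2), hbase _⟩
    · rintro ⟨v, hv, rfl⟩
      obtain ⟨y, hy, hyv⟩ := hgP hv
      refine ⟨y, ?_, hyv⟩
      have hvy : h.base ⟨y, hy⟩ = v := hiV.injective ((hbase _).trans hyv)
      have := (ha y hy).1 ((hs y hy).2 (by rw [hvy]; exact hv))
      show πU.base y ∈ PrimeSpectrum.basicOpen (f * a)
      rw [PrimeSpectrum.basicOpen_mul]
      exact ⟨hy, this⟩

end Groth.Agent.HensSchLib
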