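import Groth.Agent.PairHens.Nbhd
import Mathlib

/-!
# Good étale stages of the Henselization of a pair

Elements of a Henselization come from étale algebras; a relation holding in the Henselization holds in an
étale algebra with the same reduction as the base.
-/

set_option autoImplicit false
set_option linter.style.haveILetI false
set_option linter.unusedSectionVars false

universe u

open scoped TensorProduct

noncomputable section

namespace Groth.Agent.HensSchLib

variable {R : Type u} [CommRing R] (J : Ideal R)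

/-- The reduction of `C` is that of `R`. -/
abbrev GoodStage (C : Type u) [CommRing C] [Algebra R C] : Prop :=
  Function.Bijective (Ideal.quotientMap (J.map (algebraMap R C)) (algebraMap R C) Ideal.le_comap_map)

variable {J} {S : Type u} [CommRing S] [Algebra R S] (hS : Hens2.IsPairHenselization R J S)

include hS in
theorem exists_etale_lift (n : ℕ) (x : Fin n → S) :
    ∃ (C : Type u) (_ : CommRing C) (_ : Algebra R C) (_ : Algebra.Etale R C) (φ : C →ₐ[R] S) (c : Fin n → C),
      ∀ k, φ (c k) = x k := by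
  obtain ⟨e⟩ := Groth.Agent.PairHens.exists_algEquiv hS
  induction n with
  | zero => exact ⟨R, inferInstance, inferInstance, inferInstance, Algebra.ofId R S, Fin.elim0, fun k => k.elim0⟩
  | succ n ih =>
    obtain ⟨C, i1, i2, i3, φ, c, hc⟩ := ih fun k => x k.succ
    obtain ⟨C', j1, j2, j3, -, φ', c', hc'⟩ := Groth.Agent.PairHens.exists_algHom_mem_range (e.symm (x 0))
    haveI : Algebra.Etale R (C ⊗[R] C') := Algebra.Etale.comp R C _
    let ψ : C ⊗[R] C' →ₐ[R] S :=
      Algebra.TensorProduct.lift φ (e.toAlgHom.comp φ') fun _ _ => Commute.all _ _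
    refine ⟨C ⊗[R] C', inferInstance, inferInstance, inferInstance, ψ,
      Fin.cons (1 ⊗ₜ c') (fun k => c k ⊗ₜ 1), fun k => ?_⟩
    induction k using Fin.cases with
    | zero => simp [ψ, hc']
    | succ k => simp [ψ, hc]

include hS in
theorem exists_good_killing {C : Type u} [CommRing C] [Algebra R C] [Algebra.Etale R C] (φ : C →ₐ[R] S)
    {n : ℕ} (x : Fin n → C) (hx : ∀ k, φ (x k) = 0) :
    ∃ (C' : Type u) (_ : CommRing C') (_ : Algebra R C') (_ : Algebra.Etale R C') (h : C →ₐ[R] C')
      (φ' : C' →ₐ[R] S), φ'.comp h = φ ∧ GoodStage J C' ∧ ∀ k, h (x k) = 0 := by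
  obtain ⟨e⟩ := Groth.Agent.PairHens.exists_algEquiv hS
  let φ₀ := e.symm.toAlgHom.comp φ
  have hx₀ : ∀ k, φ₀ (x k) = 0 := fun k => by simp [φ₀, hx k]
  choose t ht ht' using fun k => Groth.Agent.PairHens.exists_killed φ₀ (x k) (hx₀ k)
  obtain ⟨v, hv, hdvd, hgood⟩ := Groth.Agent.PairHens.exists_away ((Groth.Agent.PairHens.εH R J).comp φ₀)
    (∏ k, t k) (by
      rw [map_prod]
      exact IsUnit.prod_iff.2 fun k _ => ht k)
  haveI : Algebra.Etale R (Localization.Away v) :=
    haveI := Algebra.Etale.of_isLocalizationAway (R := C) (A := Localization.Away v) v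
    Algebra.Etale.comp R C _
  have hu : IsUnit (φ v) := by
    have h1 : IsUnit (φ₀ v) := (Groth.Agent.PairHens.isUnit_iff _).2 hv
    simpa [φ₀] using h1.map e
  let φ' : Localization.Away v →ₐ[R] S :=
    IsLocalization.liftAlgHom (M := Submonoid.powers v) (f := φ) (by
      rintro ⟨_, m, rfl⟩
      rw [map_pow]; exact hu.pow m)
  refine ⟨Localization.Away v, inferInstance, inferInstance, inferInstance,
    IsScalarTower.toAlgHom R C _, φ', AlgHom.ext fun y => IsLocalization.lift_eq _ y, hgood, fun k => ?_⟩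
  obtain ⟨w, hw⟩ := (Finset.dvd_prod_of_mem t (Finset.mem_univ k)).trans hdvd
  refine (IsLocalization.map_eq_zero_iff (Submonoid.powers v) (Localization.Away v) (x k)).2
    ⟨⟨v, 1, pow_one v⟩, ?_⟩
  show v * x k = 0
  rw [hw, mul_comm (t k) w, mul_assoc, ht', mul_zero]

include hS in
theorem exists_good_refine {C : Type u} [CommRing C] [Algebra R C] [Algebra.Etale R C] (φ : C →ₐ[R] S) :
    ∃ (C' : Type u) (_ : CommRing C') (_ : Algebra R C') (_ : Algebra.Etale R C') (h : C →ₐ[R] C')
      (φ' : C' →ₐ[R] S), φ'.comp h = φ ∧ GoodStage J C' := by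
  obtain ⟨C', i1, i2, i3, h, φ', e, hg, -⟩ := exists_good_killing hS φ (n := 0) Fin.elim0 fun k => k.elim0
  exact ⟨C', i1, i2, i3, h, φ', e, hg⟩

variable {A : Type u} [CommRing A] [Algebra A R] [Algebra A S] [IsScalarTower A R S] {N : Type u} [AddCommGroup N]
  [Module A N]

/-- The map of tensor products induced by a map of algebras. -/
abbrev tmap {C C' : Type u} [CommRing C] [CommRing C'] [Algebra R C] [Algebra R C'] [Algebra A C] [Algebra A C']
    [IsScalarTower A R C] [IsScalarTower A R C'] (h : C →ₐ[R] C') : C ⊗[A] N →ₗ[A] C' ⊗[A] N :=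
  (h.restrictScalars A).toLinearMap.rTensor N

theorem tmap_comp {C C' C'' : Type u} [CommRing C] [CommRing C'] [CommRing C''] [Algebra R C] [Algebra R C']
    [Algebra R C''] [Algebra A C] [Algebra A C'] [Algebra A C''] [IsScalarTower A R C] [IsScalarTower A R C']
    [IsScalarTower A R C''] (g : C' →ₐ[R] C'') (h : C →ₐ[R] C') (z : C ⊗[A] N) :
    tmap (A := A) g (tmap h z) = tmap (g.comp h) z := by
  show ((g.restrictScalars A).toLinearMap.rTensor N ∘ₗ (h.restrictScalars A).toLinearMap.rTensor N) z = _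
  rw [← LinearMap.rTensor_comp]
  rfl

include hS in
theorem exists_good_tensor_lift (z : S ⊗[A] N) :
    ∃ (C : Type u) (_ : CommRing C) (_ : Algebra R C) (_ : Algebra.Etale R C) (_ : Algebra A C)
      (_ : IsScalarTower A R C) (φ : C →ₐ[R] S) (c : C ⊗[A] N), GoodStage J C ∧ tmap φ c = z := by
  classical
  obtain ⟨s, rfl⟩ := TensorProduct.exists_finset z
  let eq := s.equivFin
  obtain ⟨C, i1, i2, i3, φ, c, hc⟩ := exists_etale_lift hS s.card fun k => (eq.symm k).1.1
  obtain ⟨C', j1, j2, j3, h, φ', e, hg⟩ := exists_good_refine hS φ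
  letI : Algebra A C' := ((algebraMap R C').comp (algebraMap A R)).toAlgebra
  haveI : IsScalarTower A R C' := .of_algebraMap_eq' rfl
  refine ⟨C', j1, j2, j3, inferInstance, inferInstance, φ', ∑ k, h (c k) ⊗ₜ (eq.symm k).1.2, hg, ?_⟩
  rw [map_sum, ← Finset.sum_coe_sort s]
  refine Fintype.sum_equiv eq.symm _ _ fun k => ?_
  rw [LinearMap.rTensor_tmul]
  show φ' (h (c k)) ⊗ₜ[A] _ = _
  rw [← AlgHom.comp_apply, e, hc]

include hS in
theorem exists_good_tensor_zero [Module.Flat A S] {C : Type u} [CommRing C] [Algebra R C] [Algebra.Etale R C]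
    [Algebra A C] [IsScalarTower A R C] (φ : C →ₐ[R] S) (z : C ⊗[A] N) (hz : tmap φ z = 0) :
    ∃ (C' : Type u) (_ : CommRing C') (_ : Algebra R C') (_ : Algebra.Etale R C') (_ : Algebra A C')
      (_ : IsScalarTower A R C') (h : C →ₐ[R] C') (φ' : C' →ₐ[R] S),
      φ'.comp h = φ ∧ GoodStage J C' ∧ tmap h z = 0 := by
  classical
  obtain ⟨s, rfl⟩ := TensorProduct.exists_finset z
  have hz' : ∑ i : s, i.1.2 ⊗ₜ[A] φ i.1.1 = (0 : N ⊗[A] S) := by
    have h := congrArg (TensorProduct.comm A S N) hz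
    rw [map_sum, map_sum, map_zero, ← Finset.sum_coe_sort s] at h
    simpa using h
  obtain ⟨k, a, y, hay, ham⟩ := TensorProduct.vanishesTrivially_of_sum_tmul_eq_zero_of_rTensor_injective A
    (m := fun i : s => i.1.2) (n := fun i : s => φ i.1.1)
    (Module.Flat.rTensor_preserves_injective_linearMap _ Subtype.val_injective) hz'
  obtain ⟨D, d1, d2, d3, ψ, d, hd⟩ := exists_etale_lift hS k y
  haveI : Algebra.Etale R (C ⊗[R] D) := Algebra.Etale.comp R C _
  let Φ : C ⊗[R] D →ₐ[R] S := Algebra.TensorProduct.lift φ ψ fun _ _ => Commute.all _ _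
  let il : C →ₐ[R] C ⊗[R] D := Algebra.TensorProduct.includeLeft
  let rel : s → C ⊗[R] D := fun i => il i.1.1 - ∑ j, a i j • ((1 : C) ⊗ₜ[R] d j)
  have hrel : ∀ i, Φ (rel i) = 0 := fun i => by
    show Φ.restrictScalars A (il i.1.1 - ∑ j, a i j • ((1 : C) ⊗ₜ[R] d j)) = 0
    rw [map_sub, map_sum, sub_eq_zero]
    simp only [map_smul]
    refine (by simp [Φ, il] : _ = φ i.1.1).trans ((hay i).trans ?_)
    refine Finset.sum_congr rfl fun j _ => ?_
    simp [Φ, hd]
  obtain ⟨C', i1, i2, i3, h, φ', e, hg, hk⟩ := exists_good_killing hS Φ (fun l => rel (s.equivFin.symm l))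
    fun l => hrel _
  letI : Algebra A C' := ((algebraMap R C').comp (algebraMap A R)).toAlgebra
  haveI : IsScalarTower A R C' := .of_algebraMap_eq' rfl
  refine ⟨C', i1, i2, i3, inferInstance, inferInstance, h.comp il, φ', ?_, hg, ?_⟩
  · rw [← AlgHom.comp_assoc, e]
    exact Algebra.TensorProduct.lift_comp_includeLeft _ _ _
  · have key : ∀ i : s, h (il i.1.1) = ∑ j, a i j • h (1 ⊗ₜ d j) := fun i => by
      have h1 := hk (s.equivFin i)
      rw [Equiv.symm_apply_apply] at h1
      have h2 : h.restrictScalars A (rel i) = 0 := h1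
      rw [map_sub, map_sum, sub_eq_zero] at h2
      simp only [map_smul] at h2
      exact h2
    rw [map_sum, ← Finset.sum_coe_sort s]
    simp only [LinearMap.rTensor_tmul]
    have : ∀ i : s, ((h.comp il).restrictScalars A).toLinearMap i.1.1 ⊗ₜ[A] i.1.2 =
        ∑ j, h (1 ⊗ₜ d j) ⊗ₜ[A] (a i j • i.1.2) := fun i => by
      show h (il i.1.1) ⊗ₜ[A] i.1.2 = _
      rw [key, TensorProduct.sum_tmul]
      exact Finset.sum_congr rfl fun j _ => TensorProduct.smul_tmul _ _ _
    rw [Finset.sum_congr rfl fun i _ => this i, Finset.sum_comm]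
    refine Finset.sum_eq_zero fun j _ => ?_
    rw [← TensorProduct.tmul_sum, ham, TensorProduct.tmul_zero]

end Groth.Agent.HensSchLib
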