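import Groth.Agent.EtAssocLib.Compare
import Groth.Agent.HensH0.Proper
import Groth.Agent.HensSchLib.Stages

/-!
# The étale sheaf of a quasi-coherent module on an affine scheme, near a closed subset
-/

set_option autoImplicit false
set_option linter.style.haveILetI false
set_option linter.unusedSectionVars false
set_option backward.isDefEq.respectTransparency false
set_option backward.isDefEq.respectTransparency.types false
set_option maxHeartbeats 800000

universe u

open CategoryTheory CategoryTheory.Limits AlgebraicGeometry Opposite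
open scoped TensorProduct
open Groth.Agent.EtAssocLib

noncomputable section

namespace Groth.Agent.HensSchLib

variable {A : Type u} [CommRing A]

/-- The affine scheme. -/
abbrev SpA (A : Type u) [CommRing A] : Scheme.{u} := Spec (CommRingCat.of A)

variable (F : (SpA A).Modules)

/-- Global sections. -/
def Nmod : Type u := Sec F (𝟙 (SpA A))

instance : AddCommGroup (Nmod F) := inferInstanceAs (AddCommGroup (Sec F (𝟙 (SpA A))))

instance : Module A (Nmod F) := secModule F (𝟙 (SpA A))

/-- An étale algebra as an étale scheme. -/
def Wob (C : Type u) [CommRing C] [Algebra A C] [Algebra.Etale A C] : (SpA A).Etale :=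
  haveI : AlgebraicGeometry.Etale (Spec.map (CommRingCat.ofHom (algebraMap A C))) :=
    HasRingHomProperty.Spec_iff.2 (RingHom.etale_algebraMap.2 inferInstance)
  Scheme.Etale.mk (Spec.map (CommRingCat.ofHom (algebraMap A C)))

variable {C C' : Type u} [CommRing C] [Algebra A C] [Algebra.Etale A C] [CommRing C'] [Algebra A C']
  [Algebra.Etale A C']

/-- The map of étale schemes of a map of algebras. -/
def Wmap (h : C →ₐ[A] C') : (Wob (A := A) C') ⟶ Wob C :=
  MorphismProperty.Over.homMk (Spec.map (CommRingCat.ofHom h.toRingHom)) (by
    show _ ≫ Spec.map _ = Spec.map _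
    rw [← Spec.map_comp, ← CommRingCat.ofHom_comp]
    exact congrArg (fun k => Spec.map (CommRingCat.ofHom k)) h.comp_algebraMap)

variable [Coh.IsQCoh F]

/-- The étale sheaf. -/
abbrev Esh : EtCoh.Ab (SpA A) := (EtFppf.aPush (SpA A)).obj (bigSheaf F)

theorem secVal_id_comp (C : Type u) [CommRing C] [Algebra A C] :
    Spec.map (CommRingCat.ofHom (algebraMap A C)) ≫ 𝟙 (SpA A) = Spec.map (CommRingCat.ofHom (algebraMap A C)) :=
  Category.comp_id _

/-- The section given by an element of the base change. -/
def el (C : Type u) [CommRing C] [Algebra A C] [Algebra.Etale A C] (z : C ⊗[A] Nmod F) :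
    EtCoh.sect (Esh F) (Wob C) :=
  ULift.up (secVal F (𝟙 (SpA A)) (CommRingCat.of C) (secVal_id_comp C) z)

theorem el_bijective (C : Type u) [CommRing C] [Algebra A C] [Algebra.Etale A C] :
    Function.Bijective (el F C) :=
  ULift.up_bijective.comp (secVal_bijective F (𝟙 (SpA A)) (CommRingCat.of C) (secVal_id_comp C))

theorem el_map (h : C →ₐ[A] C') (z : C ⊗[A] Nmod F) :
    (Esh F).obj.map (Wmap h).op (el F C z) = el F C' (h.toLinearMap.rTensor (Nmod F) z) := by
  have hg : Spec.map (CommRingCat.ofHom h.toRingHom) ≫ Spec.map (CommRingCat.ofHom (algebraMap A C)) =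
      Spec.map (CommRingCat.ofHom (algebraMap A C')) := MorphismProperty.Over.w (Wmap h)
  exact ULift.ext _ _ (secVal_natural F (𝟙 (SpA A)) (CommRingCat.of C) (C' := CommRingCat.of C') (secVal_id_comp C) h
    (secVal_id_comp C') hg z)

end Groth.Agent.HensSchLib
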