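import Groth.Agent.HensSchLib.Flat
import Groth.Agent.FlatLocus.ModInjFlat
import Mathlib.RingTheory.Flat.FaithfullyFlat.Basic

/-!
# Faithfulness of the inverse image along a Henselization
-/

set_option autoImplicit false
set_option backward.isDefEq.respectTransparency false
set_option linter.style.haveILetI false

universe u

open CategoryTheory CategoryTheory.Limits Opposite TopologicalSpace Topology AlgebraicGeometry
open scoped TensorProduct

namespace Groth.Agent.HensSchLib

open Groth.Agent.RSpLib Groth.Agent.ModTensor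


/-- Along a faithfully flat map of stalks, maps of modules with the same inverse image have equal stalks. -/
theorem stkMap_eq_of_pull_eq {X Y : TopCat.{u}} {O : TopCat.Sheaf CommRingCat.{u} X}
    {O' : TopCat.Sheaf CommRingCat.{u} Y} (f : X ⟶ Y)
    (c : O' ⟶ ((Opens.map f).sheafPushforwardContinuous CommRingCat.{u}
      (Opens.grothendieckTopology Y) (Opens.grothendieckTopology X)).obj O) (x : X)
    (h : (rstkMap f c x).hom.FaithfullyFlat) {M N : ModSite.Mod O'}
    {φ ψ : M ⟶ N} (e : (rm f c).pull.map φ = (rm f c).pull.map ψ) :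
    stkMap φ (f x) = stkMap ψ (f x) := by
  letI : Algebra (rstk O' (f x)) (rstk O x) := (rstkMap f c x).hom.toAlgebra
  haveI : Module.FaithfullyFlat (rstk O' (f x)) (rstk O x) := h
  letI := Module.compHom (stk ((rm f c).pull.obj M) x) (rstkMap f c x).hom
  letI := Module.compHom (stk ((rm f c).pull.obj N) x) (rstkMap f c x).hom
  haveI : IsScalarTower (rstk O' (f x)) (rstk O x) (stk ((rm f c).pull.obj M) x) :=
    .of_algebraMap_smul fun _ _ => rfl
  haveI : IsScalarTower (rstk O' (f x)) (rstk O x) (stk ((rm f c).pull.obj N) x) :=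
    .of_algebraMap_smul fun _ _ => rfl
  have hN := isBaseChange_pullStkL f c N x
  rw [← sub_eq_zero, Module.FaithfullyFlat.zero_iff_lTensor_zero (rstk O' (f x)) (rstk O x),
    LinearMap.lTensor_sub]
  refine TensorProduct.ext' fun b m => ?_
  rw [LinearMap.sub_apply, LinearMap.zero_apply, sub_eq_zero]
  refine hN.equiv.injective ?_
  rw [LinearMap.lTensor_tmul, LinearMap.lTensor_tmul, hN.equiv_tmul, hN.equiv_tmul]
  congr 1
  show pullStk f c N x (stkMap φ (f x) m) = pullStk f c N x (stkMap ψ (f x) m)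
  rw [← pullStk_natural, ← pullStk_natural]
  exact congr(stkMap $e x (pullStk f c M x m))

theorem faithfullyFlat_of_flat_local {R S : Type u} [CommRing R] [CommRing S] [IsLocalRing R] [IsLocalRing S]
    (φ : R →+* S) [IsLocalHom φ] (h : φ.Flat) : φ.FaithfullyFlat := by
  algebraize [φ]
  haveI : IsLocalHom (algebraMap R S) := ‹_›
  exact Module.FaithfullyFlat.of_flat_of_isLocalHom

/-- Maps with the same inverse image along a flat map of locally ringed spaces agree on the image. -/
theorem stkMap_eq_of_pullMod_eq {X Y : LocallyRingedSpace.{u}} (g : X ⟶ Y)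
    (h : ∀ x, (g.stalkMap x).hom.Flat) {M N : ModSite.Mod Y.sheaf}
    {φ ψ : M ⟶ N} (e : (HensSch.pullMod g).map φ = (HensSch.pullMod g).map ψ) (x : X) :
    stkMap φ (g.base x) = stkMap ψ (g.base x) :=
  stkMap_eq_of_pull_eq (O := X.sheaf) (O' := Y.sheaf) g.base ⟨g.c⟩ x
    (faithfullyFlat_of_flat_local (R := Y.presheaf.stalk (g.base x)) (S := X.presheaf.stalk x)
      (g.stalkMap x).hom (h x)) e

/-- Maps of quasi-coherent modules agreeing at the closed points agree. -/
theorem hom_ext_closedPoints {S : Scheme.{u}} [CompactSpace S] {F G : S.Modules} [F.IsQuasicoherent]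
    (φ ψ : F ⟶ G)
    (h : ∀ y : S, IsClosed ({y} : Set S) → stkMap (O := S.sheaf) φ y = stkMap (O := S.sheaf) ψ y) : φ = ψ := by
  haveI : Coh.IsQCoh F := ‹F.IsQuasicoherent›
  refine SheafOfModules.hom_ext (PresheafOfModules.hom_ext fun U => ModuleCat.hom_ext (LinearMap.ext fun s => ?_))
  refine section_ext (O := S.sheaf) G _ _ fun x hx => ?_
  obtain ⟨y, hy, hyc⟩ := IsClosed.exists_closed_singleton (isClosed_closure (s := ({x} : Set S)))
    ⟨x, subset_closure rfl⟩
  have hxy : x ⤳ y := specializes_iff_mem_closure.2 hy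
  obtain ⟨_, ⟨W : S.Opens, hW : IsAffineOpen W, rfl⟩, hyW, -⟩ :=
    S.isBasis_affineOpens.exists_subset_of_mem_open (Set.mem_univ y) isOpen_univ
  have hxW : x ∈ W := hxy.mem_open W.2 hyW
  have key : ∀ t : Γ(F, W), stkMap (O := S.sheaf) φ x (germ (O := S.sheaf) F (U := W) hxW t) =
      stkMap (O := S.sheaf) ψ x (germ (O := S.sheaf) F (U := W) hxW t) := fun t => by
    have h1 := congr($(h y hyc) (germ (O := S.sheaf) F (U := W) hyW t))
    erw [stkMap_germ, stkMap_germ] at h1
    obtain ⟨W', hyW', i, j, e⟩ := TopCat.Presheaf.germ_eq _ y hyW hyW _ _ h1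
    have hxW' : x ∈ W' := hxy.mem_open W'.2 hyW'
    rw [stkMap_germ, stkMap_germ]
    refine ((germ_res (O := S.sheaf) G i hxW' _).symm.trans ?_).trans (germ_res (O := S.sheaf) G j hxW' _)
    exact congrArg _ e
  have main : stkMap (O := S.sheaf) φ x = stkMap (O := S.sheaf) ψ x := by
    letI : Algebra Γ(S, W) (S.presheaf.stalk x) := (S.presheaf.germ W x hxW).hom.toAlgebra
    haveI := FlatLocus.isLocalizedModule_germL F hW x hxW
    refine LinearMap.ext fun z => ?_
    obtain ⟨⟨t, a⟩, hta⟩ := IsLocalizedModule.surj (hW.primeIdealOf ⟨x, hxW⟩).asIdeal.primeCompl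
      (FlatLocus.germL F W x hxW) z
    haveI : IsLocalization.AtPrime (S.presheaf.stalk x) (hW.primeIdealOf ⟨x, hxW⟩).asIdeal :=
      hW.isLocalization_stalk ⟨x, hxW⟩
    have hu : IsUnit (algebraMap Γ(S, W) (S.presheaf.stalk x) a.1) :=
      IsLocalization.map_units (S.presheaf.stalk x) a
    have hz : (algebraMap Γ(S, W) (S.presheaf.stalk x) a.1) • z = germ (O := S.sheaf) F (U := W) hxW t := hta
    refine hu.smul_left_cancel.1 ?_
    rw [← map_smul, ← map_smul, hz, key]
  exact (stkMap_germ (O := S.sheaf) φ hx s).symm.trans ((LinearMap.congr_fun main _).trans (stkMap_germ (O := S.sheaf) ψ hx s))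

end Groth.Agent.HensSchLib
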