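import Groth.Prelude.Def_HensSch
import Groth.Agent.PairHens.Basic
import Groth.Agent.RSpLib.PullStalk
import Mathlib.RingTheory.Flat.EquationalCriterion
import Mathlib.RingTheory.Flat.Localization

/-!
# Flatness of the stalk maps of affine Henselian spectra and Henselizations of schemes
-/

set_option autoImplicit false
set_option backward.isDefEq.respectTransparency false
set_option linter.style.haveILetI false

universe u

open CategoryTheory CategoryTheory.Limits Opposite TopologicalSpace Topology AlgebraicGeometry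

namespace Groth.Agent.HensSchLib

variable {A : Type u} [CommRing A]

/-- A ring under `A` which is a union of flat rings is flat. -/
theorem flat_of_stages {B : Type u} [CommRing B] (φ : A →+* B) {ι : Type*} (R : ι → Type u)
    [∀ i, CommRing (R i)] (a : ∀ i, A →+* R i) (t : ∀ i, R i →+* B) (ht : ∀ i, (t i).comp (a i) = φ)
    (hflat : ∀ i, (a i).Flat) (hsurj : ∀ (n : ℕ) (b : Fin n → B), ∃ (i : ι) (r : Fin n → R i), ∀ k, t i (r k) = b k)
    (hinj : ∀ (i : ι) (r : R i), t i r = 0 → ∃ (j : ι) (s : R i →+* R j),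
      s.comp (a i) = a j ∧ (t j).comp s = t i ∧ s r = 0) :
    φ.Flat := by
  letI : Algebra A B := φ.toAlgebra
  show Module.Flat A B
  rw [Module.Flat.iff_forall_isTrivialRelation]
  intro l f x hfx
  obtain ⟨i, r, hr⟩ := hsurj l x
  obtain ⟨j, s, hsa, hst, hs0⟩ := hinj i (∑ k, a i (f k) * r k) (by
    rw [map_sum, ← hfx]
    refine Finset.sum_congr rfl fun k _ => ?_
    rw [map_mul, hr, ← RingHom.comp_apply, ht, Algebra.smul_def]
    rfl)
  letI : Algebra A (R j) := (a j).toAlgebra
  haveI : Module.Flat A (R j) := hflat j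
  have h0 : ∑ k, f k • s (r k) = 0 := by
    rw [map_sum] at hs0
    refine Eq.trans (Finset.sum_congr rfl fun k _ => ?_) hs0
    rw [map_mul, ← RingHom.comp_apply, hsa, Algebra.smul_def]
    rfl
  obtain ⟨n, c, y, hy, hc⟩ := Module.Flat.isTrivialRelation_of_sum_smul_eq_zero (R := A) (M := R j) (f := f) (x := fun k => s (r k)) h0
  refine ⟨n, c, fun m => t j (y m), fun k => ?_, hc⟩
  rw [← hr, show t i (r k) = t j (s (r k)) from (RingHom.congr_fun hst (r k)).symm, show s (r k) = _ from hy k, map_sum]
  refine Finset.sum_congr rfl fun m _ => ?_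
  rw [Algebra.smul_def, Algebra.smul_def, map_mul]
  congr 1
  exact RingHom.congr_fun (ht j) _

/-- The sections of an affine Henselian spectrum are flat. -/
theorem flat_of_isHensAway (I : Ideal A) (f : A) {B : Type u} [CommRing B] {φ : A →+* B}
    (h : HensSch.IsHensAway A I f B φ) : φ.Flat := by
  obtain ⟨hu, hhens, huniv⟩ := h
  let ψ : Localization.Away f →+* B := IsLocalization.Away.lift f hu
  have hψ : ψ.comp (algebraMap A (Localization.Away f)) = φ := IsLocalization.Away.lift_comp f hu
  letI : Algebra (Localization.Away f) B := ψ.toAlgebra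
  letI : Algebra A B := φ.toAlgebra
  haveI : IsScalarTower A (Localization.Away f) B := .of_algebraMap_eq' hψ.symm
  have hP : Hens2.IsPairHenselization (Localization.Away f) (I.map (algebraMap A (Localization.Away f))) B := by
    refine ⟨?_, fun C _ J g hC hJ => ?_⟩
    · show HenselianRing B ((I.map (algebraMap A (Localization.Away f))).map ψ)
      rw [Ideal.map_map, hψ]
      exact hhens
    · have hunit : IsUnit (g.comp (algebraMap A (Localization.Away f)) f) :=
        (IsLocalization.Away.algebraMap_isUnit f).map g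
      obtain ⟨k, hk, hk'⟩ := huniv C J (g.comp (algebraMap A (Localization.Away f))) hC
        (by rw [← Ideal.map_map]; exact hJ) hunit
      refine ⟨k, IsLocalization.ringHom_ext (Submonoid.powers f) ?_, fun g' hg' => hk' g' ?_⟩
      · show (k.comp ψ).comp (algebraMap A (Localization.Away f)) = _
        rw [RingHom.comp_assoc, hψ, hk]
      · have e : g'.comp ψ = g := hg'
        show g'.comp φ = _
        rw [← hψ, ← RingHom.comp_assoc, e]
  haveI := Groth.Agent.PairHens.flat_of_isPairHenselization hP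
  show Module.Flat A B
  exact Module.Flat.trans A (Localization.Away f) B

variable {X : LocallyRingedSpace.{u}} {π : X ⟶ HensSch.specLRS A} {I : Ideal A}

/-- The map from `A` to a stalk. -/
noncomputable abbrev toStk (π : X ⟶ HensSch.specLRS A) (x : X) : A →+* X.presheaf.stalk x :=
  (π.stalkMap x).hom.comp (StructureSheaf.toStalk A (π.base x)).hom

theorem germ_secMap (π : X ⟶ HensSch.specLRS A) (U : Opens (PrimeSpectrum A)) (x : X) (hx : π.base x ∈ U) (a : A) :
    X.presheaf.germ ((Opens.map π.base).obj U) x hx (HensSch.secMap π U a) = toStk π x a := by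
  show X.presheaf.germ ((Opens.map π.base).obj U) x hx
      (X.presheaf.map ((Opens.map π.base).map (homOfLE le_top)).op
        (π.c.app (op ⊤) ((Scheme.ΓSpecIso (CommRingCat.of A)).inv a))) = _
  rw [TopCat.Presheaf.germ_res_apply]
  exact (congr($(LocallyRingedSpace.stalkMap_germ π ⊤ x trivial)
    ((Scheme.ΓSpecIso (CommRingCat.of A)).inv a))).symm

theorem flat_toStk (hX : HensSch.IsSph A I X π) (x : X) : (toStk π x).Flat := by
  obtain ⟨hemb, -, haway⟩ := hX
  have hbasis : ∀ U : Opens X, x ∈ U → ∃ f : A, x ∈ HensSch.dOpen π f ∧ HensSch.dOpen π f ≤ U := by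
    intro U hxU
    obtain ⟨U', hU', e⟩ := hemb.isInducing.isOpen_iff.1 U.2
    obtain ⟨_, ⟨f, rfl⟩, hxf, hfU⟩ :=
      PrimeSpectrum.isTopologicalBasis_basic_opens.exists_subset_of_mem_open
        (show π.base x ∈ U' from (Set.ext_iff.1 e x).2 hxU) hU'
    exact ⟨f, hxf, fun y hy => (Set.ext_iff.1 e y).1 (hfU hy)⟩
  refine flat_of_stages (toStk π x) (ι := {f : A // x ∈ HensSch.dOpen π f})
    (fun f => X.presheaf.obj (op (HensSch.dOpen π f.1))) (fun f => HensSch.secMap π (PrimeSpectrum.basicOpen f.1))
    (fun f => (X.presheaf.germ (HensSch.dOpen π f.1) x f.2).hom)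
    (fun f => RingHom.ext fun a => germ_secMap π _ x f.2 a) (fun f => flat_of_isHensAway I f.1 (haway f.1)) ?_ ?_
  · intro n b
    choose U hU s hs using fun k => TopCat.Presheaf.exists_germ_eq X.presheaf (b k)
    let V : Opens X := ⟨⋂ k, SetLike.coe (U k), isOpen_iInter_of_finite fun k => (U k).2⟩
    obtain ⟨f, hxf, hfV⟩ := hbasis V (Set.mem_iInter.2 hU)
    have hle : ∀ k, HensSch.dOpen π f ≤ U k := fun k y hy => Set.mem_iInter.1 (hfV hy) k
    refine ⟨⟨f, hxf⟩, fun k => X.presheaf.map (homOfLE (hle k)).op (s k), fun k => ?_⟩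
    show X.presheaf.germ (HensSch.dOpen π f) x hxf _ = b k
    rw [TopCat.Presheaf.germ_res_apply, hs]
  · intro i r hr
    obtain ⟨W, hxW, u₁, u₂, he⟩ := TopCat.Presheaf.germ_eq X.presheaf x i.2 i.2 r 0 (hr.trans (map_zero _).symm)
    obtain ⟨g, hxg, hgW⟩ := hbasis W hxW
    have hle : HensSch.dOpen π (i.1 * g) ≤ HensSch.dOpen π i.1 := fun y hy =>
      PrimeSpectrum.basicOpen_mul_le_left i.1 g hy
    have hle' : HensSch.dOpen π (i.1 * g) ≤ W := fun y hy => hgW (PrimeSpectrum.basicOpen_mul_le_right i.1 g hy)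
    have hx : x ∈ HensSch.dOpen π (i.1 * g) := by
      show π.base x ∈ PrimeSpectrum.basicOpen (i.1 * g)
      rw [PrimeSpectrum.basicOpen_mul]
      exact ⟨i.2, hxg⟩
    refine ⟨⟨i.1 * g, hx⟩, (X.presheaf.map (homOfLE hle).op).hom, RingHom.ext fun a => ?_,
      RingHom.ext fun a => TopCat.Presheaf.germ_res_apply X.presheaf (homOfLE hle) x hx a, ?_⟩
    · show X.presheaf.map (homOfLE hle).op (X.presheaf.map _ _) = X.presheaf.map _ _
      rw [← CategoryTheory.ConcreteCategory.comp_apply, ← Functor.map_comp]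
      rfl
    · show X.presheaf.map (homOfLE hle).op r = 0
      have e1 : X.presheaf.map (homOfLE hle).op r =
          X.presheaf.map (homOfLE hle').op (X.presheaf.map u₁.op r) := by
        rw [← CategoryTheory.ConcreteCategory.comp_apply, ← Functor.map_comp]
        rfl
      rw [e1, he, map_zero, map_zero]

/-- The stalk maps of an affine Henselian spectrum are flat. -/
theorem flat_stalkMap (hX : HensSch.IsSph A I X π) (x : X) : (π.stalkMap x).hom.Flat := by
  have h := flat_toStk hX x
  let S := (HensSch.specLRS A).presheaf.stalk (π.base x)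
  letI : Algebra A S := (StructureSheaf.toStalk A (π.base x)).hom.toAlgebra
  haveI : IsLocalization.AtPrime S (π.base x).asIdeal := StructureSheaf.IsLocalization.to_stalk A (π.base x)
  letI : Algebra S (X.presheaf.stalk x) := (π.stalkMap x).hom.toAlgebra
  letI : Algebra A (X.presheaf.stalk x) := (toStk π x).toAlgebra
  haveI : IsScalarTower A S (X.presheaf.stalk x) := .of_algebraMap_eq fun _ => rfl
  show Module.Flat S (X.presheaf.stalk x)
  exact (Module.flat_iff_of_isLocalization S (π.base x).asIdeal.primeCompl (X.presheaf.stalk x)).2 h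

theorem flat_stalkMap_congr {U V : LocallyRingedSpace.{u}} {f g : U ⟶ V} (e : f = g) (x : U)
    (h : (f.stalkMap x).hom.Flat) : (g.stalkMap x).hom.Flat := by
  subst e
  exact h

/-- The stalk maps of a Henselization of a scheme are flat. -/
theorem flat_stalkMap_henselization {S : Scheme.{u}} {Y : Set S} {Xh : LocallyRingedSpace.{u}}
    {ι : Xh ⟶ S.toLocallyRingedSpace} (h : HensSch.IsHenselizationAlong S Y Xh ι) (x : Xh) :
    (ι.stalkMap x).hom.Flat := by
  obtain ⟨-, -, hrange, hloc⟩ := h
  obtain ⟨B, _, j, hj, hxj, V, v, hv, π', hvr, he, hsph⟩ := hloc (ι.base x) (hrange ▸ ⟨x, rfl⟩)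
  haveI := hj
  haveI := hv
  obtain ⟨z, rfl⟩ : x ∈ Set.range v.base := by rw [hvr]; exact hxj
  have h2 : (ι.stalkMap (v.base z) ≫ v.stalkMap z).hom.Flat := by
    rw [← LocallyRingedSpace.stalkMap_comp]
    refine flat_stalkMap_congr he.symm z ?_
    rw [LocallyRingedSpace.stalkMap_comp]
    exact RingHom.Flat.comp
      (RingHom.Flat.of_bijective (ConcreteCategory.bijective_of_isIso (j.stalkMap (π'.base z))))
      (flat_stalkMap hsph z)
  have h3 : (ι.stalkMap (v.base z)).hom =
      (inv (v.stalkMap z)).hom.comp (ι.stalkMap (v.base z) ≫ v.stalkMap z).hom := by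
    rw [← CommRingCat.hom_comp, Category.assoc, IsIso.hom_inv_id, Category.comp_id]
  rw [h3]
  exact RingHom.Flat.comp h2 (RingHom.Flat.of_bijective (ConcreteCategory.bijective_of_isIso _))

/-- Inverse images along maps of locally ringed spaces with flat stalk maps are exact. -/
theorem preservesFiniteLimits_pullMod {X' Y' : LocallyRingedSpace.{u}} (g : X' ⟶ Y')
    (h : ∀ x, (g.stalkMap x).hom.Flat) : PreservesFiniteLimits (HensSch.pullMod g) :=
  Groth.Agent.RSpLib.isFlat_of_stalks (O := X'.sheaf) (O' := Y'.sheaf) g.base ⟨g.c⟩ h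

end Groth.Agent.HensSchLib
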