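import Groth.Agent.HensSchLib.Separated
import Groth.Agent.FormalSysLib.ProjCase

/-!
# Full faithfulness of the inverse image on coherent modules on a proper scheme over a complete ring
-/

set_option autoImplicit false
set_option backward.isDefEq.respectTransparency false
set_option linter.style.haveILetI false
set_option linter.unusedSectionVars false

universe u

open CategoryTheory CategoryTheory.Limits Opposite TopologicalSpace AlgebraicGeometry
open Groth.Agent.CohBase Groth.Agent.ProjCoh Groth.Agent.QCohLib Groth.Agent.FormalSys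

noncomputable section

namespace Groth.Agent.HensSchLib

open Groth.Agent.RSpLib Groth.Agent.ModTensor

variable {A : Type u} [CommRing A] [IsNoetherianRing A] {I : Ideal A} [IsAdicComplete I A]
  {X : Scheme.{u}} [X.Over (Spec (CommRingCat.of A))] [IsProper (X ↘ Spec (CommRingCat.of A))]
  {Xh : LocallyRingedSpace.{u}} {ι : Xh ⟶ X.toLocallyRingedSpace}

theorem existsUnique_hom_of_pullMod (hh : HensSch.IsHenselizationAlong X (zeroY I X) Xh ι) {F G : X.Modules}
    (hF : Coh.IsCoh F) (hG : Coh.IsCoh G) (ψ : (HensSch.pullMod ι).obj F ⟶ (HensSch.pullMod ι).obj G) :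
    ∃! φ : F ⟶ G, (HensSch.pullMod ι).map φ = ψ := by
  haveI : IsLocallyNoetherian X := LocallyOfFiniteType.isLocallyNoetherian (X ↘ Spec (CommRingCat.of A))
  haveI : CompactSpace X := QuasiCompact.compactSpace_of_compactSpace (X ↘ Spec (CommRingCat.of A))
  haveI : AlgebraicGeometry.IsNoetherian X := { }
  let P := HensSch.pullMod ι
  let adj := HensSch.pullPushAdj ι
  let T : ℕ → X.Modules := fun n => Formal.modPow I (n + 1) G
  let π : ∀ n, G ⟶ T n := fun n => Formal.modPowπ I (n + 1) G
  have hT : ∀ n, Formal.KilledBy (I ^ (n + 1)) (T n) := fun n => (isCohFormal_completion hG I).2.1 n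
  haveI hiso : ∀ n, IsIso (adj.unit.app (T n)) := fun n => isIso_unit hh (hT n)
  let u : ∀ n, F ⟶ (HensSch.pushMod ι).obj (P.obj (T n)) := fun n => adj.homEquiv _ _ (ψ ≫ P.map (π n))
  let g : ∀ n, F ⟶ T n := fun n => u n ≫ inv (adj.unit.app (T n))
  have hg : ∀ n, g n ≫ adj.unit.app (T n) = u n := fun n => by
    show (u n ≫ inv _) ≫ _ = _
    rw [Category.assoc, IsIso.inv_hom_id, Category.comp_id]
  have hk : ∀ n, Formal.smulFamily (I ^ (n + 1)) F ≫ g n = 0 := fun n => by
    refine Sigma.hom_ext _ _ fun a => ?_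
    rw [comp_zero, ← Category.assoc, show Sigma.ι (fun _ : ↥(I ^ (n + 1)) => F) a ≫
      Formal.smulFamily (I ^ (n + 1)) F = Formal.smulMod A F a by simp [Formal.smulFamily],
      FormalLib.smulMod_natural, hT n a a.2, comp_zero]
  let f : ∀ n, (Formal.completion I F).obj (op n) ⟶ (Formal.completion I G).obj (op n) := fun n =>
    cokernel.desc _ (g n) (hk n)
  have hf : ∀ n, Formal.modPowπ I (n + 1) F ≫ f n = g n := fun n => cokernel.π_desc _ _ _
  have hnat : ∀ {n k : ℕ} (h : n ≤ k), tr (Formal.completion I F) h ≫ f n = f k ≫ tr (Formal.completion I G) h := by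
    intro n k h
    refine (cancel_epi (cokernel.π (Formal.smulFamily (I ^ (k + 1)) F))).1 ?_
    change Formal.modPowπ I (k + 1) F ≫ tr (Formal.completion I F) h ≫ f n =
      Formal.modPowπ I (k + 1) F ≫ f k ≫ tr (Formal.completion I G) h
    rw [← Category.assoc, ← Category.assoc]
    refine (congrArg (· ≫ f n) (modPowπ_tr I F h)).trans ((hf n).trans ?_)
    refine Eq.trans ?_ (congrArg (· ≫ tr (Formal.completion I G) h) (hf k)).symm
    haveI := hiso n
    refine (cancel_mono (adj.unit.app (T n))).1 ?_
    rw [hg, Category.assoc]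
    have e := adj.unit.naturality (tr (Formal.completion I G) h)
    refine Eq.trans ?_ (congrArg (g k ≫ ·) e.symm)
    show u n = g k ≫ adj.unit.app (T k) ≫ (HensSch.pushMod ι).map (P.map (tr (Formal.completion I G) h))
    rw [← Category.assoc, hg, ← adj.homEquiv_naturality_right, Category.assoc, ← P.map_comp]
    show adj.homEquiv _ _ (ψ ≫ P.map (π n)) = _
    rw [show π k ≫ tr (Formal.completion I G) h = π n from modPowπ_tr I G h]
    rfl
  obtain ⟨α, hα⟩ := exists_natTrans f hnat
  obtain ⟨φ, hφ, huniq⟩ := existsUnique_of_completion_proper hF hG α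
  -- a map is determined by its reductions
  have hred : ∀ (φ' : F ⟶ G) n, adj.homEquiv _ _ (P.map φ' ≫ P.map (π n)) = φ' ≫ π n ≫ adj.unit.app (T n) := by
    intro φ' n
    rw [← P.map_comp, Adjunction.homEquiv_unit]
    exact (adj.unit.naturality (φ' ≫ π n)).symm.trans (Category.assoc _ _ _)
  refine ⟨φ, ?_, fun φ' h' => huniq φ' fun n => ?_⟩
  · have hd : ∀ n, (P.map φ - ψ) ≫ P.map (π n) = 0 := fun n => by
      rw [Preadditive.sub_comp, sub_eq_zero]
      refine (adj.homEquiv _ _).injective ((hred φ n).trans ?_)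
      rw [← Category.assoc, ← hφ n, hα n, hf n]
      exact hg n
    have h0 : adj.homEquiv _ _ (P.map φ - ψ) = adj.homEquiv _ _ (0 : P.obj F ⟶ P.obj G) := by
      refine Scheme.Modules.hom_ext _ _ fun U => AddCommGrpCat.hom_ext (AddMonoidHom.ext fun s => ?_)
      rw [Adjunction.homEquiv_unit, Adjunction.homEquiv_unit]
      have hz : lin ((preFunctor Xh.sheaf).map (P.map φ - ψ)) (op (preO ι U)) (un ι F s) = 0 := by
        refine eq_zero_of_forall_mod hh hG _ fun n => ?_
        exact congr((($(hd n))).val.app (op (preO ι U)) (un ι F s))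
      exact hz
    exact sub_eq_zero.1 ((adj.homEquiv _ _).injective h0)
  · rw [hα n, hf n]
    haveI := hiso n
    refine (cancel_mono (adj.unit.app (T n))).1 ?_
    rw [hg, Category.assoc, ← hred φ' n, h']

end Groth.Agent.HensSchLib
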