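import Groth.Prelude.Def_HensSch
import Groth.Agent.HensSchLib.EtQcoh
import Groth.Agent.HensSchLib.Common

/-!
# Gluing elements of base changes to Henselizations of distinguished opens

For a Henselian pair `(A, I)`, a module `N`, distinguished opens `D(f_k)` covering `V(I)` and elements of
`S_k ⊗ N` which agree in `S_kl ⊗ N`, there is an element of `N` inducing them. This is Gabber's theorem for
global sections applied to the étale sheaf of `N`.
-/

set_option autoImplicit false
set_option linter.style.haveILetI false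
set_option linter.unusedSectionVars false
set_option backward.isDefEq.respectTransparency false
set_option backward.isDefEq.respectTransparency.types false
set_option maxHeartbeats 1600000

universe u

open CategoryTheory CategoryTheory.Limits AlgebraicGeometry Opposite
open scoped TensorProduct
open Groth.Agent.EtAssocLib

noncomputable section

namespace Groth.Agent.HensSchLib

variable {A : Type u} [CommRing A] (I : Ideal A) (F : (SpA A).Modules) [Coh.IsQCoh F]

/-- The closed part. -/
abbrev clo : SpA (A ⧸ I) ⟶ SpA A := Spec.map (CommRingCat.ofHom (Ideal.Quotient.mk I))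

theorem isIso_bc_Wmap {C C' : Type u} [CommRing C] [Algebra A C] [Algebra.Etale A C] [CommRing C'] [Algebra A C']
    [Algebra.Etale A C'] (h : C →ₐ[A] C')
    (hinj : ∀ c, h c ∈ I.map (algebraMap A C') → c ∈ I.map (algebraMap A C))
    (hsurj : ∀ c', ∃ c, c' - h c ∈ I.map (algebraMap A C')) :
    IsIso ((EtCoh.bc (clo I)).map (Wmap h)) := by
  let m : C ⊗[A] (A ⧸ I) →ₐ[A] C' ⊗[A] (A ⧸ I) := Algebra.TensorProduct.map h (AlgHom.id A (A ⧸ I))
  have hone : ∀ (B : Type u) [CommRing B] [Algebra A B] (b : B),
      Algebra.TensorProduct.quotIdealMapEquivTensorQuot B I (Ideal.Quotient.mk _ b) = b ⊗ₜ[A] (1 : A ⧸ I) :=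
    fun B _ _ b => (Algebra.TensorProduct.quotIdealMapEquivTensorQuot B I).commutes b
  have hm : ∀ b, m (Algebra.TensorProduct.quotIdealMapEquivTensorQuot C I (Ideal.Quotient.mk _ b)) =
      Algebra.TensorProduct.quotIdealMapEquivTensorQuot C' I (Ideal.Quotient.mk _ (h b)) := fun b => by
    rw [hone, hone]
    rfl
  have hbij : Function.Bijective m := by
    constructor
    · rw [injective_iff_map_eq_zero]
      intro x hx
      obtain ⟨q, rfl⟩ := (Algebra.TensorProduct.quotIdealMapEquivTensorQuot C I).surjective x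
      obtain ⟨b, rfl⟩ := Ideal.Quotient.mk_surjective q
      rw [hm, EmbeddingLike.map_eq_zero_iff, Ideal.Quotient.eq_zero_iff_mem] at hx
      rw [Ideal.Quotient.eq_zero_iff_mem.2 (hinj b hx), map_zero]
    · intro y
      obtain ⟨q, rfl⟩ := (Algebra.TensorProduct.quotIdealMapEquivTensorQuot C' I).surjective y
      obtain ⟨b', rfl⟩ := Ideal.Quotient.mk_surjective q
      obtain ⟨b, hb⟩ := hsurj b'
      refine ⟨Algebra.TensorProduct.quotIdealMapEquivTensorQuot C I (Ideal.Quotient.mk _ b), ?_⟩
      rw [hm]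
      exact congrArg _ (Ideal.Quotient.eq.2 hb).symm
  haveI : IsIso (CommRingCat.ofHom m.toRingHom) :=
    (ConcreteCategory.isIso_iff_bijective _).2 hbij
  have key : ((EtCoh.bc (clo I)).map (Wmap h)).left = (pullbackSpecIso A C' (A ⧸ I)).hom ≫
      Spec.map (CommRingCat.ofHom m.toRingHom) ≫ (pullbackSpecIso A C (A ⧸ I)).inv := by
    refine pullback.hom_ext (f := (Wob C).hom) (g := clo I) ?_ ?_
    · refine ((EtCoh.isPullback_bc_map (clo I) (Wmap h)).w.trans ?_).trans
        (congrArg (fun t => (pullbackSpecIso A C' (A ⧸ I)).hom ≫ Spec.map (CommRingCat.ofHom m.toRingHom) ≫ t)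
          (pullbackSpecIso_inv_fst A C (A ⧸ I)).symm |>.trans (by simp only [Category.assoc]; rfl))
      rw [← Spec.map_comp]
      show pullback.fst _ _ ≫ Spec.map (CommRingCat.ofHom h.toRingHom) = _
      rw [show CommRingCat.ofHom Algebra.TensorProduct.includeLeftRingHom ≫ CommRingCat.ofHom m.toRingHom =
        CommRingCat.ofHom h.toRingHom ≫ CommRingCat.ofHom Algebra.TensorProduct.includeLeftRingHom from
        CommRingCat.hom_ext (RingHom.ext fun b => by simp [m]), Spec.map_comp, pullbackSpecIso_hom_fst_assoc]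
      rfl
    · refine Eq.trans ?_
        (congrArg (fun t => (pullbackSpecIso A C' (A ⧸ I)).hom ≫ Spec.map (CommRingCat.ofHom m.toRingHom) ≫ t)
          (pullbackSpecIso_inv_snd A C (A ⧸ I)).symm |>.trans (by simp only [Category.assoc]; rfl))
      rw [← Spec.map_comp]
      rw [show CommRingCat.ofHom (Algebra.TensorProduct.includeRight (R := A) (A := C) (B := A ⧸ I) : (A ⧸ I) →+* C ⊗[A] (A ⧸ I)) ≫
          CommRingCat.ofHom m.toRingHom =
          CommRingCat.ofHom (Algebra.TensorProduct.includeRight (R := A) (A := C') (B := A ⧸ I) : (A ⧸ I) →+* C' ⊗[A] (A ⧸ I)) from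
        CommRingCat.hom_ext (RingHom.ext fun b => by simp [m])]
      rw [show (pullbackSpecIso A C' (A ⧸ I)).hom ≫ Spec.map (CommRingCat.ofHom
          (Algebra.TensorProduct.includeRight (R := A) (A := C') (B := A ⧸ I) : (A ⧸ I) →+* C' ⊗[A] (A ⧸ I))) = pullback.snd _ _ from
        pullbackSpecIso_hom_snd A C' (A ⧸ I)]
      exact MorphismProperty.Over.w ((EtCoh.bc (clo I)).map (Wmap h))
  haveI : IsIso ((EtCoh.bc (clo I)).map (Wmap h)).left := by rw [key]; infer_instance
  haveI : IsIso ((Over.forget _).map ((Scheme.Etale.forget _).map ((EtCoh.bc (clo I)).map (Wmap h)))) :=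
    ‹IsIso ((EtCoh.bc (clo I)).map (Wmap h)).left›
  haveI : IsIso ((Scheme.Etale.forget _).map ((EtCoh.bc (clo I)).map (Wmap h))) :=
    isIso_of_reflects_iso (F := Over.forget _) _
  exact isIso_of_reflects_iso _ (Scheme.Etale.forget _)

/-- The sheaf of sections near the closed part. -/
abbrev Gsh : EtCoh.Ab (SpA A) := (EtCoh.push (clo I)).obj ((EtCoh.pull (clo I)).obj (Esh F))

/-- Restriction to the closed part. -/
abbrev eta : Esh F ⟶ Gsh I F := (EtCoh.pullPushAdj (clo I)).unit.app (Esh F)

theorem bijective_Gsh_map {C C' : Type u} [CommRing C] [Algebra A C] [Algebra.Etale A C] [CommRing C'] [Algebra A C']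
    [Algebra.Etale A C'] (h : C →ₐ[A] C')
    (hinj : ∀ c, h c ∈ I.map (algebraMap A C') → c ∈ I.map (algebraMap A C))
    (hsurj : ∀ c', ∃ c, c' - h c ∈ I.map (algebraMap A C')) :
    Function.Bijective ((Gsh I F).obj.map (Wmap h).op) := by
  haveI := isIso_bc_Wmap I h hinj hsurj
  exact ConcreteCategory.bijective_of_isIso (((EtCoh.pull (clo I)).obj (Esh F)).obj.map
    ((EtCoh.bc (clo I)).map (Wmap h)).op)

theorem subsingleton_Gsh {Z : (SpA A).Etale} (hZ : ∀ z : Z.left, Z.hom z ∉ Set.range (clo I)) :
    Subsingleton (EtCoh.sect (Gsh I F) Z) := by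
  have he : IsEmpty ((EtCoh.bc (clo I)).obj Z).left := ⟨fun w =>
    hZ ((pullback.fst Z.hom (clo I) : ((EtCoh.bc (clo I)).obj Z).left ⟶ Z.left) w)
      ⟨(pullback.snd Z.hom (clo I) : ((EtCoh.bc (clo I)).obj Z).left ⟶ SpA (A ⧸ I)) w, by
        rw [← Scheme.Hom.comp_apply, ← Scheme.Hom.comp_apply]
        exact congrArg (fun t : ((EtCoh.bc (clo I)).obj Z).left ⟶ SpA A => t w) pullback.condition.symm⟩⟩
  exact @Unique.instSubsingleton _ (Types.isTerminalEquivUnique _ (Sheaf.isTerminalOfBotCover
    ((sheafCompose (SpA (A ⧸ I)).smallEtaleTopology (forget AddCommGrpCat.{u + 1})).obj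
      ((EtCoh.pull (clo I)).obj (Esh F))) _ (EtPtsLib.bot_mem_of_isEmpty he)))

theorem map_map_Gsh {U V W : (SpA A).Etale} (a : W ⟶ V) (b : V ⟶ U) (s : EtCoh.sect (Gsh I F) U) :
    (Gsh I F).obj.map a.op ((Gsh I F).obj.map b.op s) = (Gsh I F).obj.map (a ≫ b).op s :=
  (congr($((Gsh I F).obj.map_comp b.op a.op) s)).symm

theorem range_clo : Set.range (clo I) = PrimeSpectrum.zeroLocus (I : Set A) :=
  (range_comap_of_surjective _ _ Ideal.Quotient.mk_surjective).trans (by rw [Ideal.mk_ker])

theorem hom_ext_Wob {R : Type u} [CommRing R] [Algebra A R] [Algebra.Etale A R]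
    [Mono (Spec.map (CommRingCat.ofHom (algebraMap A R)))] {Z : (SpA A).Etale} (a b : Z ⟶ Wob R) : a = b :=
  MorphismProperty.Over.Hom.ext ((cancel_mono (Spec.map (CommRingCat.ofHom (algebraMap A R)))).1
    ((MorphismProperty.Over.w a).trans (MorphismProperty.Over.w b).symm))

/-- Passage from the reduction of a stage over a localization. -/
theorem quot_conditions {R C : Type u} [CommRing R] [CommRing C] [Algebra A R] [Algebra A C] [Algebra R C]
    [IsScalarTower A R C] (hg : GoodStage (I.map (algebraMap A R)) C) :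
    (∀ c, IsScalarTower.toAlgHom A R C c ∈ I.map (algebraMap A C) → c ∈ I.map (algebraMap A R)) ∧
      ∀ c', ∃ c, c' - IsScalarTower.toAlgHom A R C c ∈ I.map (algebraMap A C) := by
  have e : (I.map (algebraMap A R)).map (algebraMap R C) = I.map (algebraMap A C) := by
    rw [Ideal.map_map, ← IsScalarTower.algebraMap_eq]
  refine ⟨fun c hc => ?_, fun c' => ?_⟩
  · rw [← Ideal.Quotient.eq_zero_iff_mem]
    refine hg.1 ?_
    rw [map_zero, Ideal.quotientMap_mk, Ideal.Quotient.eq_zero_iff_mem, e]
    exact hc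
  · obtain ⟨q, hq⟩ := hg.2 (Ideal.Quotient.mk _ c')
    obtain ⟨c, rfl⟩ := Ideal.Quotient.mk_surjective q
    rw [Ideal.quotientMap_mk, Ideal.Quotient.eq, e] at hq
    exact ⟨c, by simpa using neg_mem hq⟩

theorem isOpenImmersion_Wob {f : A} (R : Type u) [CommRing R] [Algebra A R] [IsLocalization.Away f R] :
    IsOpenImmersion (Spec.map (CommRingCat.ofHom (algebraMap A R))) := IsOpenImmersion.of_isLocalization f

variable [HenselianRing A I]

theorem bijective_eta_Wob : Function.Bijective ((eta I F).hom.app (op (Wob A))) := by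
  let t : Wob (A := A) A ⟶ EtCoh.top (SpA A) := HensH0.toTop _
  haveI : IsIso t.left := by
    show IsIso (Spec.map (CommRingCat.ofHom (algebraMap A A)))
    rw [Algebra.algebraMap_self, CommRingCat.ofHom_id, Spec.map_id]
    infer_instance
  haveI : IsIso ((Over.forget _).map ((Scheme.Etale.forget _).map t)) := ‹IsIso t.left›
  haveI : IsIso ((Scheme.Etale.forget _).map t) := isIso_of_reflects_iso (F := Over.forget _) _
  haveI : IsIso t := isIso_of_reflects_iso _ (Scheme.Etale.forget _)
  have h1 := ConcreteCategory.bijective_of_isIso ((Esh F).obj.map t.op)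
  have h2 := ConcreteCategory.bijective_of_isIso ((Gsh I F).obj.map t.op)
  have h3 := h2.comp (HensH0.bijective_unit_top_spec I (Esh F))
  have e : ((eta I F).hom.app (op (Wob A))) ∘ ((Esh F).obj.map t.op) =
      ((Gsh I F).obj.map t.op) ∘ ((eta I F).hom.app (op (EtCoh.top (SpA A)))) :=
    funext fun s => HensH0.naturality_apply (eta I F) t s
  exact (Function.Bijective.of_comp_iff _ h1).1 (e ▸ h3)

/-- Compatible elements of base changes to Henselizations of distinguished opens glue. -/
theorem exists_glue_tensor {n : ℕ} (f : Fin n → A)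
    (hcov : ∀ p : PrimeSpectrum A, p ∈ PrimeSpectrum.zeroLocus (I : Set A) → ∃ k, f k ∉ p.asIdeal)
    (S : Fin n → Type u) [∀ k, CommRing (S k)] [∀ k, Algebra A (S k)]
    (hS : ∀ k, HensSch.IsHensAway A I (f k) (S k) (algebraMap A (S k)))
    (S2 : Fin n → Fin n → Type u) [∀ k l, CommRing (S2 k l)] [∀ k l, Algebra A (S2 k l)]
    (hS2 : ∀ k l, HensSch.IsHensAway A I (f k * f l) (S2 k l) (algebraMap A (S2 k l)))
    (r1 : ∀ k l, S k →ₐ[A] S2 k l) (r2 : ∀ k l, S l →ₐ[A] S2 k l)
    (x : ∀ k, S k ⊗[A] Nmod F)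
    (hx : ∀ k l, (r1 k l).toLinearMap.rTensor (Nmod F) (x k) = (r2 k l).toLinearMap.rTensor (Nmod F) (x l)) :
    ∃ m : Nmod F, ∀ k, (1 : S k) ⊗ₜ[A] m = x k := by
  classical
  haveI : ∀ g : A, Algebra.Etale A (Localization.Away g) := fun g => Algebra.Etale.of_isLocalizationAway g
  haveI : ∀ g : A, IsOpenImmersion (Spec.map (CommRingCat.ofHom (algebraMap A (Localization.Away g)))) :=
    fun g => isOpenImmersion_Wob (f := g) _
  let R := fun k => Localization.Away (f k)
  letI algS : ∀ k, Algebra (R k) (S k) := fun k => (IsLocalization.Away.lift (f k) (hS k).1).toAlgebra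
  haveI : ∀ k, IsScalarTower A (R k) (S k) := fun k =>
    .of_algebraMap_eq' (IsLocalization.Away.lift_comp (f k) (hS k).1).symm
  choose C cC aRC eC aAC tC φ c hgood hc using fun k =>
    exists_good_tensor_lift (isPairHenselization_away (hS k)) (x k)
  haveI : ∀ k, Algebra.Etale A (C k) := fun k => by
    haveI := Algebra.Etale.comp A (R k) (C k)
    exact this
  let p := fun k => IsScalarTower.toAlgHom A (R k) (C k)
  have hp := fun k => quot_conditions (C := C k) I (hgood k)
  choose g hg using fun k =>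
    (bijective_Gsh_map I F (p k) (hp k).1 (hp k).2).2 ((eta I F).hom.app (op (Wob (C k))) (el F (C k) (c k)))
  -- agreement on the overlaps
  have hagree : ∀ k l (a : Wob (Localization.Away (f k * f l)) ⟶ Wob (R k))
      (b : Wob (Localization.Away (f k * f l)) ⟶ Wob (R l)),
      (Gsh I F).obj.map a.op (g k) = (Gsh I F).obj.map b.op (g l) := by
    intro k l a b
    let Q := Localization.Away (f k * f l)
    letI : Algebra Q (S2 k l) := (IsLocalization.Away.lift (f k * f l) (hS2 k l).1).toAlgebra
    haveI : IsScalarTower A Q (S2 k l) :=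
      .of_algebraMap_eq' (IsLocalization.Away.lift_comp (f k * f l) (hS2 k l).1).symm
    let D := C k ⊗[A] C l
    haveI : Algebra.Etale A D := Algebra.Etale.comp A (C k) D
    have hu : IsUnit (algebraMap A D (f k * f l)) := by
      rw [map_mul]
      refine IsUnit.mul ?_ ?_
      · rw [IsScalarTower.algebraMap_apply A (R k) (C k) (f k) |> congrArg
          (Algebra.TensorProduct.includeLeft : C k →ₐ[A] D) |> Eq.trans (AlgHom.commutes _ _).symm]
        exact ((IsLocalization.Away.algebraMap_isUnit (f k)).map (algebraMap (R k) (C k))).map _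
      · rw [IsScalarTower.algebraMap_apply A (R l) (C l) (f l) |> congrArg
          (Algebra.TensorProduct.includeRight : C l →ₐ[A] D) |> Eq.trans (AlgHom.commutes _ _).symm]
        exact ((IsLocalization.Away.algebraMap_isUnit (f l)).map (algebraMap (R l) (C l))).map _
    letI : Algebra Q D := (IsLocalization.Away.lift (f k * f l) hu).toAlgebra
    haveI : IsScalarTower A Q D := .of_algebraMap_eq' (IsLocalization.Away.lift_comp (f k * f l) hu).symm
    haveI : Algebra.Etale Q D := Algebra.Etale.of_restrictScalars A Q D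
    let Φ₀ : D →ₐ[A] S2 k l := Algebra.TensorProduct.lift ((r1 k l).comp ((φ k).restrictScalars A))
      ((r2 k l).comp ((φ l).restrictScalars A)) fun _ _ => Commute.all _ _
    let Φ : D →ₐ[Q] S2 k l :=
      { Φ₀ with
        commutes' := RingHom.congr_fun (IsLocalization.ringHom_ext (Submonoid.powers (f k * f l))
          (j := Φ₀.toRingHom.comp (algebraMap Q D)) (k := algebraMap Q (S2 k l)) (by
            rw [RingHom.comp_assoc, ← IsScalarTower.algebraMap_eq, ← IsScalarTower.algebraMap_eq]
            exact Φ₀.comp_algebraMap)) }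
    haveI : Module.Flat A (S2 k l) := RingHom.flat_algebraMap_iff.1 (flat_of_isHensAway I (f k * f l) (hS2 k l))
    let i1 : C k →ₐ[A] D := Algebra.TensorProduct.includeLeft
    let i2 : C l →ₐ[A] D := Algebra.TensorProduct.includeRight
    let z : D ⊗[A] Nmod F := i1.toLinearMap.rTensor _ (c k) - i2.toLinearMap.rTensor _ (c l)
    have hz : tmap Φ z = 0 := by
      show Φ₀.toLinearMap.rTensor _ z = 0
      have e1 : Φ₀.toLinearMap ∘ₗ i1.toLinearMap =
          (r1 k l).toLinearMap ∘ₗ ((φ k).restrictScalars A).toLinearMap := LinearMap.ext fun y => by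
          show Φ₀ (y ⊗ₜ 1) = r1 k l (φ k y)
          simp only [Φ₀]
          rw [Algebra.TensorProduct.lift_tmul, map_one]
          simp
      have e2 : Φ₀.toLinearMap ∘ₗ i2.toLinearMap =
          (r2 k l).toLinearMap ∘ₗ ((φ l).restrictScalars A).toLinearMap := LinearMap.ext fun y => by
          show Φ₀ (1 ⊗ₜ y) = r2 k l (φ l y)
          simp only [Φ₀]
          rw [Algebra.TensorProduct.lift_tmul, map_one]
          simp
      rw [map_sub, sub_eq_zero, ← LinearMap.comp_apply, ← LinearMap.rTensor_comp, e1, LinearMap.rTensor_comp,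
        LinearMap.comp_apply, ← LinearMap.comp_apply (x := c l), ← LinearMap.rTensor_comp, e2, LinearMap.rTensor_comp,
        LinearMap.comp_apply]
      exact (congrArg _ (hc k)).trans ((hx k l).trans (congrArg _ (hc l)).symm)
    obtain ⟨D', i₁, i₂, i₃, i₄, i₅, h, φ', -, hgD, hz'⟩ :=
      exists_good_tensor_zero (isPairHenselization_away (hS2 k l)) Φ z hz
    haveI : Algebra.Etale A D' := Algebra.Etale.comp A Q D'
    let q := IsScalarTower.toAlgHom A Q D'
    refine (bijective_Gsh_map I F q (quot_conditions (C := D') I hgD).1 (quot_conditions (C := D') I hgD).2).1 ?_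
    let h1 := (h.restrictScalars A).comp i1
    let h2 := (h.restrictScalars A).comp i2
    have ee : el F D' (h1.toLinearMap.rTensor _ (c k)) = el F D' (h2.toLinearMap.rTensor _ (c l)) := by
      congr 1
      rw [show h1.toLinearMap = (h.restrictScalars A).toLinearMap ∘ₗ i1.toLinearMap from rfl,
        show h2.toLinearMap = (h.restrictScalars A).toLinearMap ∘ₗ i2.toLinearMap from rfl,
        LinearMap.rTensor_comp, LinearMap.rTensor_comp, ← sub_eq_zero, LinearMap.comp_apply, LinearMap.comp_apply,
        ← map_sub]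
      exact hz'
    rw [← el_map, ← el_map] at ee
    have := congrArg ((eta I F).hom.app (op (Wob D'))) ee
    rw [HensH0.naturality_apply, HensH0.naturality_apply, ← hg, ← hg] at this
    rw [map_map_Gsh, map_map_Gsh] at this
    rw [map_map_Gsh, map_map_Gsh]
    rw [hom_ext_Wob (Wmap q ≫ a) (Wmap h1 ≫ Wmap (p k)), hom_ext_Wob (Wmap q ≫ b) (Wmap h2 ≫ Wmap (p l))]
    exact this
  -- gluing
  let G' := (sheafCompose (SpA A).smallEtaleTopology (forget AddCommGrpCat.{u + 1})).obj (Gsh I F)
  let fam : Fin n ⊕ {a : A // a ∈ I} → A := Sum.elim f Subtype.val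
  let P := fun i => Wob (A := A) (Localization.Away (fam i))
  let P0 : ∀ i, P i ⟶ Wob A := fun i => Wmap (Algebra.ofId A _)
  have hran : ∀ (h : A), Set.range (Spec.map (CommRingCat.ofHom (algebraMap A (Localization.Away h)))) =
      (PrimeSpectrum.basicOpen h : Set (PrimeSpectrum A)) := fun h =>
    PrimeSpectrum.localization_away_comap_range (Localization.Away h) h
  haveI hmonoA : Mono (Spec.map (CommRingCat.ofHom (algebraMap A A))) := by
    rw [Algebra.algebraMap_self, CommRingCat.ofHom_id, Spec.map_id]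
    infer_instance
  have hRc : Sieve.generate (Presieve.ofArrows P P0) ∈ (SpA A).smallEtaleTopology (Wob A) := by
    refine EtPtsLib.covering_of_points _ fun y => ?_
    let y' : PrimeSpectrum A := (Wob (A := A) A).hom y
    have : ∃ i, fam i ∉ y'.asIdeal := by
      by_cases hy : y' ∈ PrimeSpectrum.zeroLocus (I : Set A)
      · obtain ⟨k, hk⟩ := hcov y' hy; exact ⟨Sum.inl k, hk⟩
      · obtain ⟨a, ha, ha'⟩ := Set.not_subset.1 hy; exact ⟨Sum.inr ⟨a, ha⟩, ha'⟩
    obtain ⟨i, hi⟩ := this
    obtain ⟨w, hw⟩ : y' ∈ Set.range (Spec.map (CommRingCat.ofHom (algebraMap A (Localization.Away (fam i))))) := by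
      rw [hran]; exact hi
    refine ⟨P i, P0 i, w, Sieve.le_generate _ _ _ (Presieve.ofArrows.mk i), ?_⟩
    haveI : IsIso (Wob (A := A) A).hom := by
      show IsIso (Spec.map (CommRingCat.ofHom (algebraMap A A)))
      rw [Algebra.algebraMap_self, CommRingCat.ofHom_id, Spec.map_id]
      infer_instance
    apply (Wob (A := A) A).hom.isOpenEmbedding.injective
    exact ((Scheme.Hom.comp_apply _ _ _).symm.trans
      (congrArg (fun q => q w) (MorphismProperty.Over.w (P0 i)))).trans hw
  have hs : Presieve.IsSheafFor G'.obj (Presieve.ofArrows P P0) :=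
    (Presieve.isSheafFor_iff_generate _).2 ((isSheaf_iff_isSheaf_of_type _ _).1 G'.property _ hRc)
  let gg : ∀ i, EtCoh.sect (Gsh I F) (P i) := fun i => match i with
    | Sum.inl k => g k
    | Sum.inr _ => 0
  have hrange : ∀ {Z : (SpA A).Etale} {h : A} (a : Z ⟶ Wob (Localization.Away h)) (z : Z.left),
      h ∉ (Z.hom z : PrimeSpectrum A).asIdeal := by
    intro Z h a z
    have : Z.hom z ∈ Set.range (Spec.map (CommRingCat.ofHom (algebraMap A (Localization.Away h)))) := by
      rw [← MorphismProperty.Over.w a, Scheme.Hom.comp_apply]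
      exact ⟨_, rfl⟩
    rw [hran] at this
    exact this
  have hsub : ∀ {Z : (SpA A).Etale} {h : A}, h ∈ I → (Z ⟶ Wob (Localization.Away h)) →
      Subsingleton (EtCoh.sect (Gsh I F) Z) := fun hI a => subsingleton_Gsh I F fun z hz => by
    rw [range_clo] at hz
    exact hrange a z (hz hI)
  obtain ⟨t, ht, -⟩ := (Presieve.isSheafFor_arrows_iff _ _).1 hs gg fun i j Z ga gb _ => by
    rcases i with k | a
    · rcases j with l | b
      · let jj := Spec.map (CommRingCat.ofHom (algebraMap A (Localization.Away (f k * f l))))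
        have hsubr : Set.range Z.hom ⊆ Set.range jj := by
          rintro _ ⟨z, rfl⟩
          rw [hran]
          exact fun hmem => ((Z.hom z : PrimeSpectrum A).isPrime.mem_or_mem hmem).elim (hrange ga z) (hrange gb z)
        let r : Z ⟶ Wob (Localization.Away (f k * f l)) :=
          MorphismProperty.Over.homMk (IsOpenImmersion.lift jj Z.hom hsubr) (IsOpenImmersion.lift_fac _ _ _)
        let a₀ : Wob (A := A) (Localization.Away (f k * f l)) ⟶ Wob (R k) :=
          Wmap (IsLocalization.liftAlgHom (M := Submonoid.powers (f k)) (f := Algebra.ofId A _) (by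
            rintro ⟨_, m, rfl⟩
            show IsUnit (algebraMap A _ (f k ^ m))
            rw [map_pow]
            exact IsUnit.pow m (isUnit_of_mul_isUnit_left (by
              rw [← map_mul]; exact IsLocalization.Away.algebraMap_isUnit (f k * f l)))))
        let b₀ : Wob (A := A) (Localization.Away (f k * f l)) ⟶ Wob (R l) :=
          Wmap (IsLocalization.liftAlgHom (M := Submonoid.powers (f l)) (f := Algebra.ofId A _) (by
            rintro ⟨_, m, rfl⟩
            show IsUnit (algebraMap A _ (f l ^ m))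
            rw [map_pow]
            exact IsUnit.pow m (isUnit_of_mul_isUnit_right (by
              rw [← map_mul]; exact IsLocalization.Away.algebraMap_isUnit (f k * f l)))))
        show (Gsh I F).obj.map ga.op (g k) = (Gsh I F).obj.map gb.op (g l)
        rw [hom_ext_Wob ga (r ≫ a₀), hom_ext_Wob gb (r ≫ b₀)]
        simp only [op_comp, Functor.map_comp_apply]
        exact congrArg _ (hagree k l a₀ b₀)
      · exact (hsub b.2 gb).elim _ _
    · exact (hsub a.2 ga).elim _ _
  obtain ⟨e, he⟩ := (bijective_eta_Wob I F).2 t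
  obtain ⟨z, rfl⟩ := (el_bijective F A).2 e
  obtain ⟨m, rfl⟩ : ∃ m : Nmod F, (1 : A) ⊗ₜ[A] m = z :=
    ⟨TensorProduct.lid A (Nmod F) z, by
      apply (TensorProduct.lid A (Nmod F)).injective
      rw [TensorProduct.lid_tmul, one_smul]⟩
  refine ⟨m, fun k => ?_⟩
  have hk : (eta I F).hom.app (op (Wob (C k))) (el F (C k) ((1 : C k) ⊗ₜ m)) =
      (eta I F).hom.app (op (Wob (C k))) (el F (C k) (c k)) := by
    rw [← hg k, ← show (Algebra.ofId A (C k)).toLinearMap.rTensor (Nmod F) ((1 : A) ⊗ₜ m) = (1 : C k) ⊗ₜ m by simp,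
      ← el_map, HensH0.naturality_apply, he]
    refine Eq.trans ?_ (congrArg _ (ht (Sum.inl k)))
    refine Eq.trans ?_ (map_map_Gsh I F (Wmap (p k)) (P0 (Sum.inl k)) t).symm
    rw [hom_ext_Wob (Wmap (Algebra.ofId A (C k))) (Wmap (p k) ≫ P0 (Sum.inl k))]
  rw [← hc k, ← sub_eq_zero]
  set w : S k ⊗[A] Nmod F := (1 : S k) ⊗ₜ m - tmap (φ k) (c k) with hw
  have hw' : w = tmap (φ k) ((1 : C k) ⊗ₜ m - c k) := by
    rw [hw, map_sub, LinearMap.rTensor_tmul]
    congr 2
    exact (map_one (φ k)).symm
  by_contra hne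
  obtain ⟨Qm, hQm, hle⟩ := Ideal.exists_le_maximal (Submodule.span (S k) {w}).annihilator (fun h => hne (by
    have h1 : (1 : S k) ∈ (Submodule.span (S k) {w}).annihilator := h ▸ trivial
    rw [Submodule.mem_annihilator_span_singleton, one_smul] at h1
    exact h1))
  haveI : IsClosedImmersion (clo I) := IsClosedImmersion.spec_of_surjective _ Ideal.Quotient.mk_surjective
  haveI := (hS k).2.1
  have hIQ : I.map (algebraMap A (S k)) ≤ Qm :=
    HenselianRing.jac.trans ((sInf_le ⟨bot_le, hQm⟩ : Ideal.jacobson (⊥ : Ideal (S k)) ≤ Qm))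
  let u : (Wob (A := A) (C k)).left := (PrimeSpectrum.comap (φ k).toRingHom ⟨Qm, hQm.isPrime⟩ : PrimeSpectrum (C k))
  have hu : (Wob (A := A) (C k)).hom u ∈ Set.range (clo I) := by
    rw [range_clo]
    intro i hi
    show φ k (algebraMap A (C k) i) ∈ Qm
    have : φ k (algebraMap A (C k) i) = algebraMap A (S k) i := ((φ k).restrictScalars A).commutes i
    rw [this]
    exact hIQ (Ideal.mem_map_of_mem _ hi)
  have hmem := HensH0.injNear_unit (clo I) (Esh F) _ _ _ hk u hu
  obtain ⟨_, ⟨t', rfl⟩, htu, htO⟩ := PrimeSpectrum.isTopologicalBasis_basic_opens.exists_subset_of_mem_open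
    hmem (EtPtsLib.isOpen_agree _ _ _)
  haveI : Algebra.Etale A (Localization.Away t') :=
    haveI := Algebra.Etale.of_isLocalizationAway (R := C k) (A := Localization.Away t') t'
    Algebra.Etale.comp A (C k) _
  let ht' := IsScalarTower.toAlgHom A (C k) (Localization.Away t')
  have heq : ht'.toLinearMap.rTensor (Nmod F) ((1 : C k) ⊗ₜ m - c k) = 0 := by
    rw [map_sub, sub_eq_zero]
    refine (el_bijective F _).1 ?_
    rw [← el_map, ← el_map]
    refine HensH0.eq_of_agree _ fun v => (HensH0.mem_agree_map_iff _ (Wmap ht') _ _ v).2 (htO ?_)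
    have : (Spec.map (CommRingCat.ofHom (algebraMap (C k) (Localization.Away t')))) v ∈
        (PrimeSpectrum.basicOpen t' : Set (PrimeSpectrum (C k))) :=
      (PrimeSpectrum.localization_away_comap_range (Localization.Away t') t').le ⟨v, rfl⟩
    exact this
  haveI : IsLocalizedModule (Submonoid.powers t') (Algebra.linearMap (C k) (Localization.Away t')) := inferInstance
  obtain ⟨⟨_, N0, rfl⟩, hN⟩ := (IsLocalizedModule.eq_zero_iff (Submonoid.powers t')
    (TensorProduct.AlgebraTensorModule.rTensor A (Nmod F) (Algebra.linearMap (C k) (Localization.Away t')))).1 heq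
  apply htu
  show φ k t' ∈ Qm
  refine hQm.isPrime.mem_of_pow_mem N0 (hle ?_)
  rw [Submodule.mem_annihilator_span_singleton, hw']
  have key : ∀ y : C k ⊗[A] Nmod F, φ k (t' ^ N0) • tmap (φ k) y = tmap (φ k) ((t' ^ N0) • y) := fun y => by
    induction y using TensorProduct.induction_on with
    | zero => simp
    | tmul a b =>
      simp only [LinearMap.rTensor_tmul, TensorProduct.smul_tmul', smul_eq_mul]
      exact congrArg (· ⊗ₜ[A] b) (map_mul (φ k) _ _).symm
    | add a b ha hb => simp only [smul_add, map_add, ha, hb]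
  rw [← map_pow, key]
  exact (congrArg _ hN).trans (map_zero _)

end Groth.Agent.HensSchLib
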