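import Groth.Agent.HensSchLib.Sections

/-!
# Opens of a scheme over which a Henselization has the universal ring of sections
-/

set_option autoImplicit false
set_option backward.isDefEq.respectTransparency false
set_option linter.style.haveILetI false

universe u

open CategoryTheory CategoryTheory.Limits Opposite TopologicalSpace Topology AlgebraicGeometry

noncomputable section

namespace Groth.Agent.HensSchLib

section
variable {X : Scheme.{u}} {Xh : LocallyRingedSpace.{u}} (ι : Xh ⟶ X.toLocallyRingedSpace) (U : X.Opens)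

/-- The open of `Xh` over `U`. -/
abbrev preO : Opens Xh := (Opens.map ι.base).obj U

/-- The ring map. -/
def φU : Γ(X, U) →+* Xh.presheaf.obj (op (preO ι U)) := (ι.c.app (op U)).hom

/-- Sections vanishing on the closed subset. -/
def vanY : Ideal Γ(X, U) := (vanI (preO ι U)).comap (φU ι U)

/-- The universal property of the ring of sections. -/
structure Good : Prop where
  univ : ∀ (C : Type u) [CommRing C] (J : Ideal C) (g : Γ(X, U) →+* C),
    HenselianRing C J → (vanY ι U).map g ≤ J → ∃! h : Xh.presheaf.obj (op (preO ι U)) →+* C, h.comp (φU ι U) = g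
  surj : ∀ s, ∃ r, s - φU ι U r ∈ (vanY ι U).map (φU ι U)

end

theorem comp_app_congr {V X : LocallyRingedSpace.{u}} {a b : V ⟶ X} (e : a = b) (U : Opens X) (D : Opens V)
    (h₁ : D ≤ (Opens.map a.base).obj U) (h₂ : D ≤ (Opens.map b.base).obj U) (x : X.presheaf.obj (op U)) :
    V.presheaf.map (homOfLE h₁).op (a.c.app (op U) x) = V.presheaf.map (homOfLE h₂).op (b.c.app (op U) x) := by
  subst e
  rfl

variable {X : Scheme.{u}} {Y : Set X} {Xh : LocallyRingedSpace.{u}} {ι : Xh ⟶ X.toLocallyRingedSpace}

theorem exists_good_affine (hh : HensSch.IsHenselizationAlong X Y Xh ι) (x : X) (hx : x ∈ Y) (O : X.Opens)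
    (hxO : x ∈ O) : ∃ U : X.Opens, x ∈ U ∧ U ≤ O ∧ IsAffineOpen U ∧ Good ι U := by
  obtain ⟨-, -, -, hloc⟩ := hh
  obtain ⟨A, _, j, hj, hxj, V, v, hv, π, hvr, he, hsph⟩ := hloc x hx
  haveI := hj
  haveI := hv
  obtain ⟨p, rfl⟩ := hxj
  let I := PrimeSpectrum.vanishingIdeal (j.base ⁻¹' Y)
  obtain ⟨_, ⟨f, rfl⟩, hpf, hfO⟩ := PrimeSpectrum.isTopologicalBasis_basic_opens.exists_subset_of_mem_open
    (show p ∈ j.base ⁻¹' (O : Set X) from hxO) (O.2.preimage j.base.hom.continuous)
  let D : (Spec (CommRingCat.of A)).Opens := PrimeSpectrum.basicOpen f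
  let U : X.Opens := j ''ᵁ D
  have hUD : j ⁻¹ᵁ U = D := j.preimage_image_eq D
  refine ⟨U, ⟨p, hpf, rfl⟩, ?_, (IsAffineOpen.Spec_basicOpen f).image_of_isOpenImmersion j, ?_⟩
  · rintro _ ⟨q, hq, rfl⟩
    exact hfO hq
  -- the identifications
  let DV : Opens V := HensSch.dOpen π f
  have hbase : ∀ z, ι.base (v.base z) = j.base (π.base z) := fun z => congr(($he).base z)
  have hpre : (Opens.map v.base).obj (preO ι U) = DV := by
    ext z
    change ι.base (v.base z) ∈ (U : Set X) ↔ π.base z ∈ (D : Set _)
    rw [hbase, ← hUD]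
    rfl
  let ev : Xh.presheaf.obj (op (preO ι U)) →+* V.presheaf.obj (op DV) :=
    (v.c.app (op (preO ι U)) ≫ V.presheaf.map (eqToHom hpre.symm).op).hom
  have hev : Function.Bijective ev :=
    (ConcreteCategory.bijective_of_isIso (V.presheaf.map (eqToHom hpre.symm).op)).comp
      (bijective_app v (T := preO ι U) (by
        intro z hz
        rw [hvr]
        obtain ⟨q, -, hq⟩ := (show ι.base z ∈ j ''ᵁ D from hz)
        exact ⟨q, hq⟩))
  let ej : Γ(X, U) →+* Γ(Spec (CommRingCat.of A), D) :=
    (j.app U ≫ (Spec (CommRingCat.of A)).presheaf.map (eqToHom hUD.symm).op).hom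
  have hej : Function.Bijective ej :=
    (ConcreteCategory.bijective_of_isIso ((Spec (CommRingCat.of A)).presheaf.map (eqToHom hUD.symm).op)).comp
      (bijective_app j.toLRSHom (T := U) (Set.image_subset_range _ _))
  let πc : Γ(Spec (CommRingCat.of A), D) →+* V.presheaf.obj (op DV) := (π.c.app (op D)).hom
  have hsq : ∀ a, ev (φU ι U a) = πc (ej a) := by
    intro a
    have h₁ : DV ≤ (Opens.map (v ≫ ι).base).obj U := hpre.ge
    have h₂ : DV ≤ (Opens.map (π ≫ j.toLRSHom).base).obj U := fun z hz => by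
      change π.base z ∈ (j ⁻¹ᵁ U : Set _)
      rw [hUD]; exact hz
    refine (comp_app_congr he U DV h₁ h₂ a).trans ?_
    exact (ConcreteCategory.congr_hom (π.c.naturality (eqToHom hUD.symm).op) _).symm
  letI algA : Algebra A Γ(Spec (CommRingCat.of A), D) :=
    StructureSheaf.openAlgebra A (op (PrimeSpectrum.basicOpen f))
  haveI : IsLocalization.Away f Γ(Spec (CommRingCat.of A), D) :=
    StructureSheaf.IsLocalization.to_basicOpen A f
  let tA : A →+* Γ(Spec (CommRingCat.of A), D) := algebraMap A _
  let φ : A →+* V.presheaf.obj (op DV) := HensSch.secMap π (PrimeSpectrum.basicOpen f)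
  have hφ : ∀ a, πc (tA a) = φ a := fun a => by
    have e : tA a = (Spec (CommRingCat.of A)).presheaf.map (homOfLE (le_top : D ≤ ⊤)).op
        ((Scheme.ΓSpecIso (CommRingCat.of A)).inv a) := rfl
    rw [e]
    exact ConcreteCategory.congr_hom (π.c.naturality (homOfLE (le_top : D ≤ ⊤)).op) _
  obtain ⟨hu, hhens, huniv⟩ := hsph.2.2 f
  let ej' := RingEquiv.ofBijective ej hej
  let ev' := RingEquiv.ofBijective ev hev
  have hev_van : ∀ s, ev s ∈ vanI DV → s ∈ vanI (preO ι U) := by
    intro s hs
    rw [mem_vanI_iff]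
    intro z hz
    obtain ⟨w, rfl⟩ : z ∈ Set.range v.base := by
      rw [hvr]
      obtain ⟨q, -, hq⟩ := (show ι.base z ∈ j ''ᵁ D from hz)
      exact ⟨q, hq⟩
    have hw : w ∈ DV := hpre.le hz
    have h' : V.presheaf.germ DV w hw (ev s) =
        V.presheaf.germ ((Opens.map v.base).obj (preO ι U)) w hz (v.c.app (op (preO ι U)) s) :=
      TopCat.Presheaf.germ_res_apply V.presheaf _ w hw _
    have := (mem_vanI_iff _).1 hs w hw
    rw [h'] at this
    exact (germ_app_mem_iff v s w hz).1 this
  have hIY : ∀ i ∈ I, ej'.symm (tA i) ∈ vanY ι U := by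
    intro i hi
    refine hev_van _ ?_
    rw [hsq, show ej (ej'.symm (tA i)) = tA i from ej'.apply_symm_apply _, hφ]
    exact map_radical_le_vanI hsph f (Ideal.le_radical (Ideal.mem_map_of_mem φ hi))
  refine ⟨fun C _ J g hC hJ => ?_, fun s => ?_⟩
  · let g' : A →+* C := (g.comp ej'.symm.toRingHom).comp tA
    have hJ' : I.map g' ≤ J := Ideal.map_le_iff_le_comap.2 fun i hi => hJ (Ideal.mem_map_of_mem g (hIY i hi))
    have hu' : IsUnit (g' f) :=
      ((IsLocalization.Away.algebraMap_isUnit (S := Γ(Spec (CommRingCat.of A), D)) f).map ej'.symm).map g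
    obtain ⟨k, hk, hk'⟩ := huniv C J g' hC hJ' hu'
    refine ⟨k.comp ev, ?_, fun k₂ hk₂ => ?_⟩
    · ext a
      have e : (k.comp πc) = g.comp ej'.symm.toRingHom := by
        refine IsLocalization.ringHom_ext (Submonoid.powers f) ?_
        ext b
        exact (congrArg k (hφ b)).trans (DFunLike.congr_fun hk b)
      change k (ev (φU ι U a)) = g a
      rw [hsq]
      refine (DFunLike.congr_fun e (ej a)).trans ?_
      exact congrArg g (ej'.symm_apply_apply a)
    · have : k₂.comp ev'.symm.toRingHom = k := by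
        refine hk' _ (RingHom.ext fun b => ?_)
        change k₂ (ev'.symm (φ b)) = g' b
        have e2 : ev'.symm (φ b) = φU ι U (ej'.symm (tA b)) := by
          apply ev'.injective
          rw [ev'.apply_symm_apply]
          show φ b = ev (φU ι U (ej'.symm (tA b)))
          rw [hsq, show ej (ej'.symm (tA b)) = tA b from ej'.apply_symm_apply _, hφ]
        rw [e2]
        exact DFunLike.congr_fun hk₂ _
      ext s
      rw [← this]
      exact (congrArg k₂ (ev'.symm_apply_apply s)).symm
  · letI : Algebra (Localization.Away f) (V.presheaf.obj (op DV)) :=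
      (IsLocalization.Away.lift f hu : Localization.Away f →+* _).toAlgebra
    obtain ⟨r, hr⟩ := Groth.Agent.PairHens.exists_sub_mem_map_pow (isPairHenselization_away (hsph.2.2 f)) 1 (ev s)
    let e : Localization.Away f ≃ₐ[A] Γ(Spec (CommRingCat.of A), D) :=
      IsLocalization.algEquiv (Submonoid.powers f) _ _
    refine ⟨ej'.symm (e r), ?_⟩
    have hlift : ∀ b : A, algebraMap (Localization.Away f) (V.presheaf.obj (op DV)) (algebraMap A (Localization.Away f) b) = φ b :=
      fun b => IsLocalization.Away.lift_eq f hu b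
    have he' : πc.comp e.toAlgHom.toRingHom = algebraMap (Localization.Away f) (V.presheaf.obj (op DV)) := by
      refine IsLocalization.ringHom_ext (Submonoid.powers f) (RingHom.ext fun b => ?_)
      change πc (e (algebraMap A _ b)) = _
      rw [e.commutes]
      exact (hφ b).trans (hlift b).symm
    have hs' : ev (s - φU ι U (ej'.symm (e r))) ∈ I.map φ := by
      rw [map_sub, hsq, show ej (ej'.symm (e r)) = e r from ej'.apply_symm_apply _,
        show πc (e r) = _ from DFunLike.congr_fun he' r]
      rw [pow_one, Ideal.map_map] at hr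
      rwa [show ((algebraMap (Localization.Away f) (V.presheaf.obj (op DV))).comp
        (algebraMap A (Localization.Away f))) = φ from RingHom.ext hlift] at hr
    have hle : I.map φ ≤ ((vanY ι U).map (φU ι U)).map ev := by
      rw [Ideal.map_le_iff_le_comap]
      intro i hi
      have : φ i = ev (φU ι U (ej'.symm (tA i))) := by
        rw [hsq, show ej (ej'.symm (tA i)) = tA i from ej'.apply_symm_apply _, hφ]
      rw [Ideal.mem_comap, this]
      exact Ideal.mem_map_of_mem ev (Ideal.mem_map_of_mem _ (hIY i hi))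
    obtain ⟨t, ht, hte⟩ := (Ideal.mem_map_iff_of_surjective ev hev.2).1 (hle hs')
    exact hev.1 hte ▸ ht

theorem exists_good (hh : HensSch.IsHenselizationAlong X Y Xh ι) (x : X) (hx : x ∈ Y) (O : X.Opens) (hxO : x ∈ O) :
    ∃ U : X.Opens, x ∈ U ∧ U ≤ O ∧ Good ι U := by
  obtain ⟨U, h₁, h₂, -, h₃⟩ := exists_good_affine hh x hx O hxO
  exact ⟨U, h₁, h₂, h₃⟩

end Groth.Agent.HensSchLib
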