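import Groth.Agent.HensSchLib.Common
import Mathlib.Dynamics.Newton

/-!
# Rings of sections of Henselian schemes are Henselian along the sections vanishing everywhere
-/

set_option autoImplicit false
set_option backward.isDefEq.respectTransparency false
set_option linter.style.haveILetI false

universe u

open CategoryTheory CategoryTheory.Limits Opposite TopologicalSpace Topology AlgebraicGeometry Polynomial

noncomputable section

namespace Groth.Agent.HensSchLib

/-- In a local ring two congruent roots, one of them simple, are equal. -/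
theorem root_unique {R : Type u} [CommRing R] [IsLocalRing R] (f : R[X]) {a b : R} (ha : f.IsRoot a) (hb : f.IsRoot b)
    (h' : IsUnit (f.derivative.eval b)) (hab : a - b ∈ IsLocalRing.maximalIdeal R) : a = b := by
  obtain ⟨k, hk⟩ := Polynomial.binomExpansion f b (a - b)
  rw [add_sub_cancel, ha.eq_zero, hb.eq_zero, zero_add] at hk
  have hu : IsUnit (f.derivative.eval b + k * (a - b)) := by
    by_contra hc
    exact (IsLocalRing.notMem_maximalIdeal.2 h') (by
      simpa using sub_mem ((IsLocalRing.mem_maximalIdeal _).2 hc) (Ideal.mul_mem_left _ k hab))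
  have h0 : (f.derivative.eval b + k * (a - b)) * (a - b) = 0 := by rw [hk]; ring
  exact sub_eq_zero.1 (hu.mul_right_eq_zero.1 h0)

/-- A Henselian pair stays Henselian for the ideals with smaller radical. -/
theorem henselian_of_le_radical {B : Type u} [CommRing B] (I J : Ideal B) [H : HenselianRing B I]
    (hJ : J ≤ I.radical) (f : B[X]) (hf : f.Monic) (a₀ : B) (h0 : f.eval a₀ ∈ J)
    (h1 : IsUnit (f.derivative.eval a₀)) :
    ∃ a, f.IsRoot a ∧ a - a₀ ∈ I.radical := by
  let q := Ideal.Quotient.mk I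
  have he : ∀ (g : B[X]) (x : B), Polynomial.aeval (q x) (g.map q) = q (g.eval x) := fun g x => by
    rw [Polynomial.coe_aeval_eq_eval, Polynomial.eval_map, Polynomial.eval₂_at_apply]
  have hn : ∀ x, x ∈ I.radical → IsNilpotent (q x) := fun x ⟨n, hn⟩ =>
    ⟨n, by rw [← map_pow]; exact Ideal.Quotient.eq_zero_iff_mem.2 hn⟩
  have hu : IsUnit (q (f.derivative.eval a₀)) := h1.map q
  obtain ⟨r, ⟨hr, hroot⟩, -⟩ := Polynomial.existsUnique_nilpotent_sub_and_aeval_eq_zero
    (P := f.map q) (x := q a₀) (by rw [he]; exact hn _ (hJ h0)) (by rw [derivative_map, he]; exact hu)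
  obtain ⟨b, rfl⟩ := Ideal.Quotient.mk_surjective r
  have hb : f.eval b ∈ I := by
    rw [← Ideal.Quotient.eq_zero_iff_mem, ← he]
    exact hroot
  have hub : IsUnit (q (f.derivative.eval b)) := by
    obtain ⟨c, hc⟩ := (sub_dvd_eval_sub b a₀ f.derivative)
    have hnil : IsNilpotent (q (f.derivative.eval b) - q (f.derivative.eval a₀)) := by
      rw [← map_sub, hc, map_mul, map_sub]
      refine (Commute.all _ _).isNilpotent_mul_right ?_
      rw [← neg_sub]
      exact hr.neg
    have := hnil.isUnit_add_left_of_commute hu (Commute.all _ _)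
    simpa using this
  obtain ⟨a, ha, hab⟩ := H.is_henselian f hf b hb hub
  refine ⟨a, ha, ?_⟩
  have hba : b - a₀ ∈ I.radical := by
    obtain ⟨n, hn⟩ := hr
    rw [← neg_sub]
    refine Submodule.neg_mem _ ⟨n, ?_⟩
    rw [← Ideal.Quotient.eq_zero_iff_mem, map_pow, map_sub]
    exact hn
  simpa using add_mem (Ideal.le_radical hab) hba

variable {Z : LocallyRingedSpace.{u}}

/-- Sections vanishing at every point. -/
def vanI (W : Opens Z) : Ideal (Z.presheaf.obj (op W)) :=
  ⨅ z : W, (IsLocalRing.maximalIdeal (Z.presheaf.stalk z.1)).comap (Z.presheaf.germ W z.1 z.2).hom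

theorem mem_vanI_iff {W : Opens Z} (s : Z.presheaf.obj (op W)) :
    s ∈ vanI W ↔ ∀ z (hz : z ∈ W), Z.presheaf.germ W z hz s ∈ IsLocalRing.maximalIdeal (Z.presheaf.stalk z) := by
  rw [vanI, Submodule.mem_iInf]
  exact ⟨fun h z hz => h ⟨z, hz⟩, fun h z => h z.1 z.2⟩

theorem vanI_le_jacobson (W : Opens Z) : vanI W ≤ Ideal.jacobson ⊥ := fun s hs => by
  rw [Ideal.mem_jacobson_bot]
  intro y
  refine RingedSpace.isUnit_of_isUnit_germ Z.toRingedSpace W _ fun z hz => ?_
  rw [← IsLocalRing.notMem_maximalIdeal]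
  intro h
  let γ := (Z.presheaf.germ W z hz).hom
  change γ (s * y + 1) ∈ IsLocalRing.maximalIdeal (Z.presheaf.stalk z) at h
  rw [map_add, map_mul, map_one] at h
  have h2 := sub_mem h (Ideal.mul_mem_right (γ y) _ ((mem_vanI_iff s).1 hs z hz))
  change γ s * γ y + 1 - γ s * γ y ∈ IsLocalRing.maximalIdeal (Z.presheaf.stalk z) at h2
  rw [add_sub_cancel_left] at h2
  exact (IsLocalRing.notMem_maximalIdeal.2 isUnit_one) h2

/-- On an affine Henselian spectrum a section vanishing everywhere is in the radical of the ideal. -/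
theorem vanI_le_radical {A : Type u} [CommRing A] {I : Ideal A} {π : Z ⟶ HensSch.specLRS A}
    (hX : HensSch.IsSph A I Z π) (f : A) :
    vanI (HensSch.dOpen π f) ≤ (I.map (HensSch.secMap π (PrimeSpectrum.basicOpen f))).radical := by
  intro s hs
  obtain ⟨-, hrange, haway⟩ := hX
  let B := Z.presheaf.obj (op (HensSch.dOpen π f))
  let φ : A →+* B := HensSch.secMap π (PrimeSpectrum.basicOpen f)
  let L : Ideal B := I.map φ
  have hu := (haway f).1
  letI : Algebra (Localization.Away f) B :=
    (IsLocalization.Away.lift f hu : Localization.Away f →+* B).toAlgebra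
  obtain ⟨r, hr⟩ := Groth.Agent.PairHens.exists_sub_mem_map_pow (isPairHenselization_away (haway f)) 1 s
  obtain ⟨⟨a, m, n, rfl⟩, har⟩ := IsLocalization.surj (Submonoid.powers f) r
  have hlift : ∀ b : A, algebraMap (Localization.Away f) B (algebraMap A (Localization.Away f) b) = φ b :=
    fun b => IsLocalization.Away.lift_eq f hu b
  have hsr : s - algebraMap (Localization.Away f) B r ∈ L := by
    have e : (I.map (algebraMap A (Localization.Away f))).map (algebraMap (Localization.Away f) B) = L := by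
      rw [Ideal.map_map]
      exact congrArg (I.map) (RingHom.ext hlift)
    rw [← e]
    rw [pow_one] at hr
    exact hr
  have hsa : s * φ (f ^ n) - φ a ∈ L := by
    have e : φ a = algebraMap (Localization.Away f) B r * φ (f ^ n) := by
      rw [← hlift a, ← hlift (f ^ n), ← map_mul]
      exact congrArg _ har.symm
    rw [e, ← sub_mul]
    exact Ideal.mul_mem_right _ _ hsr
  have haI : a * f ∈ I.radical := by
    rw [← PrimeSpectrum.vanishingIdeal_zeroLocus_eq_radical, PrimeSpectrum.mem_vanishingIdeal]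
    intro p hp
    obtain ⟨z, rfl⟩ : p ∈ Set.range π.base := hrange ▸ hp
    by_contra hc
    have hzf : z ∈ HensSch.dOpen π f := fun h => hc ((π.base z).asIdeal.mul_mem_left a h)
    have hza : IsUnit (toStk π z a) := (isUnit_toStk_iff π z a).2 fun h => hc ((π.base z).asIdeal.mul_mem_right f h)
    let γ := (Z.presheaf.germ (HensSch.dOpen π f) z hzf).hom
    have hL : L ≤ (IsLocalRing.maximalIdeal (Z.presheaf.stalk z)).comap γ := by
      rw [Ideal.map_le_iff_le_comap]
      intro i hi
      show γ (φ i) ∈ IsLocalRing.maximalIdeal _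
      rw [show γ (φ i) = toStk π z i from germ_secMap π _ z hzf i, IsLocalRing.mem_maximalIdeal, mem_nonunits_iff,
        isUnit_toStk_iff, PrimeSpectrum.mem_basicOpen, not_not]
      exact (hrange ▸ ⟨z, rfl⟩ : π.base z ∈ PrimeSpectrum.zeroLocus (I : Set A)) hi
    refine (IsLocalRing.notMem_maximalIdeal.2 hza) ?_
    rw [← germ_secMap π (PrimeSpectrum.basicOpen f) z hzf a]
    have h1 : γ (φ a) = γ s * γ (φ (f ^ n)) - γ (s * φ (f ^ n) - φ a) := by rw [map_sub, map_mul]; ring
    change γ (φ a) ∈ _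
    rw [h1]
    exact sub_mem (Ideal.mul_mem_right _ _ ((mem_vanI_iff s).1 hs z hzf)) (hL hsa)
  obtain ⟨k, hk⟩ := haI
  show s ∈ L.radical
  have hrad : φ a * φ f ∈ L.radical := ⟨k, by rw [← mul_comm, ← map_mul, ← map_pow, mul_comm f]; exact Ideal.mem_map_of_mem φ hk⟩
  have hf : IsUnit (φ (f ^ n) * φ f) := ((map_pow φ f n).symm ▸ hu.pow n).mul hu
  have : s * (φ (f ^ n) * φ f) ∈ L.radical := by
    rw [← mul_assoc, show s * φ (f ^ n) * φ f = (s * φ (f ^ n) - φ a) * φ f + φ a * φ f by ring]
    exact add_mem (Ideal.le_radical (Ideal.mul_mem_right _ _ hsa)) hrad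
  exact (Ideal.mul_unit_mem_iff_mem _ hf).1 this

theorem germ_app_mem_iff {U : LocallyRingedSpace.{u}} (g : U ⟶ Z) {T : Opens Z} (s : Z.presheaf.obj (op T))
    (u : U) (hu : g.base u ∈ T) :
    U.presheaf.germ ((Opens.map g.base).obj T) u hu (g.c.app (op T) s) ∈ IsLocalRing.maximalIdeal (U.presheaf.stalk u) ↔
      Z.presheaf.germ T (g.base u) hu s ∈ IsLocalRing.maximalIdeal (Z.presheaf.stalk (g.base u)) := by
  rw [← LocallyRingedSpace.stalkMap_germ_apply g T u hu s, IsLocalRing.mem_maximalIdeal, IsLocalRing.mem_maximalIdeal,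
    mem_nonunits_iff, mem_nonunits_iff]
  exact not_congr (isUnit_map_iff (g.stalkMap u).hom _)

theorem app_mem_vanI {U : LocallyRingedSpace.{u}} (g : U ⟶ Z) {T : Opens Z} {s : Z.presheaf.obj (op T)}
    (hs : s ∈ vanI T) : g.c.app (op T) s ∈ vanI ((Opens.map g.base).obj T) :=
  (mem_vanI_iff _).2 fun u hu => (germ_app_mem_iff g s u hu).2 ((mem_vanI_iff s).1 hs _ hu)

theorem res_mem_vanI {T T' : Opens Z} (h : T' ≤ T) {s : Z.presheaf.obj (op T)} (hs : s ∈ vanI T) :
    Z.presheaf.map (homOfLE h).op s ∈ vanI T' := (mem_vanI_iff _).2 fun z hz => by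
  rw [TopCat.Presheaf.germ_res_apply]
  exact (mem_vanI_iff s).1 hs z (h hz)

theorem map_radical_le_vanI {A : Type u} [CommRing A] {I : Ideal A} {π : Z ⟶ HensSch.specLRS A}
    (hX : HensSch.IsSph A I Z π) (f : A) :
    (I.map (HensSch.secMap π (PrimeSpectrum.basicOpen f))).radical ≤ vanI (HensSch.dOpen π f) := by
  intro x hx
  rw [mem_vanI_iff]
  intro z hz
  have hle : I.map (HensSch.secMap π (PrimeSpectrum.basicOpen f)) ≤
      (IsLocalRing.maximalIdeal (Z.presheaf.stalk z)).comap (Z.presheaf.germ (HensSch.dOpen π f) z hz).hom := by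
    rw [Ideal.map_le_iff_le_comap]
    intro i hi
    show Z.presheaf.germ (HensSch.dOpen π f) z hz (HensSch.secMap π _ i) ∈ IsLocalRing.maximalIdeal _
    rw [show Z.presheaf.germ (HensSch.dOpen π f) z hz (HensSch.secMap π _ i) = toStk π z i from germ_secMap π _ z hz i,
      IsLocalRing.mem_maximalIdeal, mem_nonunits_iff, isUnit_toStk_iff, PrimeSpectrum.mem_basicOpen, not_not]
    exact (hX.2.1 ▸ ⟨z, rfl⟩ : π.base z ∈ PrimeSpectrum.zeroLocus (I : Set A)) hi
  exact ((Ideal.radical_mono hle).trans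
    ((Ideal.IsMaximal.isPrime' _).comap _).radical.le) hx

theorem bijective_app {U : LocallyRingedSpace.{u}} (i : U ⟶ Z) [LocallyRingedSpace.IsOpenImmersion i]
    {T : Opens Z} (hT : (T : Set Z) ⊆ Set.range i.base) : Function.Bijective (i.c.app (op T)) := by
  haveI : IsIso (i.c.app (op T)) :=
    PresheafedSpace.IsOpenImmersion.c_iso' i.toShHom.hom ((Opens.map i.base).obj T)
      (Opens.ext (Set.image_preimage_eq_of_subset hT).symm)
  exact ConcreteCategory.bijective_of_isIso _

/-- A space covered by affine Henselian spectra of pairs that need not be Henselian. -/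
def LocallySph' (Z : LocallyRingedSpace.{u}) : Prop :=
  ∀ z : Z, ∃ (U : LocallyRingedSpace.{u}) (i : U ⟶ Z) (_ : LocallyRingedSpace.IsOpenImmersion i),
    z ∈ Set.range i.base ∧ ∃ (A : Type u) (_ : CommRing A) (I : Ideal A) (π : U ⟶ HensSch.specLRS A),
      HensSch.IsSph A I U π

/-- Rings of sections of a space covered by affine Henselian spectra are Henselian along the sections
vanishing everywhere. -/
theorem henselianRing_vanI' (hZ : LocallySph' Z) (W : Opens Z) :
    HenselianRing (Z.presheaf.obj (op W)) (vanI W) := by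
  refine ⟨vanI_le_jacobson W, fun f hf a₀ h0 h1 => ?_⟩
  have hu : IsUnit (f.derivative.eval a₀) := by
    obtain ⟨v, hv⟩ := Ideal.Quotient.mk_surjective (↑h1.unit⁻¹ : _ ⧸ vanI W)
    have hmem : f.derivative.eval a₀ * v - 1 ∈ vanI W := by
      rw [← Ideal.Quotient.eq_zero_iff_mem, map_sub, map_mul, hv, map_one, IsUnit.mul_val_inv, sub_self]
    have h := Ideal.mem_jacobson_bot.1 (vanI_le_jacobson W hmem) 1
    rw [mul_one, sub_add_cancel] at h
    exact (IsUnit.mul_iff.1 h).1
  let res : ∀ {T : Opens Z}, T ≤ W → Z.presheaf.obj (op W) →+* Z.presheaf.obj (op T) :=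
    fun h => (Z.presheaf.map (homOfLE h).op).hom
  have key : ∀ z : W, ∃ (T : Opens Z) (hT : T ≤ W) (a : Z.presheaf.obj (op T)),
      z.1 ∈ T ∧ (f.map (res hT)).IsRoot a ∧ a - res hT a₀ ∈ vanI T := by
    rintro ⟨z, hz⟩
    obtain ⟨U, i, hi, hzi, A, _, I, π, hsph⟩ := hZ z
    haveI := hi
    obtain ⟨u, rfl⟩ := hzi
    obtain ⟨g, hug, hgW⟩ := exists_dOpen_le hsph (U := (Opens.map i.base).obj W) (show u ∈ _ from hz)
    have hio : IsOpenEmbedding i.base := PresheafedSpace.IsOpenImmersion.base_open (f := i.toShHom.hom)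
    let T : Opens Z := hio.isOpenMap.functor.obj (HensSch.dOpen π g)
    have hT : T ≤ W := by
      rintro _ ⟨v, hv, rfl⟩
      exact hgW hv
    have hpre : (Opens.map i.base).obj T = HensSch.dOpen π g :=
      Opens.ext (Set.preimage_image_eq _ hio.injective)
    have hb := bijective_app i (T := T) (Set.image_subset_range _ _)
    let φ := HensSch.secMap π (PrimeSpectrum.basicOpen g)
    let e : Z.presheaf.obj (op T) →+* U.presheaf.obj (op (HensSch.dOpen π g)) :=
      (i.c.app (op T) ≫ U.presheaf.map (eqToHom hpre.symm).op).hom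
    have hbij : Function.Bijective e :=
      (ConcreteCategory.bijective_of_isIso (U.presheaf.map (eqToHom hpre.symm).op)).comp hb
    have hgerm : ∀ (s : Z.presheaf.obj (op T)) (v : U) (hv : v ∈ HensSch.dOpen π g),
        U.presheaf.germ (HensSch.dOpen π g) v hv (e s) ∈ IsLocalRing.maximalIdeal (U.presheaf.stalk v) ↔
          Z.presheaf.germ T (i.base v) ⟨v, hv, rfl⟩ s ∈ IsLocalRing.maximalIdeal (Z.presheaf.stalk (i.base v)) := by
      intro s v hv
      have h' : U.presheaf.germ (HensSch.dOpen π g) v hv (e s) =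
          U.presheaf.germ ((Opens.map i.base).obj T) v ⟨v, hv, rfl⟩ (i.c.app (op T) s) :=
        TopCat.Presheaf.germ_res_apply U.presheaf _ v hv _
      rw [h']
      exact germ_app_mem_iff i s v _
    have hvan : e (res hT (f.eval a₀)) ∈ vanI (HensSch.dOpen π g) :=
      (mem_vanI_iff _).2 fun v hv => (hgerm _ v hv).2 ((mem_vanI_iff _).1 (res_mem_vanI hT h0) _ ⟨v, hv, rfl⟩)
    haveI := (hsph.2.2 g).2.1
    obtain ⟨b, hb1, hb2⟩ := henselian_of_le_radical (I.map φ) (vanI (HensSch.dOpen π g)) (vanI_le_radical hsph g)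
      (f.map (e.comp (res hT))) (hf.map _) (e (res hT a₀))
      (by
        rw [show e (res hT a₀) = (e.comp (res hT)) a₀ from rfl, Polynomial.eval_map, eval₂_at_apply]
        exact hvan)
      (by
        rw [derivative_map, show e (res hT a₀) = (e.comp (res hT)) a₀ from rfl, Polynomial.eval_map, eval₂_at_apply]
        exact hu.map _)
    obtain ⟨a, rfl⟩ := hbij.2 b
    refine ⟨T, hT, a, ⟨u, hug, rfl⟩, hbij.1 ?_, ?_⟩
    · change e _ = e 0
      rw [map_zero, Polynomial.eval_map, hom_eval₂]
      rw [IsRoot, Polynomial.eval_map] at hb1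
      exact hb1
    · rw [mem_vanI_iff]
      rintro _ ⟨v, hv, rfl⟩
      have := (mem_vanI_iff _).1 (map_radical_le_vanI hsph g hb2) v hv
      rw [← map_sub e] at this
      exact (hgerm _ v hv).1 this
  choose T hT a hzT hroot hvan using key
  have hγ : ∀ (z : W) (x : Z) (hx : x ∈ T z),
      (Z.presheaf.germ (T z) x hx).hom.comp (res (hT z)) = (Z.presheaf.germ W x (hT z hx)).hom := fun z x hx =>
    congrArg CommRingCat.Hom.hom (TopCat.Presheaf.germ_res Z.presheaf (homOfLE (hT z)) x hx)
  have hrt : ∀ (z : W) (x : Z) (hx : x ∈ T z),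
      (f.map (Z.presheaf.germ W x (hT z hx)).hom).IsRoot (Z.presheaf.germ (T z) x hx (a z)) := fun z x hx => by
    rw [← hγ z x hx, ← Polynomial.map_map]
    exact (hroot z).map
  have hcompat : TopCat.Presheaf.IsCompatible Z.presheaf T a := by
    intro z w
    apply TopCat.Presheaf.section_ext Z.sheaf
    intro x hx
    change Z.presheaf.germ _ x hx (Z.presheaf.map _ (a z)) = Z.presheaf.germ _ x hx (Z.presheaf.map _ (a w))
    rw [TopCat.Presheaf.germ_res_apply, TopCat.Presheaf.germ_res_apply]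
    have m1 : ∀ (z : W) (hx : x ∈ T z), Z.presheaf.germ (T z) x hx (a z) - Z.presheaf.germ W x (hT z hx) a₀ ∈
        IsLocalRing.maximalIdeal (Z.presheaf.stalk x) := fun z hx => by
      have := (mem_vanI_iff _).1 (hvan z) x hx
      rw [map_sub] at this
      rw [show Z.presheaf.germ W x (hT z hx) a₀ = Z.presheaf.germ (T z) x hx (res (hT z) a₀) from
        (DFunLike.congr_fun (hγ z x hx) a₀).symm]
      exact this
    have hxz : x ∈ T z := hx.1
    have hxw : x ∈ T w := hx.2
    refine root_unique (f.map (Z.presheaf.germ W x (hT z hxz)).hom) (hrt z x hxz) (hrt w x hxw) ?_ ?_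
    · have hd : Z.presheaf.germ (T w) x hxw (a w) - Z.presheaf.germ W x (hT w hxw) a₀ ∈
          IsLocalRing.maximalIdeal (Z.presheaf.stalk x) := m1 w hxw
      rw [derivative_map]
      obtain ⟨c, hc⟩ := sub_dvd_eval_sub (Z.presheaf.germ (T w) x hxw (a w)) (Z.presheaf.germ W x (hT z hxz) a₀)
        (f.derivative.map (Z.presheaf.germ W x (hT z hxz)).hom)
      have hu' : IsUnit ((f.derivative.map (Z.presheaf.germ W x (hT z hxz)).hom).eval
          (Z.presheaf.germ W x (hT z hxz) a₀)) := by
        rw [Polynomial.eval_map]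
        change IsUnit (eval₂ _ ((Z.presheaf.germ W x (hT z hxz)).hom a₀) f.derivative)
        rw [eval₂_at_apply]
        exact hu.map _
      by_contra hn
      refine (IsLocalRing.notMem_maximalIdeal.2 hu') ?_
      have := sub_mem ((IsLocalRing.mem_maximalIdeal _).2 hn) (hc ▸ Ideal.mul_mem_right c _ hd)
      simpa using this
    · have := sub_mem (m1 z hxz) (m1 w hxw)
      simpa using this
  obtain ⟨b, hb, -⟩ := Z.sheaf.existsUnique_gluing' T W (fun z => homOfLE (hT z))
    (fun x hx => Opens.mem_iSup.2 ⟨⟨x, hx⟩, hzT _⟩) a hcompat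
  have hbγ : ∀ x (hx : x ∈ W), Z.presheaf.germ W x hx b = Z.presheaf.germ (T ⟨x, hx⟩) x (hzT _) (a ⟨x, hx⟩) :=
    fun x hx => by
      rw [← hb ⟨x, hx⟩]
      exact (TopCat.Presheaf.germ_res_apply Z.presheaf _ x _ b).symm
  let b' : Z.presheaf.obj (op W) := b
  refine ⟨b', ?_, (mem_vanI_iff _).2 fun x hx => ?_⟩
  · apply TopCat.Presheaf.section_ext Z.sheaf
    intro x hx
    change Z.presheaf.germ W x hx (f.eval b) = Z.presheaf.germ W x hx 0
    have := hrt ⟨x, hx⟩ x (hzT _)
    rw [IsRoot, ← hbγ x hx, Polynomial.eval_map] at this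
    change eval₂ _ ((Z.presheaf.germ W x hx).hom b) f = 0 at this
    rw [eval₂_at_apply] at this
    exact this.trans (map_zero (Z.presheaf.germ W x hx).hom).symm
  · have := (mem_vanI_iff _).1 (hvan ⟨x, hx⟩) x (hzT _)
    rw [map_sub] at this
    change (Z.presheaf.germ W x hx).hom (b' - a₀) ∈ _
    rw [map_sub]
    change Z.presheaf.germ W x hx b - _ ∈ _
    rw [hbγ x hx, show (Z.presheaf.germ W x hx).hom a₀ = Z.presheaf.germ (T ⟨x, hx⟩) x (hzT _) (res (hT ⟨x, hx⟩) a₀) from
        (DFunLike.congr_fun (hγ ⟨x, hx⟩ x (hzT _)) a₀).symm]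
    exact this

/-- Rings of sections of a Henselian scheme are Henselian along the sections vanishing everywhere. -/
theorem henselianRing_vanI (hZ : HensSch.IsHensScheme Z) (W : Opens Z) :
    HenselianRing (Z.presheaf.obj (op W)) (vanI W) :=
  henselianRing_vanI' (fun z => by
    obtain ⟨U, i, hi, hzi, A, _, I, π, -, -, h⟩ := hZ z
    exact ⟨U, i, hi, hzi, A, inferInstance, I, π, h⟩) W

/-- A Henselization of a scheme is covered by affine Henselian spectra. -/
theorem locallySph'_henselization {S : Scheme.{u}} {Y : Set S} {Xh : LocallyRingedSpace.{u}}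
    {ι : Xh ⟶ S.toLocallyRingedSpace} (h : HensSch.IsHenselizationAlong S Y Xh ι) : LocallySph' Xh := by
  intro z
  obtain ⟨-, -, hrange, hloc⟩ := h
  obtain ⟨A, _, j, hj, hxj, V, v, hv, π, hvr, -, hsph⟩ := hloc (ι.base z) (hrange ▸ ⟨z, rfl⟩)
  exact ⟨V, v, hv, by rw [hvr]; exact hxj, A, inferInstance, _, π, hsph⟩

end Groth.Agent.HensSchLib
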