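import Groth.Agent.HensSchLib.GoodOpen
import Groth.Agent.HensSchLib.Faithful
import Groth.Agent.FormalSysLib.Tricky
import Groth.Agent.QCohLib.Coherent
import Mathlib.RingTheory.Flat.FaithfullyFlat.Algebra
import Mathlib.RingTheory.Filtration

/-!
# Inverse images of coherent modules on a Henselization along `V(I)`

Sections of the inverse image are locally in the span of pulled back sections; they are detected by
the quotients by the powers of `I`; and a module killed by a power of `I` is the direct image of its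
inverse image.
-/

set_option autoImplicit false
set_option backward.isDefEq.respectTransparency false
set_option linter.style.haveILetI false
set_option linter.unusedSectionVars false

universe u

open CategoryTheory CategoryTheory.Limits Opposite TopologicalSpace Topology AlgebraicGeometry
open Groth.Agent.CohBase Groth.Agent.ProjCoh Groth.Agent.QCohLib Groth.Agent.FormalSys
open scoped TensorProduct

noncomputable section

namespace Groth.Agent.HensSchLib

open Groth.Agent.RSpLib Groth.Agent.ModTensor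

section Stalk

variable {X Y : TopCat.{u}} {O : TopCat.Sheaf CommRingCat.{u} X} {O' : TopCat.Sheaf CommRingCat.{u} Y}
  (f : X ⟶ Y) (c : O' ⟶ ((Opens.map f).sheafPushforwardContinuous CommRingCat.{u}
    (Opens.grothendieckTopology Y) (Opens.grothendieckTopology X)).obj O)

/-- The stalk of an inverse image is generated by the pulled back germs. -/
theorem pullStk_induction (M : ModSite.Mod O') (x : X) (P : stk ((rm f c).pull.obj M) x → Prop)
    (h0 : P 0) (htmul : ∀ (b : rstk O x) (m : stk M (f x)), P (b • pullStk f c M x m))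
    (hadd : ∀ s t, P s → P t → P (s + t)) (s : stk ((rm f c).pull.obj M) x) : P s := by
  letI : Algebra (rstk O' (f x)) (rstk O x) := (rstkMap f c x).hom.toAlgebra
  letI := Module.compHom (stk ((rm f c).pull.obj M) x) (rstkMap f c x).hom
  haveI : IsScalarTower (rstk O' (f x)) (rstk O x) (stk ((rm f c).pull.obj M) x) :=
    .of_algebraMap_smul fun _ _ => rfl
  obtain ⟨z, rfl⟩ := (isBaseChange_pullStkL f c M x).equiv.surjective s
  induction z with
  | zero => rw [map_zero]; exact h0
  | tmul b m => rw [IsBaseChange.equiv_tmul]; exact htmul b m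
  | add p q hp hq => rw [map_add]; exact hadd _ _ hp hq

/-- Along a faithfully flat map of stalks the pullback of germs is injective. -/
theorem pullStk_injective_of_faithfullyFlat (M : ModSite.Mod O') (x : X)
    (h : (rstkMap f c x).hom.FaithfullyFlat) : Function.Injective (pullStk f c M x) := by
  letI : Algebra (rstk O' (f x)) (rstk O x) := (rstkMap f c x).hom.toAlgebra
  haveI : Module.FaithfullyFlat (rstk O' (f x)) (rstk O x) := h
  letI := Module.compHom (stk ((rm f c).pull.obj M) x) (rstkMap f c x).hom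
  haveI : IsScalarTower (rstk O' (f x)) (rstk O x) (stk ((rm f c).pull.obj M) x) :=
    .of_algebraMap_smul fun _ _ => rfl
  have hb := isBaseChange_pullStkL f c M x
  intro p q hpq
  refine Module.FaithfullyFlat.tensorProduct_mk_injective (A := rstk O' (f x))
    (B := rstk O x) _ (hb.equiv.injective ?_)
  show hb.equiv (1 ⊗ₜ p) = hb.equiv (1 ⊗ₜ q)
  rw [hb.equiv_tmul, hb.equiv_tmul, one_smul, one_smul]
  exact hpq

end Stalk

section Basic

variable {X : Scheme.{u}} {Xh : LocallyRingedSpace.{u}} (ι : Xh ⟶ X.toLocallyRingedSpace)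

/-- The ring of sections of the Henselization over an open of the scheme. -/
abbrev Bsec (U : X.Opens) : CommRingCat.{u} := Xh.sheaf.obj.obj (op (preO ι U))

/-- The map of rings of sections. -/
abbrev φB (U : X.Opens) : Γ(X, U) →+* Bsec ι U := φU ι U

/-- The underlying presheaf of modules of the inverse image. -/
abbrev PM (M : X.Modules) : PMod Xh.sheaf.obj := pre Xh.sheaf ((HensSch.pullMod ι).obj M)

/-- A pulled back section. -/
abbrev un (M : X.Modules) {U : X.Opens} (m : Γ(M, U)) : ((PM ι M).obj (op (preO ι U)) : Type u) :=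
  unitS (O := Xh.sheaf) (O' := X.sheaf) ι.base ⟨ι.c⟩ M m

/-- The map of sections of inverse images. -/
abbrev plin {M N : X.Modules} (φ : M ⟶ N) (W : Opens Xh) :=
  lin ((preFunctor Xh.sheaf).map ((HensSch.pullMod ι).map φ)) (op W)

/-- Sections generated by pulled back sections. -/
abbrev spanU (M : X.Modules) (U : X.Opens) : Submodule (Bsec ι U) ((PM ι M).obj (op (preO ι U)) : Type u) :=
  Submodule.span (Bsec ι U) (Set.range (un ι M (U := U)))

variable {ι} {M : X.Modules}

theorem un_smul {U : X.Opens} (r : Γ(X, U)) (m : Γ(M, U)) : un ι M (r • m) = φB ι U r • un ι M m :=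
  map_smul (lin ((preFunctor X.sheaf).map ((rm (O := Xh.sheaf) (O' := X.sheaf) ι.base ⟨ι.c⟩).adj.unit.app M))
    (op U)) r m

theorem plin_un {N : X.Modules} (φ : M ⟶ N) {U : X.Opens} (m : Γ(M, U)) :
    plin ι φ (preO ι U) (un ι M m) = un ι N (φ.app U m) :=
  (congr(($((rm (O := Xh.sheaf) (O' := X.sheaf) ι.base ⟨ι.c⟩).adj.unit.naturality φ)).val.app (op U) m)).symm

theorem un_res {U V : X.Opens} (h : V ≤ U) (m : Γ(M, U)) :
    res (PM ι M) ((Opens.map ι.base).map (homOfLE h)).op (un ι M m) =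
      un ι M (M.presheaf.map (homOfLE h).op m) :=
  (lin_res ((preFunctor X.sheaf).map ((rm (O := Xh.sheaf) (O' := X.sheaf) ι.base ⟨ι.c⟩).adj.unit.app M))
    (homOfLE h).op m).symm

theorem res_mem_spanU {U V : X.Opens} (h : V ≤ U) {v : ((PM ι M).obj (op (preO ι U)) : Type u)}
    (hv : v ∈ spanU ι M U) : res (PM ι M) ((Opens.map ι.base).map (homOfLE h)).op v ∈ spanU ι M V := by
  induction hv using Submodule.span_induction with
  | mem v hv =>
    obtain ⟨m, rfl⟩ := hv
    rw [un_res]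
    exact Submodule.subset_span ⟨_, rfl⟩
  | zero => rw [map_zero]; exact zero_mem _
  | add v w _ _ h₁ h₂ => rw [map_add]; exact add_mem h₁ h₂
  | smul b v _ h₁ => rw [res_smul]; exact Submodule.smul_mem _ _ h₁

theorem fg_spanU {U : X.Opens} (hM : Module.Finite Γ(X, U) Γ(M, U)) : (spanU ι M U).FG := by
  obtain ⟨s, hs⟩ := hM.fg_top
  classical
  refine ⟨s.image (un ι M (U := U)), le_antisymm (Submodule.span_mono fun _ hx => ?_)
    (Submodule.span_le.2 ?_)⟩
  · rw [Finset.coe_image] at hx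
    obtain ⟨m, -, rfl⟩ := hx
    exact ⟨m, rfl⟩
  · rintro _ ⟨m, rfl⟩
    have hm : m ∈ Submodule.span Γ(X, U) (s : Set Γ(M, U)) := hs ▸ trivial
    induction hm using Submodule.span_induction with
    | mem m hm => exact Submodule.subset_span (Finset.mem_image_of_mem _ hm)
    | zero =>
      rw [show un ι M (0 : Γ(M, U)) = 0 from map_zero (lin _ _)]
      exact zero_mem _
    | add m m' _ _ h₁ h₂ =>
      rw [show un ι M (m + m') = un ι M m + un ι M m' from map_add (lin _ _) m m']
      exact add_mem h₁ h₂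
    | smul r m _ h₁ => rw [un_smul]; exact Submodule.smul_mem _ _ h₁

variable {Y : Set X} (hh : HensSch.IsHenselizationAlong X Y Xh ι)

include hh in
theorem exists_good_preO_le {z : Xh} {W : Opens Xh} (hz : z ∈ W) {O : X.Opens} (hzO : ι.base z ∈ O) :
    ∃ U : X.Opens, ι.base z ∈ U ∧ U ≤ O ∧ IsAffineOpen U ∧ Good ι U ∧ preO ι U ≤ W := by
  obtain ⟨V, hV, e⟩ := hh.2.1.isInducing.isOpen_iff.1 W.2
  have hzV : ι.base z ∈ (⟨V, hV⟩ : X.Opens) ⊓ O := ⟨(Set.ext_iff.1 e z).2 hz, hzO⟩
  obtain ⟨U, hzU, hUO, hUa, hUg⟩ := exists_good_affine hh (ι.base z) (hh.2.2.1 ▸ ⟨z, rfl⟩) _ hzV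
  exact ⟨U, hzU, hUO.trans inf_le_right, hUa, hUg, fun w hw => (Set.ext_iff.1 e w).1 (hUO hw).1⟩

include hh in
/-- Sections of an inverse image are locally combinations of pulled back sections. -/
theorem local_form {W : Opens Xh} (t : ((PM ι M).obj (op W) : Type u)) {z : Xh} (hz : z ∈ W) (O : X.Opens)
    (hzO : ι.base z ∈ O) :
    ∃ (U : X.Opens) (h : preO ι U ≤ W), ι.base z ∈ U ∧ U ≤ O ∧ IsAffineOpen U ∧ Good ι U ∧
      res (PM ι M) (homOfLE h).op t ∈ spanU ι M U := by
  let f := ι.base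
  let P : stk (O := Xh.sheaf) ((HensSch.pullMod ι).obj M) z → Prop := fun s => ∀ O : X.Opens, f z ∈ O →
    ∃ (U : X.Opens) (hU : f z ∈ U), U ≤ O ∧ IsAffineOpen U ∧ Good ι U ∧ ∃ v ∈ spanU ι M U,
      germ (O := Xh.sheaf) ((HensSch.pullMod ι).obj M) (U := preO ι U) hU v = s
  have hP : ∀ s, P s := by
    intro s
    refine pullStk_induction (O := Xh.sheaf) (O' := X.sheaf) f ⟨ι.c⟩ M z P ?_ ?_ ?_ s
    · intro O hO
      obtain ⟨U, hzU, hUO, hUa, hUg, -⟩ := exists_good_preO_le hh (z := z) (W := ⊤) trivial hO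
      exact ⟨U, hzU, hUO, hUa, hUg, 0, zero_mem _, map_zero _⟩
    · intro b μ O hO
      obtain ⟨T, hzT, b, rfl⟩ := TopCat.Presheaf.exists_germ_eq Xh.sheaf.obj b
      obtain ⟨U₁, hU₁, m, rfl⟩ := TopCat.Presheaf.exists_germ_eq (pre X.sheaf M).presheaf μ
      obtain ⟨U, hzU, hUO, hUa, hUg, hUT⟩ := exists_good_preO_le hh hzT
        (show f z ∈ O ⊓ U₁ from ⟨hO, hU₁⟩)
      refine ⟨U, hzU, hUO.trans inf_le_left, hUa, hUg,
        (Xh.sheaf.obj.map (homOfLE hUT).op).hom b •
          un ι M (M.presheaf.map (homOfLE (hUO.trans inf_le_right)).op m),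
        Submodule.smul_mem _ _ (Submodule.subset_span ⟨_, rfl⟩), ?_⟩
      rw [germ_smul']
      congr 1
      · exact TopCat.Presheaf.germ_res_apply Xh.sheaf.obj (homOfLE hUT) z hzU b
      · rw [← un_res, germ_res]
        exact (pullStk_germ (O := Xh.sheaf) (O' := X.sheaf) f ⟨ι.c⟩ M hU₁ m).symm
    · intro s₁ s₂ h₁ h₂ O hO
      obtain ⟨U₁, hU₁, hU₁O, -, -, v₁, hv₁, rfl⟩ := h₁ O hO
      obtain ⟨U₂, hU₂, hU₂U, hU₂a, hU₂g, v₂, hv₂, rfl⟩ := h₂ U₁ hU₁
      refine ⟨U₂, hU₂, hU₂U.trans hU₁O, hU₂a, hU₂g,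
        res (PM ι M) ((Opens.map ι.base).map (homOfLE hU₂U)).op v₁ + v₂,
        add_mem (res_mem_spanU hU₂U hv₁) hv₂, ?_⟩
      rw [map_add, germ_res]
  obtain ⟨U₀, hU₀, hU₀O, -, -, v, hv, he⟩ := hP (germ (O := Xh.sheaf) ((HensSch.pullMod ι).obj M) hz t) O hzO
  obtain ⟨T, hzT, i₁, i₂, e⟩ := TopCat.Presheaf.germ_eq (PM ι M).presheaf z hU₀ hz _ _ he
  obtain ⟨U, hzU, hUU, hUa, hUg, hUT⟩ := exists_good_preO_le hh hzT hU₀
  have hUW : preO ι U ≤ W := fun w hw => i₂.le (hUT hw)
  refine ⟨U, hUW, hzU, hUU.trans hU₀O, hUa, hUg, ?_⟩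
  have e' : res (PM ι M) (homOfLE hUW).op t =
      res (PM ι M) ((Opens.map ι.base).map (homOfLE hUU)).op v := by
    refine section_ext (O := Xh.sheaf) ((HensSch.pullMod ι).obj M) _ _ fun w hw => ?_
    rw [germ_res, germ_res, ← germ_res ((HensSch.pullMod ι).obj M) i₂ (hUT hw),
      ← germ_res ((HensSch.pullMod ι).obj M) i₁ (hUT hw)]
    exact congrArg _ e.symm
  rw [e']
  exact res_mem_spanU hUU hv

include hh in
theorem pullStk_injective (M : X.Modules) (z : Xh) :
    Function.Injective (pullStk (O := Xh.sheaf) (O' := X.sheaf) ι.base ⟨ι.c⟩ M z) :=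
  pullStk_injective_of_faithfullyFlat (O := Xh.sheaf) (O' := X.sheaf) ι.base ⟨ι.c⟩ M z
    (faithfullyFlat_of_flat_local (R := X.presheaf.stalk (ι.base z)) (S := Xh.presheaf.stalk z)
      (ι.stalkMap z).hom (flat_stalkMap_henselization hh z))

end Basic

section Adic

variable {A : Type u} [CommRing A] {I : Ideal A} {X : Scheme.{u}} [X.Over (Spec (CommRingCat.of A))]
  {Xh : LocallyRingedSpace.{u}} {ι : Xh ⟶ X.toLocallyRingedSpace}

/-- The closed subset cut out by the ideal. -/
abbrev zeroY (I : Ideal A) (X : Scheme.{u}) [X.Over (Spec (CommRingCat.of A))] : Set X :=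
  (X ↘ Spec (CommRingCat.of A)).base ⁻¹' PrimeSpectrum.zeroLocus (I : Set A)

theorem mem_basicOpen_φV {U : X.Opens} {x : X} (hx : x ∈ U) (a : A) :
    x ∈ X.basicOpen (φV (FormalLib.cst A X) U a) ↔
      (X ↘ Spec (CommRingCat.of A)).base x ∈ PrimeSpectrum.basicOpen a := by
  rw [show X.basicOpen (φV (FormalLib.cst A X) U a) = U ⊓ X.basicOpen (FormalLib.cst A X a) from
    X.basicOpen_res _ _]
  have e : X.basicOpen (FormalLib.cst A X a) =
      (X ↘ Spec (CommRingCat.of A)) ⁻¹ᵁ (PrimeSpectrum.basicOpen a) := by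
    show X.basicOpen ((X ↘ Spec (CommRingCat.of A)).app ⊤ ((Scheme.ΓSpecIso (CommRingCat.of A)).inv a)) = _
    rw [← Scheme.preimage_basicOpen, basicOpen_eq_of_affine']
    simp
  rw [e]
  exact ⟨fun h => h.2, fun h => ⟨hx, h⟩⟩

theorem smul_app_eq_zero {J : Ideal A} {T : X.Modules} (hT : Formal.KilledBy J T) {U : X.Opens} {a : A}
    (ha : a ∈ J) (m : Γ(T, U)) : φV (FormalLib.cst A X) U a • m = 0 :=
  congr($(hT a ha).app U m)

/-- Pulled back sections of a killed module are killed. -/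
theorem smul_spanU_eq_zero {J : Ideal A} {T : X.Modules} (hT : Formal.KilledBy J T) {U : X.Opens}
    {l : Bsec ι U} (hl : l ∈ (JU J U).map (φB ι U)) {v : ((PM ι T).obj (op (preO ι U)) : Type u)}
    (hv : v ∈ spanU ι T U) : l • v = 0 := by
  induction hl using Submodule.span_induction generalizing v with
  | mem l hl =>
    obtain ⟨r, hr, rfl⟩ := hl
    induction hr using Submodule.span_induction generalizing v with
    | mem r hr =>
      obtain ⟨a, ha, rfl⟩ := hr
      induction hv using Submodule.span_induction with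
      | mem v hv =>
        obtain ⟨m, rfl⟩ := hv
        rw [← un_smul, smul_app_eq_zero hT ha]
        exact map_zero (lin _ _)
      | zero => rw [smul_zero]
      | add v w _ _ h₁ h₂ => rw [smul_add, h₁, h₂, add_zero]
      | smul b v _ h₁ => rw [smul_comm, h₁, smul_zero]
    | zero => rw [map_zero, zero_smul]
    | add r r' _ _ h₁ h₂ => rw [map_add, add_smul, h₁ hv, h₂ hv, add_zero]
    | smul c r _ h₁ => rw [smul_eq_mul, map_mul, mul_smul, h₁ hv, smul_zero]
  | zero => rw [zero_smul]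
  | add l l' _ _ h₁ h₂ => rw [add_smul, h₁ hv, h₂ hv, add_zero]
  | smul c l _ h₁ => rw [smul_eq_mul, mul_smul, h₁ hv, smul_zero]

variable [IsLocallyNoetherian X] (hh : HensSch.IsHenselizationAlong X (zeroY I X) Xh ι)

include hh in
theorem vanY_le_radical {U : X.Opens} (hU : IsAffineOpen U) : vanY ι U ≤ (JU I U).radical := by
  intro r hr
  rw [Ideal.radical_eq_sInf, Ideal.mem_sInf]
  rintro p ⟨hp, hprime⟩
  by_contra hrp
  let q : PrimeSpectrum Γ(X, U) := ⟨p, hprime⟩
  let x : X := hU.fromSpec q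
  have hxU : x ∈ U := show x ∈ (U : Set X) from hU.range_fromSpec ▸ ⟨q, rfl⟩
  have hiff : ∀ a : Γ(X, U), x ∈ X.basicOpen a ↔ a ∉ p := fun a => by
    show q ∈ hU.fromSpec ⁻¹ᵁ X.basicOpen a ↔ _
    rw [hU.fromSpec_preimage_basicOpen]
    exact PrimeSpectrum.mem_basicOpen _ _
  have hxY : x ∈ zeroY I X := fun i hi => by
    by_contra h
    exact (hiff _).1 ((mem_basicOpen_φV hxU i).2 h) (hp (Ideal.mem_map_of_mem _ hi))
  obtain ⟨z, hz⟩ : x ∈ Set.range ι.base := hh.2.2.1 ▸ hxY
  have hzU : ι.base z ∈ U := hz ▸ hxU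
  have h1 := (mem_vanI_iff (Z := Xh) _).1 (show φU ι U r ∈ vanI (preO ι U) from hr) z hzU
  have h2 : ι.base z ∈ X.basicOpen r := hz ▸ (hiff r).2 hrp
  rw [Scheme.mem_basicOpen _ _ _ hzU] at h2
  exact (IsLocalRing.mem_maximalIdeal _).1 ((germ_app_mem_iff ι r z hzU).1 h1) h2

include hh in
theorem good_pair {U : X.Opens} (hU : Good ι U) :
    letI := (φB ι U).toAlgebra
    Hens2.IsPairHenselization Γ(X, U) (vanY ι U) (Bsec ι U) := by
  letI := (φB ι U).toAlgebra
  refine ⟨?_, fun C _ J g hC hJ => hU.univ C J g hC hJ⟩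
  let V : Ideal (Bsec ι U) := vanI (Z := Xh) (preO ι U)
  have H : HenselianRing (Bsec ι U) V := henselianRing_vanI' (locallySph'_henselization hh) (preO ι U)
  have hle : (vanY ι U).map (φB ι U) ≤ V := Ideal.map_le_iff_le_comap.2 le_rfl
  have hV : V ≤ Ideal.jacobson ⊥ := vanI_le_jacobson (Z := Xh) (preO ι U)
  refine ⟨hle.trans hV, fun f hf a₀ h0 h1 => ?_⟩
  haveI := isLocalHom_of_le_jacobson_bot _ hV
  have h1' : IsUnit (Ideal.Quotient.mk V (f.derivative.eval a₀)) := by
    have := h1.map (Ideal.Quotient.factor hle)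
    exact (Ideal.Quotient.factor_mk hle _) ▸ this
  obtain ⟨a, ha, hab⟩ := H.is_henselian f hf a₀ (hle h0) ((isUnit_map_iff (Ideal.Quotient.mk V) _).1 h1' |>.map _)
  refine ⟨a, ha, ?_⟩
  obtain ⟨k, hk⟩ := f.binomExpansion a₀ (a - a₀)
  rw [add_sub_cancel, ha] at hk
  have hu : IsUnit (f.derivative.eval a₀ + k * (a - a₀)) := by
    refine (isUnit_map_iff (Ideal.Quotient.mk V) _).1 ?_
    rw [map_add, Ideal.Quotient.eq_zero_iff_mem.2 (Ideal.mul_mem_left _ k hab), add_zero]
    exact h1'
  refine (Ideal.mul_unit_mem_iff_mem _ hu).1 ?_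
  rw [show (a - a₀) * (f.derivative.eval a₀ + k * (a - a₀)) = -f.eval a₀ by linear_combination hk.symm]
  exact neg_mem h0

include hh in
theorem isNoetherianRing_Bsec {U : X.Opens} (hU : Good ι U) (hUa : IsAffineOpen U) :
    IsNoetherianRing (Bsec ι U) := by
  letI := (φB ι U).toAlgebra
  haveI : IsNoetherianRing Γ(X, U) := IsLocallyNoetherian.component_noetherian ⟨U, hUa⟩
  exact Groth.Agent.PairHens.isNoetherianRing_of_isPairHenselization (good_pair hh hU)

include hh in
theorem map_JU_le_jacobson (U : X.Opens) : (JU I U).map (φB ι U) ≤ Ideal.jacobson ⊥ := by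
  refine le_trans ?_ (vanI_le_jacobson (Z := Xh) (preO ι U))
  rw [Ideal.map_map, Ideal.map_le_iff_le_comap]
  intro a ha
  refine (mem_vanI_iff (Z := Xh) _).2 fun z hz => ?_
  refine (germ_app_mem_iff ι _ z hz).2 ?_
  rw [IsLocalRing.mem_maximalIdeal, mem_nonunits_iff, ← Scheme.mem_basicOpen, mem_basicOpen_φV (show ι.base z ∈ U from hz)]
  exact not_not.2 ((hh.2.2.1 ▸ ⟨z, rfl⟩ : ι.base z ∈ zeroY I X) ha)

include hh in
theorem approx {U : X.Opens} (hU : Good ι U) (hUa : IsAffineOpen U) (k : ℕ) (b : Bsec ι U) :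
    ∃ r, b - φB ι U r ∈ (JU (I ^ k) U).map (φB ι U) := by
  letI := (φB ι U).toAlgebra
  haveI : IsNoetherianRing Γ(X, U) := IsLocallyNoetherian.component_noetherian ⟨U, hUa⟩
  obtain ⟨N, hN⟩ := Ideal.exists_pow_le_of_le_radical_of_fg (vanY_le_radical hh hUa) (IsNoetherian.noetherian _)
  obtain ⟨r, hr⟩ := Groth.Agent.PairHens.exists_sub_mem_map_pow (good_pair hh hU) (N * k) b
  refine ⟨r, Ideal.map_mono ?_ hr⟩
  rw [pow_mul, JU_pow]
  exact Ideal.pow_right_mono hN k

include hh in
/-- Modulo a power of the ideal, combinations of pulled back sections are pulled back sections. -/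
theorem approx_span {M : X.Modules} {U : X.Opens} (hU : Good ι U) (hUa : IsAffineOpen U) (k : ℕ)
    {v : ((PM ι M).obj (op (preO ι U)) : Type u)} (hv : v ∈ spanU ι M U) :
    ∃ m : Γ(M, U), v - un ι M m ∈ (JU (I ^ k) U).map (φB ι U) • spanU ι M U := by
  induction hv using Submodule.span_induction with
  | mem v hv =>
    obtain ⟨m, rfl⟩ := hv
    exact ⟨m, by rw [sub_self]; exact zero_mem _⟩
  | zero => exact ⟨0, by rw [show un ι M (0 : Γ(M, U)) = 0 from map_zero (lin _ _), sub_self]; exact zero_mem _⟩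
  | add v w _ _ h₁ h₂ =>
    obtain ⟨m, hm⟩ := h₁
    obtain ⟨m', hm'⟩ := h₂
    refine ⟨m + m', ?_⟩
    rw [show un ι M (m + m') = un ι M m + un ι M m' from map_add (lin _ _) m m', add_sub_add_comm]
    exact add_mem hm hm'
  | smul b v hv h₁ =>
    obtain ⟨m, hm⟩ := h₁
    obtain ⟨r, hr⟩ := approx hh hU hUa k b
    refine ⟨r • m, ?_⟩
    rw [un_smul, show b • v - φB ι U r • un ι M m = b • (v - un ι M m) + (b - φB ι U r) • un ι M m by
      rw [smul_sub, sub_smul]; abel]
    exact add_mem (Submodule.smul_mem _ _ hm) (Submodule.smul_mem_smul hr (Submodule.subset_span ⟨_, rfl⟩))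

/-- Linear maps send combinations of pulled back sections to such combinations. -/
theorem plin_mem_spanU {M N : X.Modules} (φ : M ⟶ N) {U : X.Opens} {v : ((PM ι M).obj (op (preO ι U)) : Type u)}
    (hv : v ∈ spanU ι M U) : plin ι φ (preO ι U) v ∈ spanU ι N U := by
  induction hv using Submodule.span_induction with
  | mem v hv =>
    obtain ⟨m, rfl⟩ := hv
    rw [plin_un]
    exact Submodule.subset_span ⟨_, rfl⟩
  | zero => rw [map_zero]; exact zero_mem _
  | add v w _ _ h₁ h₂ => rw [map_add]; exact add_mem h₁ h₂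
  | smul b v _ h₁ => rw [map_smul]; exact Submodule.smul_mem _ _ h₁

include hh in
/-- The unit is injective on modules killed by a power of the ideal. -/
theorem un_eq_zero_iff {k : ℕ} {T : X.Modules} (hT : Formal.KilledBy (I ^ k) T) {U : X.Opens} {m : Γ(T, U)} :
    un ι T m = 0 ↔ m = 0 := by
  refine ⟨fun h => ?_, fun h => by rw [h]; exact map_zero (lin _ _)⟩
  refine section_ext (O := X.sheaf) T (U := U) m 0 fun x hx => ?_
  rw [map_zero]
  by_cases hxY : x ∈ zeroY I X
  · obtain ⟨z, rfl⟩ : x ∈ Set.range ι.base := hh.2.2.1 ▸ hxY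
    refine pullStk_injective hh T z ?_
    rw [map_zero, pullStk_germ]
    exact (congrArg _ h).trans (map_zero _)
  · obtain ⟨a, ha, hax⟩ : ∃ a ∈ I, a ∉ ((X ↘ Spec (CommRingCat.of A)).base x).asIdeal := by
      by_contra hc
      push Not at hc
      exact hxY fun a ha => hc a ha
    have hu : IsUnit (X.presheaf.germ U x hx (φV (FormalLib.cst A X) U (a ^ k))) := by
      rw [map_pow, map_pow]
      exact ((Scheme.mem_basicOpen _ _ _ hx).1 ((mem_basicOpen_φV hx a).2 hax)).pow k
    have h0 : φV (FormalLib.cst A X) U (a ^ k) • m = 0 := smul_app_eq_zero hT (Ideal.pow_mem_pow ha k) m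
    refine (hu.smul_eq_zero).1 ?_
    exact (germ_smul' (O := X.sheaf) T hx _ m).symm.trans ((congrArg _ h0).trans (map_zero _))

include hh in
/-- Pulled back sections of killed modules are all sections. -/
theorem exists_un_eq {k : ℕ} {T : X.Modules} (hT : Formal.KilledBy (I ^ k) T) {U : X.Opens} (hU : Good ι U)
    (hUa : IsAffineOpen U) {v : ((PM ι T).obj (op (preO ι U)) : Type u)} (hv : v ∈ spanU ι T U) :
    ∃ m : Γ(T, U), v = un ι T m := by
  obtain ⟨m, hm⟩ := approx_span hh hU hUa k hv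
  refine ⟨m, sub_eq_zero.1 (Submodule.smul_induction_on hm (fun l hl w hw => smul_spanU_eq_zero hT hl hw)
    (fun x y hx hy => by rw [hx, hy, add_zero]))⟩

include hh in
/-- A module killed by a power of the ideal is the direct image of its inverse image. -/
theorem isIso_unit {k : ℕ} {T : X.Modules} (hT : Formal.KilledBy (I ^ k) T) :
    IsIso ((HensSch.pullPushAdj ι).unit.app T) := by
  let η : T ⟶ (HensSch.pushMod ι).obj ((HensSch.pullMod ι).obj T) := (HensSch.pullPushAdj ι).unit.app T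
  let Q : X.Modules := (HensSch.pushMod ι).obj ((HensSch.pullMod ι).obj T)
  let F : TopCat.Sheaf AddCommGrpCat.{u} X := ⟨T.presheaf, T.isSheaf⟩
  let G : TopCat.Sheaf AddCommGrpCat.{u} X := ⟨Q.presheaf, Q.isSheaf⟩
  let f : F ⟶ G := ⟨(PresheafOfModules.toPresheaf _).map η.val⟩
  have happ : ∀ (U : X.Opens) (m : Γ(T, U)), f.hom.app (op U) m = un ι T m := fun U m => rfl
  have hinj : ∀ U : X.Opens, Function.Injective (f.hom.app (op U)) := fun U =>
    (injective_iff_map_eq_zero _).2 fun m hm => (un_eq_zero_iff hh hT).1 ((happ U m).symm.trans hm)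
  have hbij : ∀ U : X.Opens, Function.Bijective (f.hom.app (op U)) := by
    refine fun U => ⟨hinj U, TopCat.Presheaf.app_surjective_of_injective_of_locally_surjective f U
      (fun x _ => TopCat.Presheaf.stalkFunctor_map_injective_of_app_injective (fun V => hinj V) x) ?_⟩
    intro t x hxU
    by_cases hxY : x ∈ zeroY I X
    · obtain ⟨z, rfl⟩ : x ∈ Set.range ι.base := hh.2.2.1 ▸ hxY
      obtain ⟨V, hVW, hzV, hVU, hVa, hVg, hmem⟩ := local_form hh (M := T) (W := preO ι U) t hxU U hxU
      obtain ⟨m, hm⟩ := exists_un_eq hh hT hVg hVa hmem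
      exact ⟨V, hzV, homOfLE hVU, m, hm.symm⟩
    · refine ⟨U ⊓ ⟨(zeroY I X)ᶜ, hh.1.isOpen_compl⟩, ⟨hxU, hxY⟩, homOfLE inf_le_left, 0, ?_⟩
      rw [map_zero]
      refine section_ext (O := Xh.sheaf) ((HensSch.pullMod ι).obj T)
        (U := preO ι (U ⊓ ⟨(zeroY I X)ᶜ, hh.1.isOpen_compl⟩)) _ _ fun w hw => ?_
      exact absurd (hh.2.2.1 ▸ ⟨w, rfl⟩ : ι.base w ∈ zeroY I X) hw.2
  show IsIso η
  rw [Scheme.Modules.Hom.isIso_iff_isIso_app]
  exact fun U => (ConcreteCategory.isIso_iff_bijective _).2 (hbij U)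

include hh in
/-- A section of the inverse image of a coherent module vanishing modulo every power of the ideal
vanishes. -/
theorem eq_zero_of_forall_mod [AlgebraicGeometry.IsNoetherian X] {G : X.Modules} (hG : Coh.IsCoh G) {W : Opens Xh}
    (t : ((PM ι G).obj (op W) : Type u))
    (ht : ∀ n : ℕ, plin ι (Formal.modPowπ I (n + 1) G) W t = 0) : t = 0 := by
  refine section_ext (O := Xh.sheaf) ((HensSch.pullMod ι).obj G) t 0 fun z hz => ?_
  rw [map_zero]
  obtain ⟨U, hUW, hzU, -, hUa, hUg, hmem⟩ := local_form hh (M := G) t hz ⊤ trivial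
  let t' := res (PM ι G) (homOfLE hUW).op t
  suffices h0 : t' = 0 by
    rw [← germ_res ((HensSch.pullMod ι).obj G) (homOfLE hUW) (show z ∈ preO ι U from hzU) t]
    exact (congrArg _ h0).trans (map_zero _)
  let B := Bsec ι U
  let L : Ideal B := (JU I U).map (φB ι U)
  let N := spanU ι G U
  haveI : IsNoetherianRing B := isNoetherianRing_Bsec hh hUg hUa
  haveI : Module.Finite B N := Module.Finite.iff_fg.2 (fg_spanU (finite_sections_of_isCoh hG hUa))
  have key : ∀ n : ℕ, t' ∈ L ^ (n + 1) • N := by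
    intro n
    let T := Formal.modPow I (n + 1) G
    have hT : Formal.KilledBy (I ^ (n + 1)) T := (isCohFormal_completion hG I).2.1 n
    obtain ⟨m, hm⟩ := approx_span hh hUg hUa (n + 1) hmem
    have h0 : plin ι (Formal.modPowπ I (n + 1) G) (preO ι U) t' = 0 := by
      refine (lin_res _ (homOfLE hUW).op t).trans ?_
      exact (congrArg _ (ht n)).trans (map_zero _)
    have h1 : plin ι (Formal.modPowπ I (n + 1) G) (preO ι U) (t' - un ι G m) = 0 := by
      refine Submodule.smul_induction_on hm (fun l hl w hw => ?_) (fun x y hx hy => by rw [map_add, hx, hy, add_zero])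
      rw [map_smul]
      exact smul_spanU_eq_zero hT hl (plin_mem_spanU _ hw)
    rw [map_sub, h0, zero_sub, neg_eq_zero, plin_un, un_eq_zero_iff hh hT] at h1
    have h2 : m ∈ JU I U ^ (n + 1) • (⊤ : Submodule Γ(X, U) Γ(G, U)) := (cπ_app_mem hG n hUa).1 h1
    have h3 : un ι G m ∈ L ^ (n + 1) • N := by
      refine Submodule.smul_induction_on h2 (fun r hr w _ => ?_) (fun x y hx hy => ?_)
      · rw [un_smul]
        refine Submodule.smul_mem_smul ?_ (Submodule.subset_span ⟨_, rfl⟩)
        rw [← Ideal.map_pow]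
        exact Ideal.mem_map_of_mem _ hr
      · rw [show un ι G (x + y) = un ι G x + un ι G y from map_add (lin _ _) x y]
        exact add_mem hx hy
    rw [← sub_add_cancel t' (un ι G m)]
    refine add_mem ?_ h3
    rw [show L ^ (n + 1) = (JU (I ^ (n + 1)) U).map (φB ι U) by rw [JU_pow, Ideal.map_pow]]
    exact hm
  have hx : (⟨t', hmem⟩ : N) ∈ (⨅ i : ℕ, L ^ i • ⊤ : Submodule B N) := by
    rw [Submodule.mem_iInf]
    intro i
    have h1 : t' ∈ L ^ i • N := Submodule.smul_mono_left (Ideal.pow_le_pow_right (Nat.le_succ i)) (key i)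
    rw [← Submodule.map_subtype_top N, ← Submodule.map_smul''] at h1
    obtain ⟨y, hy, e⟩ := h1
    rwa [← show y = (⟨t', hmem⟩ : N) from Subtype.ext e]
  rw [Ideal.iInf_pow_smul_eq_bot_of_le_jacobson L (map_JU_le_jacobson hh U), Submodule.mem_bot] at hx
  exact congrArg Subtype.val hx

end Adic

end Groth.Agent.HensSchLib
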