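import Groth.Agent.HensSchLib.Glue
import Groth.Agent.EtLimLib.Bridge
import Groth.Agent.EtPtsLib.Immersion
import Groth.Agent.S0109
import Groth.Agent.S0121
import Groth.Prelude.Def_EtLim

/-!
# Two-element covers of a Henselian pair of characteristic `p`

For a Henselian pair `(A, I)` in which a positive integer vanishes and `(g₁, g₂) = ⊤`, every element of the
Henselization along `D(g₁ g₂)` is a sum of elements coming from the Henselizations along `D(g₁)` and `D(g₂)`.
The first cohomology of the sheaf of functions near the closed part vanishes by Gabber's affine analogue of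
proper base change, and Gabber's theorem for global sections computes its sections.
-/

set_option autoImplicit false
set_option linter.style.haveILetI false
set_option linter.unusedSectionVars false
set_option backward.isDefEq.respectTransparency false
set_option backward.isDefEq.respectTransparency.types false
set_option maxHeartbeats 1600000

universe u

open CategoryTheory CategoryTheory.Limits AlgebraicGeometry Opposite Abelian

noncomputable section

namespace Groth.Agent.HensSchLib.TwoCover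

/-- Sections of an injective abelian sheaf extend along monomorphisms. -/
theorem surjective_map_injective {C : Type (u + 1)} [Category.{u} C] {J : GrothendieckTopology C}
    [HasSheafify J AddCommGrpCat.{u + 1}] (K : Sheaf J AddCommGrpCat.{u + 1}) [Injective K] {V U : C} (a : V ⟶ U)
    [Mono a] : Function.Surjective (K.obj.map a.op) := by
  intro s
  haveI : Injective K.obj := Injective.injective_of_adjoint (sheafificationAdjunction J AddCommGrpCat.{u + 1}) K
  let adj := (AddCommGrpCat.adj.{u + 1}).whiskerRight Cᵒᵖ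
  let y : C ⥤ Cᵒᵖ ⥤ Type (u + 1) := uliftYoneda.{u + 1}
  let φ := (adj.homEquiv (y.obj V) K.obj).symm (uliftYonedaEquiv.{u + 1}.symm s)
  let m := ((Functor.whiskeringRight Cᵒᵖ _ _).obj AddCommGrpCat.free.{u + 1}).map (y.map a)
  haveI : Mono m := by
    haveI : ∀ W, Mono (m.app W) := fun W => by
      haveI : Mono ((y.map a).app W) := by
        rw [mono_iff_injective]
        intro q q' h
        exact ULift.ext _ _ ((cancel_mono a).1 (congrArg ULift.down h))
      exact Groth.Agent.SiteBase.mono_free_map ((y.map a).app W)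
    exact NatTrans.mono_of_mono_app m
  let t := Injective.factorThru φ m
  refine ⟨uliftYonedaEquiv.{u + 1} (adj.homEquiv (y.obj U) K.obj t), ?_⟩
  refine (uliftYonedaEquiv_naturality.{u + 1} (F := K.obj ⋙ forget AddCommGrpCat) (adj.homEquiv (y.obj U) K.obj t) a.op).trans ?_
  have h : y.map a ≫ adj.homEquiv (y.obj U) K.obj t = adj.homEquiv (y.obj V) K.obj (m ≫ t) :=
    (adj.homEquiv_naturality_left (y.map a) t).symm
  refine (congrArg uliftYonedaEquiv h).trans ?_
  rw [Injective.comp_factorThru, Equiv.apply_symm_apply, Equiv.apply_symm_apply]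

/-- A map of affine schemes. -/
abbrev sp {A B : Type u} [CommRing A] [CommRing B] (φ : A →+* B) : SpA B ⟶ SpA A :=
  Spec.map (CommRingCat.ofHom φ)

section Germs

variable (A : Type u) [CommRing A] (I : Ideal A)

/-- Functions near the closed part. -/
abbrev GG : EtCoh.Ab (SpA A) := (EtCoh.push (clo I)).obj ((EtCoh.pull (clo I)).obj (EtCoh.Ga (SpA A)))

/-- Restriction of functions. -/
abbrev etaG : EtCoh.Ga (SpA A) ⟶ GG A I := (EtCoh.pullPushAdj (clo I)).unit.app (EtCoh.Ga (SpA A))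

end Germs

variable {A : Type u} [CommRing A] {I : Ideal A}

theorem hom_ext_GG (Y : EtCoh.Ab (SpA (A ⧸ I))) (a b : GG A I ⟶ (EtCoh.push (clo I)).obj Y)
    (h : etaG A I ≫ a = etaG A I ≫ b) : a = b := by
  haveI : IsClosedImmersion (clo I) := IsClosedImmersion.spec_of_surjective _ Ideal.Quotient.mk_surjective
  haveI : ∀ G, IsIso ((EtCoh.pullPushAdj (clo I)).counit.app G) := fun G =>
    EtPtsLib.isIso_counit_ab (clo I) (EtPtsLib.liftsLocally_of_isImmersion _) (EtPtsLib.bcInducing_of_isImmersion _) G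
  haveI : IsIso (EtCoh.pullPushAdj (clo I)).counit := NatIso.isIso_of_isIso_app _
  let ff := (EtCoh.pullPushAdj (clo I)).fullyFaithfulROfIsIsoCounit
  obtain ⟨a', rfl⟩ : ∃ a', (EtCoh.push (clo I)).map a' = a := ⟨ff.preimage a, ff.map_preimage a⟩
  obtain ⟨b', rfl⟩ : ∃ b', (EtCoh.push (clo I)).map b' = b := ⟨ff.preimage b, ff.map_preimage b⟩
  rw [etaG, ← Adjunction.homEquiv_unit, ← Adjunction.homEquiv_unit] at h
  rw [((EtCoh.pullPushAdj (clo I)).homEquiv _ _).injective h]

section Change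

variable {B : Type u} [CommRing B] {K : Ideal B} (φ : A →+* B) (hK : I ≤ K.comap φ)

/-- The closed parts. -/
abbrev sp' : SpA (B ⧸ K) ⟶ SpA (A ⧸ I) := sp (Ideal.quotientMap K φ hK)

theorem sq : sp' φ hK ≫ clo I = clo K ≫ sp φ := by
  show Spec.map _ ≫ Spec.map _ = Spec.map _ ≫ Spec.map _
  rw [← Spec.map_comp, ← Spec.map_comp]
  exact congrArg Spec.map (CommRingCat.hom_ext (RingHom.ext fun _ => rfl))

/-- Direct images of the closed part. -/
def isoPush (X : EtCoh.Ab (SpA (B ⧸ K))) :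
    (EtCoh.push (sp φ)).obj ((EtCoh.push (clo K)).obj X) ≅ (EtCoh.push (clo I)).obj ((EtCoh.push (sp' φ hK)).obj X) :=
  (EtCoh.pushComp (sp φ) (clo K)).app X ≪≫ (EtCoh.pushCongr (sq φ hK).symm).app X ≪≫
    ((EtCoh.pushComp (clo I) (sp' φ hK)).app X).symm

/-- Change of the pair. -/
def Phi : GG A I ⟶ (EtCoh.push (sp φ)).obj (GG B K) :=
  (EtCoh.push (clo I)).map (((EtCoh.pullPushAdj (clo I)).homEquiv _ _).symm
      ((EtLim.GaPush (sp φ) ≫ (EtCoh.push (sp φ)).map (etaG B K)) ≫ (isoPush φ hK _).hom)) ≫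
    (isoPush φ hK _).inv

theorem etaG_Phi : etaG A I ≫ Phi φ hK = EtLim.GaPush (sp φ) ≫ (EtCoh.push (sp φ)).map (etaG B K) := by
  rw [Phi, etaG, ← Category.assoc, ← Adjunction.homEquiv_unit, Equiv.apply_symm_apply, Category.assoc,
    Iso.hom_inv_id, Category.comp_id]

end Change

theorem GaPush_comp {X Y Z : Scheme.{u}} (f : Y ⟶ Z) (g : X ⟶ Y) (h : X ⟶ Z) (w : g ≫ f = h) :
    EtLim.GaPush f ≫ (EtCoh.push f).map (EtLim.GaPush g) ≫ EtLimLib.pushJoin f g h w (EtCoh.Ga X) =
      EtLim.GaPush h := by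
  refine ObjectProperty.hom_ext _ (NatTrans.ext (funext fun W => ?_))
  obtain ⟨W⟩ := W
  refine ConcreteCategory.hom_ext _ _ fun z => ?_
  show EtCoh.ΓAdd.map (EtLimLib.bcSpInv f g h w W).left.op
      (EtCoh.ΓAdd.map (pullback.fst ((EtCoh.bc f).obj W).hom g).op
        (EtCoh.ΓAdd.map (pullback.fst W.hom f).op z)) =
    EtCoh.ΓAdd.map (pullback.fst W.hom h).op z
  have mm : ∀ {P Q R : Scheme.{u}} (a : P ⟶ Q) (b : Q ⟶ R) (x : EtCoh.ΓAdd.obj (op R)),
      EtCoh.ΓAdd.map a.op (EtCoh.ΓAdd.map b.op x) = EtCoh.ΓAdd.map (a ≫ b).op x := fun a b x => by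
    rw [op_comp, Functor.map_comp_apply]
  refine (mm _ _ _).trans ((mm _ _ _).trans ?_)
  refine congrArg (fun q => EtCoh.ΓAdd.map (Quiver.Hom.op q) z) ?_
  refine (congrArg (· ≫ pullback.fst W.hom f) (EtLimLib.bcSpInv_fst f g h w W)).trans ?_
  exact pullback.lift_fst _ _ _

theorem Phi_comp {B C : Type u} [CommRing B] [CommRing C] {K : Ideal B} {L : Ideal C} (φ : A →+* B) (ψ : B →+* C)
    (χ : A →+* C) (hK : I ≤ K.comap φ) (hL : K ≤ L.comap ψ) (hχ : I ≤ L.comap χ) (w : sp ψ ≫ sp φ = sp χ) :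
    Phi φ hK ≫ (EtCoh.push (sp φ)).map (Phi ψ hL) ≫ EtLimLib.pushJoin (sp φ) (sp ψ) (sp χ) w (GG C L) =
      Phi χ hχ := by
  rw [← cancel_mono (isoPush χ hχ _).hom]
  refine hom_ext_GG _ _ _ ?_
  rw [← Category.assoc, ← Category.assoc (f := etaG A I) (g := Phi χ hχ), etaG_Phi χ hχ]
  congr 1
  have nat : (EtCoh.push (sp φ)).map ((EtCoh.push (sp ψ)).map (etaG C L)) ≫
      EtLimLib.pushJoin (sp φ) (sp ψ) (sp χ) w (GG C L) =
      EtLimLib.pushJoin (sp φ) (sp ψ) (sp χ) w (EtCoh.Ga (SpA C)) ≫ (EtCoh.push (sp χ)).map (etaG C L) := by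
    rw [← EtLimLib.pushComp_congr_eq, ← EtLimLib.pushComp_congr_eq]
    exact ((EtCoh.pushComp (sp φ) (sp ψ)).hom ≫ (EtCoh.pushCongr w).hom).naturality (etaG C L)
  calc etaG A I ≫ Phi φ hK ≫ (EtCoh.push (sp φ)).map (Phi ψ hL) ≫
        EtLimLib.pushJoin (sp φ) (sp ψ) (sp χ) w (GG C L)
      = EtLim.GaPush (sp φ) ≫ (EtCoh.push (sp φ)).map (etaG B K ≫ Phi ψ hL) ≫
          EtLimLib.pushJoin (sp φ) (sp ψ) (sp χ) w (GG C L) := by
        rw [← Category.assoc, etaG_Phi, Functor.map_comp]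
        simp only [Category.assoc]
    _ = EtLim.GaPush (sp χ) ≫ (EtCoh.push (sp χ)).map (etaG C L) := by
        rw [etaG_Phi, Functor.map_comp, Category.assoc, nat, ← GaPush_comp (sp φ) (sp ψ) (sp χ) w]
        simp only [Category.assoc]

/-- An element as a function. -/
def gS {B : Type u} [CommRing B] (b : B) : EtCoh.sect (EtCoh.Ga (SpA B)) (EtCoh.top (SpA B)) :=
  ULift.up ((Scheme.ΓSpecIso (CommRingCat.of B)).inv b)

theorem gS_surjective {B : Type u} [CommRing B] : Function.Surjective (gS (B := B)) := fun z =>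
  ⟨(Scheme.ΓSpecIso (CommRingCat.of B)).hom z.down, ULift.ext _ _ (by
    show (Scheme.ΓSpecIso (CommRingCat.of B)).inv ((Scheme.ΓSpecIso (CommRingCat.of B)).hom z.down) = z.down
    rw [← CategoryTheory.ConcreteCategory.comp_apply, Iso.hom_inv_id]
    rfl)⟩

theorem gS_injective {B : Type u} [CommRing B] : Function.Injective (gS (B := B)) := fun a b h =>
  (ConcreteCategory.bijective_of_isIso (Scheme.ΓSpecIso (CommRingCat.of B)).inv).1 (congrArg ULift.down h)

section Eval

variable {B : Type u} [CommRing B] {K : Ideal B} (φ : A →+* B) (hK : I ≤ K.comap φ)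

/-- A point of an étale scheme over the new base. -/
def pt (W : (SpA A).Etale) (f : SpA B ⟶ W.left) (hf : f ≫ W.hom = sp φ) :
    EtCoh.top (SpA B) ⟶ (EtCoh.bc (sp φ)).obj W :=
  MorphismProperty.Over.homMk (pullback.lift f (𝟙 _) (hf.trans (Category.id_comp _).symm))
    (pullback.lift_snd _ _ _)

theorem subsingleton_hom_bc (W : (SpA A).Etale) [Mono W.hom] {Z : (SpA B).Etale}
    (a b : Z ⟶ (EtCoh.bc (sp φ)).obj W) : a = b := by
  haveI : Mono (pullback.snd W.hom (sp φ)) := inferInstance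
  exact MorphismProperty.Over.Hom.ext ((cancel_mono (pullback.snd W.hom (sp φ))).1
    ((MorphismProperty.Over.w a).trans (MorphismProperty.Over.w b).symm))

/-- The value of a germ of functions. -/
def ev (W : (SpA A).Etale) (σ : EtCoh.top (SpA B) ⟶ (EtCoh.bc (sp φ)).obj W) (x : EtCoh.sect (GG A I) W) :
    EtCoh.sect (GG B K) (EtCoh.top (SpA B)) :=
  (GG B K).obj.map σ.op ((Phi φ hK).hom.app (op W) x)

theorem ev_add (W : (SpA A).Etale) (σ : EtCoh.top (SpA B) ⟶ (EtCoh.bc (sp φ)).obj W)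
    (x y : EtCoh.sect (GG A I) W) : ev φ hK W σ (x + y) = ev φ hK W σ x + ev φ hK W σ y := by
  show (GG B K).obj.map σ.op ((Phi φ hK).hom.app (op W) (x + y)) = _
  rw [map_add, map_add]
  rfl

theorem ev_res {W W' : (SpA A).Etale} (m : W' ⟶ W) (σ : EtCoh.top (SpA B) ⟶ (EtCoh.bc (sp φ)).obj W')
    (x : EtCoh.sect (GG A I) W) :
    ev φ hK W' σ ((GG A I).obj.map m.op x) = ev φ hK W (σ ≫ (EtCoh.bc (sp φ)).map m) x := by
  show (GG B K).obj.map σ.op ((Phi φ hK).hom.app (op W') ((GG A I).obj.map m.op x)) = _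
  rw [HensH0.naturality_apply (Phi φ hK) m x]
  show _ = (GG B K).obj.map (σ ≫ (EtCoh.bc (sp φ)).map m).op _
  rw [op_comp, Functor.map_comp_apply]
  rfl

theorem etaG_Phi_apply (W : (SpA A).Etale) (z : EtCoh.sect (EtCoh.Ga (SpA A)) W) :
    (Phi φ hK).hom.app (op W) ((etaG A I).hom.app (op W) z) =
      (etaG B K).hom.app (op ((EtCoh.bc (sp φ)).obj W)) ((EtLim.GaPush (sp φ)).hom.app (op W) z) := by
  have h := congr($(etaG_Phi φ hK).hom.app (op W) z)
  exact h

theorem ev_etaG (W : (SpA A).Etale) (σ : EtCoh.top (SpA B) ⟶ (EtCoh.bc (sp φ)).obj W)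
    (z : EtCoh.sect (EtCoh.Ga (SpA A)) W) :
    ev φ hK W σ ((etaG A I).hom.app (op W) z) =
      (etaG B K).hom.app (op (EtCoh.top (SpA B))) (EtCoh.ΓAdd.map (σ.left ≫ pullback.fst W.hom (sp φ)).op z) := by
  show (GG B K).obj.map σ.op ((Phi φ hK).hom.app (op W) ((etaG A I).hom.app (op W) z)) = _
  rw [etaG_Phi_apply, ← HensH0.naturality_apply (etaG B K) σ]
  refine congrArg _ ?_
  show EtCoh.ΓAdd.map σ.left.op (EtCoh.ΓAdd.map (pullback.fst W.hom (sp φ)).op z) = _
  rw [op_comp, Functor.map_comp_apply]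
  rfl

theorem ev_ev {C : Type u} [CommRing C] {L : Ideal C} (ψ : B →+* C) (χ : A →+* C) (hL : K ≤ L.comap ψ)
    (hχ : I ≤ L.comap χ) (w : sp ψ ≫ sp φ = sp χ) (W : (SpA A).Etale) [Mono W.hom]
    (σ : EtCoh.top (SpA B) ⟶ (EtCoh.bc (sp φ)).obj W) (σ' : EtCoh.top (SpA C) ⟶ (EtCoh.bc (sp χ)).obj W)
    (x : EtCoh.sect (GG A I) W) :
    ev χ hχ W σ' x =
      ev ψ hL (EtCoh.top (SpA B)) (pt ψ (EtCoh.top (SpA B)) (sp ψ) (Category.comp_id _)) (ev φ hK W σ x) := by
  have h := congr($(Phi_comp φ ψ χ hK hL hχ w).hom.app (op W) x)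
  show (GG C L).obj.map σ'.op ((Phi χ hχ).hom.app (op W) x) =
    (GG C L).obj.map (pt ψ (EtCoh.top (SpA B)) (sp ψ) (Category.comp_id _)).op
      ((Phi ψ hL).hom.app (op (EtCoh.top (SpA B))) ((GG B K).obj.map σ.op ((Phi φ hK).hom.app (op W) x)))
  rw [← h, HensH0.naturality_apply (Phi ψ hL) σ]
  show (GG C L).obj.map σ'.op ((GG C L).obj.map (EtLimLib.bcSpInv (sp φ) (sp ψ) (sp χ) w W).op
      ((Phi ψ hL).hom.app (op ((EtCoh.bc (sp φ)).obj W)) ((Phi φ hK).hom.app (op W) x))) =
    (GG C L).obj.map (pt ψ (EtCoh.top (SpA B)) (sp ψ) (Category.comp_id _)).op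
      ((GG C L).obj.map ((EtCoh.bc (sp ψ)).map σ).op
        ((Phi ψ hL).hom.app (op ((EtCoh.bc (sp φ)).obj W)) ((Phi φ hK).hom.app (op W) x)))
  rw [← Functor.map_comp_apply, ← Functor.map_comp_apply, ← op_comp, ← op_comp]
  haveI : Mono ((EtCoh.bc (sp φ)).obj W).hom := (inferInstanceAs (Mono (pullback.snd W.hom (sp φ))) : _)
  rw [subsingleton_hom_bc ψ ((EtCoh.bc (sp φ)).obj W) (σ' ≫ EtLimLib.bcSpInv (sp φ) (sp ψ) (sp χ) w W)
    (pt ψ (EtCoh.top (SpA B)) (sp ψ) (Category.comp_id _) ≫ (EtCoh.bc (sp ψ)).map σ)]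

theorem ev_top (b : A) :
    ev φ hK (EtCoh.top (SpA A)) (pt φ (EtCoh.top (SpA A)) (sp φ) (Category.comp_id _))
      ((etaG A I).hom.app (op (EtCoh.top (SpA A))) (gS b)) =
      (etaG B K).hom.app (op (EtCoh.top (SpA B))) (gS (φ b)) := by
  rw [ev_etaG]
  refine congrArg _ (ULift.ext _ _ ?_)
  show (pullback.lift (sp φ) (𝟙 _) _ ≫ pullback.fst _ _).appTop ((Scheme.ΓSpecIso (CommRingCat.of A)).inv b) = _
  rw [pullback.lift_fst]
  exact (ConcreteCategory.congr_hom (Scheme.ΓSpecIso_inv_naturality (CommRingCat.ofHom φ)) b).symm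

end Eval

theorem subsingleton_H_one [HenselianRing A I] {p : ℕ} (hp : 0 < p) (hpA : (p : A) = 0) :
    Subsingleton (EtCoh.H (SpA A) (GG A I) 1) := by
  have hT : EtCoh.IsTorsion (EtCoh.Ga (SpA A)) := fun U s x => by
    refine ⟨U, 𝟙 U, ⟨x, rfl⟩, isOfFinAddOrder_iff_nsmul_eq_zero.2 ⟨p, hp, ?_⟩⟩
    have h0 : (p : Γ(U.left, ⊤)) = 0 := by
      rw [← map_natCast ((U.hom).appTop.hom.comp (Scheme.ΓSpecIso (CommRingCat.of A)).inv.hom) p]
      rw [show ((p : CommRingCat.of A) : A) = 0 from hpA, map_zero]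
    refine ULift.ext _ _ ?_
    show p • ((EtCoh.Ga (SpA A)).obj.map (𝟙 U).op s).down = 0
    have hk : ∀ x : Γ(U.left, ⊤), p • x = 0 := fun x => by rw [nsmul_eq_mul, h0, zero_mul]
    exact hk _
  haveI h1 : Subsingleton (EtCoh.H (SpA A) (EtCoh.Ga (SpA A)) 1) := S0109.result (SpA A) 1 le_rfl
  refine subsingleton_of_forall_eq 0 fun y => ?_
  obtain ⟨x, rfl⟩ := (S0121.result A I (EtCoh.Ga (SpA A)) hT 1).2 y
  exact (congrArg _ (@Subsingleton.elim _ h1 x 0)).trans (map_zero _)

theorem isOpenImmersion_sp_away (g : A) : IsOpenImmersion (sp (algebraMap A (Localization.Away g))) :=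
  isOpenImmersion_Wob (f := g) _

theorem Wob_hom (C : Type u) [CommRing C] [Algebra A C] [Algebra.Etale A C] :
    (Wob (A := A) C).hom = sp (algebraMap A C) := rfl

/-- The decomposition. -/
theorem two_cover [HenselianRing A I] {p : ℕ} (hp : 0 < p) (hpA : (p : A) = 0) {g1 g2 : A}
    (hg : Ideal.span {g1, g2} = ⊤) {S1 S2 S12 : Type u} [CommRing S1] [Algebra A S1] [CommRing S2] [Algebra A S2]
    [CommRing S12] [Algebra A S12] (h1 : HensSch.IsHensAway A I g1 S1 (algebraMap A S1))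
    (h2 : HensSch.IsHensAway A I g2 S2 (algebraMap A S2))
    (h12 : HensSch.IsHensAway A I (g1 * g2) S12 (algebraMap A S12))
    (r1 : S1 →ₐ[A] S12) (r2 : S2 →ₐ[A] S12) (s : S12) : ∃ (s1 : S1) (s2 : S2), r1 s1 + r2 s2 = s := by
  classical
  haveI : ∀ g : A, Algebra.Etale A (Localization.Away g) := fun g => Algebra.Etale.of_isLocalizationAway g
  haveI : ∀ g : A, IsOpenImmersion (sp (algebraMap A (Localization.Away g))) := isOpenImmersion_sp_away
  haveI hmono : ∀ g : A, Mono (Wob (A := A) (Localization.Away g)).hom := fun g => by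
    rw [Wob_hom]; infer_instance
  haveI := subsingleton_H_one (I := I) hp hpA
  -- stages
  let Q := Localization.Away (g1 * g2)
  letI : Algebra Q S12 := (IsLocalization.Away.lift (g1 * g2) h12.1).toAlgebra
  haveI : IsScalarTower A Q S12 := .of_algebraMap_eq' (IsLocalization.Away.lift_comp (g1 * g2) h12.1).symm
  obtain ⟨C₀, _, _, _, φ₀, c₀, hc₀⟩ := exists_etale_lift (isPairHenselization_away h12) 1 fun _ => s
  obtain ⟨C, cC, aQC, eC, h, φ, hφ, hgood⟩ := exists_good_refine (isPairHenselization_away h12) φ₀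
  letI : Algebra A C := ((algebraMap Q C).comp (algebraMap A Q)).toAlgebra
  haveI : IsScalarTower A Q C := .of_algebraMap_eq' rfl
  haveI : Algebra.Etale A C := Algebra.Etale.comp A Q C
  let D12 := Wob (A := A) Q
  let D1 := Wob (A := A) (Localization.Away g1)
  let D2 := Wob (A := A) (Localization.Away g2)
  let pC : Wob (A := A) C ⟶ D12 := Wmap (IsScalarTower.toAlgHom A Q C)
  let cz : EtCoh.sect (EtCoh.Ga (SpA A)) (Wob (A := A) C) :=
    ULift.up ((Scheme.ΓSpecIso (CommRingCat.of C)).inv (h (c₀ 0)))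
  obtain ⟨t, ht⟩ : ∃ t : EtCoh.sect (GG A I) D12,
      (GG A I).obj.map pC.op t = (etaG A I).hom.app (op (Wob C)) cz := by
    haveI := isIso_bc_Wmap I (IsScalarTower.toAlgHom A Q C) (quot_conditions (C := C) I hgood).1
      (quot_conditions (C := C) I hgood).2
    exact (ConcreteCategory.bijective_of_isIso (((EtCoh.pull (clo I)).obj (EtCoh.Ga (SpA A))).obj.map
      ((EtCoh.bc (clo I)).map (Wmap (IsScalarTower.toAlgHom A Q C))).op)).2 _
  -- the inclusions
  let i1 : Localization.Away g1 →ₐ[A] Q :=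
    IsLocalization.liftAlgHom (M := Submonoid.powers g1) (f := Algebra.ofId A Q) (by
      rintro ⟨_, m, rfl⟩
      show IsUnit (algebraMap A Q (g1 ^ m))
      rw [map_pow]
      exact IsUnit.pow m (isUnit_of_mul_isUnit_left (by
        rw [← map_mul]; exact IsLocalization.Away.algebraMap_isUnit (g1 * g2))))
  let i2 : Localization.Away g2 →ₐ[A] Q :=
    IsLocalization.liftAlgHom (M := Submonoid.powers g2) (f := Algebra.ofId A Q) (by
      rintro ⟨_, m, rfl⟩
      show IsUnit (algebraMap A Q (g2 ^ m))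
      rw [map_pow]
      exact IsUnit.pow m (isUnit_of_mul_isUnit_right (by
        rw [← map_mul]; exact IsLocalization.Away.algebraMap_isUnit (g1 * g2))))
  let m1 : D12 ⟶ D1 := Wmap i1
  let m2 : D12 ⟶ D2 := Wmap i2
  haveI : Mono m1 := ⟨fun a b _ => hom_ext_Wob a b⟩
  -- Mayer–Vietoris
  let P : ShortComplex (EtCoh.Ab (SpA A)) :=
    ShortComplex.mk (Injective.ι (GG A I)) (cokernel.π _) (cokernel.condition _)
  have hP : P.ShortExact :=
    { exact := ShortComplex.exact_cokernel (Injective.ι (GG A I)), mono_f := Injective.ι_mono _ }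
  have hsec : ∀ W : (SpA A).Etale, Function.Injective (P.f.hom.app (op W)) ∧
      ∀ x, P.g.hom.app (op W) x = 0 → ∃ y, P.f.hom.app (op W) y = x := fun W => by
    let F := sheafToPresheaf (SpA A).smallEtaleTopology AddCommGrpCat.{u + 1} ⋙ (evaluation _ _).obj (op W)
    haveI := hP.mono_f
    have he : (P.map F).Exact := hP.exact.map_of_mono_of_preservesKernel F hP.mono_f inferInstance
    haveI : Mono (F.map P.f) := inferInstance
    exact ⟨(AddCommGrpCat.mono_iff_injective (F.map P.f)).1 inferInstance, (ShortComplex.ab_exact_iff _).1 he⟩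
  have hzero : ∀ W (y : EtCoh.sect (GG A I) W), P.g.hom.app (op W) (P.f.hom.app (op W) y) = 0 := fun W y =>
    congr($(P.zero).hom.app (op W) y)
  haveI : Injective P.X₂ := (inferInstanceAs (Injective (Injective.under (GG A I))) : _)
  obtain ⟨j1, hj1⟩ := surjective_map_injective P.X₂ m1 (P.f.hom.app (op D12) t)
  -- glue
  let Q' := (sheafCompose (SpA A).smallEtaleTopology (forget AddCommGrpCat.{u + 1})).obj P.X₃
  let fam : ULift.{u} Bool → A := fun i => if i.down then g1 else g2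
  let D := fun i => Wob (A := A) (Localization.Away (fam i))
  let D0 : ∀ i, D i ⟶ EtCoh.top (SpA A) := fun i => HensH0.toTop _
  have hran : ∀ (g : A), Set.range (sp (algebraMap A (Localization.Away g))) =
      (PrimeSpectrum.basicOpen g : Set (PrimeSpectrum A)) := fun g =>
    PrimeSpectrum.localization_away_comap_range (Localization.Away g) g
  have hcov : Sieve.generate (Presieve.ofArrows D D0) ∈ (SpA A).smallEtaleTopology (EtCoh.top (SpA A)) := by
    refine EtPtsLib.covering_of_points _ fun (y : PrimeSpectrum A) => ?_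
    obtain ⟨i, hi⟩ : ∃ i, fam i ∉ y.asIdeal := by
      by_contra hne
      push Not at hne
      refine y.isPrime.ne_top (top_le_iff.1 (hg ▸ Ideal.span_le.2 ?_))
      rintro _ (rfl | rfl)
      · exact hne ⟨true⟩
      · exact hne ⟨false⟩
    obtain ⟨w, hw⟩ : y ∈ Set.range (sp (algebraMap A (Localization.Away (fam i)))) := by rw [hran]; exact hi
    exact ⟨D i, D0 i, w, Sieve.le_generate _ _ _ (Presieve.ofArrows.mk i), hw⟩
  have hs : Presieve.IsSheafFor Q'.obj (Presieve.ofArrows D D0) :=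
    (Presieve.isSheafFor_iff_generate _).2 ((isSheaf_iff_isSheaf_of_type _ _).1 Q'.property _ hcov)
  let zz : ∀ i, EtCoh.sect P.X₃ (D i) := fun i => match i with
    | ⟨true⟩ => P.g.hom.app (op D1) j1
    | ⟨false⟩ => 0
  have hmix : ∀ (Z : (SpA A).Etale) (ga : Z ⟶ D1) (gb : Z ⟶ D2),
      P.X₃.obj.map ga.op (P.g.hom.app (op D1) j1) = 0 := by
    intro Z ga gb
    have hsubr : Set.range Z.hom ⊆ Set.range (sp (algebraMap A Q)) := by
      rintro _ ⟨z, rfl⟩
      rw [hran]
      have ha : Z.hom z ∈ Set.range (sp (algebraMap A (Localization.Away g1))) := by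
        rw [← MorphismProperty.Over.w ga, Scheme.Hom.comp_apply]; exact ⟨_, rfl⟩
      have hb : Z.hom z ∈ Set.range (sp (algebraMap A (Localization.Away g2))) := by
        rw [← MorphismProperty.Over.w gb, Scheme.Hom.comp_apply]; exact ⟨_, rfl⟩
      rw [hran] at ha hb
      show (Z.hom z : PrimeSpectrum A) ∈ PrimeSpectrum.basicOpen (g1 * g2)
      rw [PrimeSpectrum.basicOpen_mul]
      exact ⟨ha, hb⟩
    let r : Z ⟶ D12 := MorphismProperty.Over.homMk
      (IsOpenImmersion.lift (sp (algebraMap A Q)) Z.hom hsubr) (IsOpenImmersion.lift_fac _ _ _)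
    rw [hom_ext_Wob ga (r ≫ m1), op_comp, Functor.map_comp_apply, ← HensH0.naturality_apply P.g m1 j1, hj1, hzero,
      map_zero]
  obtain ⟨q, hq, -⟩ := (Presieve.isSheafFor_arrows_iff _ _).1 hs zz fun i j Z ga gb _ => by
    rcases i with ⟨_ | _⟩ <;> rcases j with ⟨_ | _⟩
    · show P.X₃.obj.map ga.op 0 = P.X₃.obj.map gb.op 0
      rw [map_zero, map_zero]
    · show P.X₃.obj.map ga.op 0 = P.X₃.obj.map gb.op (P.g.hom.app (op D1) j1)
      exact (map_zero _).trans (hmix Z gb ga).symm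
    · show P.X₃.obj.map ga.op (P.g.hom.app (op D1) j1) = P.X₃.obj.map gb.op 0
      exact (hmix Z ga gb).trans (map_zero _).symm
    · rw [hom_ext_Wob ga gb]
  -- lift
  let hT := EtCore.topIsTerminal (SpA A)
  obtain ⟨x₂, hx₂⟩ := Ext.covariant_sequence_exact₃ _ hP
    ((Sheaf.H.equiv₀ P.X₃ hT).symm q) (zero_add 1) (Subsingleton.elim (α := EtCoh.H (SpA A) (GG A I) 1) _ _)
  let jj : EtCoh.sect P.X₂ (EtCoh.top (SpA A)) := Sheaf.H.equiv₀ P.X₂ hT x₂
  have hjj : P.g.hom.app (op (EtCoh.top (SpA A))) jj = q := by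
    refine (Sheaf.H.equiv₀_naturality hT P.g x₂).trans ?_
    exact (congrArg (Sheaf.H.equiv₀ P.X₃ hT) hx₂).trans (AddEquiv.apply_symm_apply _ _)
  let d1 : D1 ⟶ EtCoh.top (SpA A) := D0 ⟨true⟩
  let d2 : D2 ⟶ EtCoh.top (SpA A) := D0 ⟨false⟩
  obtain ⟨a, ha⟩ := (hsec D1).2 (j1 - P.X₂.obj.map d1.op jj) (by
    rw [map_sub, HensH0.naturality_apply P.g, hjj, sub_eq_zero]
    exact (hq ⟨true⟩).symm)
  obtain ⟨b, hb⟩ := (hsec D2).2 (-P.X₂.obj.map d2.op jj) (by
    rw [map_neg, HensH0.naturality_apply P.g, hjj, neg_eq_zero]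
    exact hq ⟨false⟩)
  have hab : (GG A I).obj.map m1.op a = t + (GG A I).obj.map m2.op b := by
    apply (hsec D12).1
    rw [map_add, HensH0.naturality_apply P.f, HensH0.naturality_apply P.f, ha, hb, map_sub, map_neg, hj1,
      ← sub_eq_add_neg, ← Functor.map_comp_apply, ← Functor.map_comp_apply, ← op_comp, ← op_comp,
      show m1 ≫ d1 = m2 ≫ d2 from hT.hom_ext _ _]
  -- values
  set K12 := I.map (algebraMap A S12) with hK12
  set K1 := I.map (algebraMap A S1) with hK1
  set K2 := I.map (algebraMap A S2) with hK2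
  haveI : HenselianRing S12 K12 := h12.2.1
  haveI : HenselianRing S1 K1 := h1.2.1
  haveI : HenselianRing S2 K2 := h2.2.1
  have hχ : I ≤ K12.comap (algebraMap A S12) := Ideal.le_comap_map
  have hr1 : K1 ≤ K12.comap r1.toRingHom := Ideal.map_le_iff_le_comap.2 fun i hi => by
    show r1 (algebraMap A S1 i) ∈ K12
    rw [r1.commutes]; exact Ideal.mem_map_of_mem _ hi
  have hr2 : K2 ≤ K12.comap r2.toRingHom := Ideal.map_le_iff_le_comap.2 fun i hi => by
    show r2 (algebraMap A S2 i) ∈ K12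
    rw [r2.commutes]; exact Ideal.mem_map_of_mem _ hi
  have w1 : sp r1.toRingHom ≫ sp (algebraMap A S1) = sp (algebraMap A S12) := by
    rw [← Spec.map_comp]; exact congrArg Spec.map (CommRingCat.hom_ext r1.comp_algebraMap)
  have w2 : sp r2.toRingHom ≫ sp (algebraMap A S2) = sp (algebraMap A S12) := by
    rw [← Spec.map_comp]; exact congrArg Spec.map (CommRingCat.hom_ext r2.comp_algebraMap)
  let lam := fun (g : A) (S : Type u) [CommRing S] [Algebra A S] (hS : IsUnit (algebraMap A S g)) =>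
    (IsLocalization.Away.lift (S := Localization.Away g) g hS)
  have hlam : ∀ (g : A) (S : Type u) [CommRing S] [Algebra A S] (hS : IsUnit (algebraMap A S g)),
      sp (lam g S hS) ≫ (Wob (A := A) (Localization.Away g)).hom = sp (algebraMap A S) := by
    intro g S _ _ hS
    show Spec.map _ ≫ Spec.map _ = Spec.map _
    rw [← Spec.map_comp]
    exact congrArg Spec.map (CommRingCat.hom_ext (IsLocalization.Away.lift_comp g hS))
  let σ1 := pt (algebraMap A S1) D1 (sp (lam g1 S1 h1.1)) (hlam g1 S1 h1.1)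
  let σ2 := pt (algebraMap A S2) D2 (sp (lam g2 S2 h2.1)) (hlam g2 S2 h2.1)
  let σ12 := pt (algebraMap A S12) D12 (sp (lam (g1 * g2) S12 h12.1)) (hlam _ S12 h12.1)
  let σC := pt (algebraMap A S12) (Wob (A := A) C) (sp φ.toRingHom) (by
    show Spec.map _ ≫ Spec.map _ = Spec.map _
    rw [← Spec.map_comp]
    exact congrArg Spec.map (CommRingCat.hom_ext (φ.restrictScalars A).comp_algebraMap))
  have hgen : ∀ {B : Type u} [CommRing B] {K : Ideal B} [HenselianRing B K]
      (y : EtCoh.sect (GG B K) (EtCoh.top (SpA B))),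
      ∃ b : B, (etaG B K).hom.app (op (EtCoh.top (SpA B))) (gS b) = y := fun {B} _ {K} _ y => by
    obtain ⟨z, rfl⟩ := (HensH0.bijective_unit_top_spec K (EtCoh.Ga (SpA B))).2 y
    obtain ⟨b, rfl⟩ := gS_surjective z
    exact ⟨b, rfl⟩
  obtain ⟨s1, hs1⟩ := hgen (ev (algebraMap A S1) Ideal.le_comap_map D1 σ1 a)
  obtain ⟨s2, hs2⟩ := hgen (ev (algebraMap A S2) Ideal.le_comap_map D2 σ2 b)
  refine ⟨s1, -s2, ?_⟩
  haveI : Mono D1.hom := hmono g1
  haveI : Mono D2.hom := hmono g2
  haveI : Mono D12.hom := hmono _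
  have hA := congrArg (ev (algebraMap A S12) hχ D12 σ12) hab
  rw [ev_add, ev_res, ev_res,
    ev_ev (algebraMap A S1) Ideal.le_comap_map r1.toRingHom (algebraMap A S12) hr1 hχ w1 D1 σ1,
    ev_ev (algebraMap A S2) Ideal.le_comap_map r2.toRingHom (algebraMap A S12) hr2 hχ w2 D2 σ2,
    ← hs1, ← hs2, ev_top, ev_top] at hA
  have htC : ev (algebraMap A S12) hχ D12 σ12 t = (etaG S12 K12).hom.app (op (EtCoh.top (SpA S12))) (gS s) := by
    rw [subsingleton_hom_bc (algebraMap A S12) D12 σ12 (σC ≫ (EtCoh.bc (sp (algebraMap A S12))).map pC),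
      ← ev_res, ht, ev_etaG]
    refine congrArg _ (ULift.ext _ _ ?_)
    show (pullback.lift (sp φ.toRingHom) (𝟙 _) _ ≫ pullback.fst _ _).appTop
      ((Scheme.ΓSpecIso (CommRingCat.of C)).inv (h (c₀ 0))) = _
    rw [pullback.lift_fst]
    refine (ConcreteCategory.congr_hom (Scheme.ΓSpecIso_inv_naturality (CommRingCat.ofHom φ.toRingHom)) _).symm.trans ?_
    show (Scheme.ΓSpecIso (CommRingCat.of S12)).inv (φ (h (c₀ 0))) = (Scheme.ΓSpecIso (CommRingCat.of S12)).inv s
    rw [← AlgHom.comp_apply φ h, hφ, hc₀]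
  rw [htC, ← map_add] at hA
  have h3 := congrArg ULift.down ((HensH0.bijective_unit_top_spec K12 (EtCoh.Ga (SpA S12))).1 hA)
  have h4 : (Scheme.ΓSpecIso (CommRingCat.of S12)).inv (r1 s1) =
      (Scheme.ΓSpecIso (CommRingCat.of S12)).inv (s + r2 s2) := by
    rw [map_add]; exact h3
  rw [(ConcreteCategory.bijective_of_isIso (Scheme.ΓSpecIso (CommRingCat.of S12)).inv).1 h4, map_neg]
  abel

end Groth.Agent.HensSchLib.TwoCover
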