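import Groth.Agent.HensSchLib.SphFull
import Groth.Agent.HensSchLib.TwoCover
import Groth.Agent.CohTopEasy.Basic

/-!
# Vanishing of quasi-coherent cohomology on affine Henselian spectra of characteristic `p`
-/

set_option autoImplicit false
set_option linter.style.haveILetI false
set_option linter.unusedSectionVars false
set_option backward.isDefEq.respectTransparency false
set_option backward.isDefEq.respectTransparency.types false
set_option maxHeartbeats 800000

universe u

open CategoryTheory CategoryTheory.Limits AlgebraicGeometry Opposite TopologicalSpace Abelian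
open Groth.Agent.RSpLib Groth.Agent.ModTensor
open scoped TensorProduct

noncomputable section

namespace Groth.Agent.HensSchLib

variable {A : Type u} [CommRing A] {I : Ideal A} [HenselianRing A I] {Z : LocallyRingedSpace.{u}}
  {π : Z ⟶ HensSch.specLRS A}

theorem dOpen_mul_le_right (π : Z ⟶ HensSch.specLRS A) (f g : A) :
    HensSch.dOpen π (f * g) ≤ HensSch.dOpen π g := fun _ hy => PrimeSpectrum.basicOpen_mul_le_right f g hy

theorem dOpen_mul_mul_le_left (π : Z ⟶ HensSch.specLRS A) (f g1 g2 : A) :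
    HensSch.dOpen π (f * (g1 * g2)) ≤ HensSch.dOpen π (f * g1) := by
  rw [← mul_assoc]; exact dOpen_mul_le_left π _ _

theorem dOpen_mul_mul_le_right (π : Z ⟶ HensSch.specLRS A) (f g1 g2 : A) :
    HensSch.dOpen π (f * (g1 * g2)) ≤ HensSch.dOpen π (f * g2) := by
  rw [mul_comm g1, ← mul_assoc]; exact dOpen_mul_le_left π _ _

variable (π) in
/-- The two-element Čech condition on distinguished opens. -/
def PP (G : CohTop.Ab Z.toTopCat) : Prop :=
  ∀ f g1 g2 : A, (∀ x ∈ HensSch.dOpen π f, x ∈ HensSch.dOpen π g1 ∨ x ∈ HensSch.dOpen π g2) →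
    ∀ t : G.obj.obj (op (HensSch.dOpen π (f * (g1 * g2)))),
      ∃ a b, G.obj.map (homOfLE (dOpen_mul_mul_le_left π f g1 g2)).op a +
        G.obj.map (homOfLE (dOpen_mul_mul_le_right π f g1 g2)).op b = t

theorem res_res (G : CohTop.Ab Z.toTopCat) {U V W : Opens Z.toTopCat} (h : V ≤ U) (h' : W ≤ V)
    (s : G.obj.obj (op U)) :
    G.obj.map (homOfLE h').op (G.obj.map (homOfLE h).op s) = G.obj.map (homOfLE (h'.trans h)).op s := by
  rw [← Functor.map_comp_apply, ← op_comp]
  rfl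

theorem res_self (G : CohTop.Ab Z.toTopCat) {U : Opens Z.toTopCat} (h : U ≤ U) (s : G.obj.obj (op U)) :
    G.obj.map (homOfLE h).op s = s := by
  rw [show homOfLE h = 𝟙 U from rfl, op_id, CategoryTheory.Functor.map_id]
  rfl

variable {S : ShortComplex (CohTop.Ab Z.toTopCat)}

theorem lift_of_two (hS : S.ShortExact) (hP : PP π S.X₁) (f g1 g2 : A)
    (hcov : ∀ x ∈ HensSch.dOpen π f, x ∈ HensSch.dOpen π g1 ∨ x ∈ HensSch.dOpen π g2)
    (q : S.X₃.obj.obj (op (HensSch.dOpen π f)))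
    (h1 : ∃ j, S.g.hom.app (op (HensSch.dOpen π (f * g1))) j =
      S.X₃.obj.map (homOfLE (dOpen_mul_le_left π f g1)).op q)
    (h2 : ∃ j, S.g.hom.app (op (HensSch.dOpen π (f * g2))) j =
      S.X₃.obj.map (homOfLE (dOpen_mul_le_left π f g2)).op q) :
    ∃ j, S.g.hom.app (op (HensSch.dOpen π f)) j = q := by
  obtain ⟨j1, hj1⟩ := h1
  obtain ⟨j2, hj2⟩ := h2
  let W := HensSch.dOpen π (f * (g1 * g2))
  let l1 := dOpen_mul_mul_le_left π f g1 g2
  let l2 := dOpen_mul_mul_le_right π f g1 g2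
  have hsec : ∀ U : Opens Z.toTopCat, Function.Injective (S.f.hom.app (op U)) ∧
      ∀ x, S.g.hom.app (op U) x = 0 → ∃ y, S.f.hom.app (op U) y = x := fun U => by
    let F := sheafToPresheaf (Opens.grothendieckTopology Z.toTopCat) AddCommGrpCat.{u} ⋙
      (evaluation _ _).obj (op U)
    haveI := hS.mono_f
    have he : (S.map F).Exact := hS.exact.map_of_mono_of_preservesKernel F hS.mono_f inferInstance
    haveI : Mono (F.map S.f) := inferInstance
    exact ⟨(AddCommGrpCat.mono_iff_injective (F.map S.f)).1 inferInstance, (ShortComplex.ab_exact_iff _).1 he⟩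
  obtain ⟨t, ht⟩ := (hsec W).2 (S.X₂.obj.map (homOfLE l1).op j1 - S.X₂.obj.map (homOfLE l2).op j2) (by
    rw [map_sub, NatTrans.naturality_apply, NatTrans.naturality_apply, hj1, hj2]
    show S.X₃.obj.map _ _ - S.X₃.obj.map _ _ = 0
    rw [res_res, res_res, sub_self])
  obtain ⟨a, b, hab⟩ := hP f g1 g2 hcov t
  let U : Bool → Opens Z.toTopCat := fun i => if i then HensSch.dOpen π (f * g1) else HensSch.dOpen π (f * g2)
  let sf : ∀ i, S.X₂.obj.obj (op (U i)) := fun i => match i with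
    | true => j1 - S.f.hom.app (op (HensSch.dOpen π (f * g1))) a
    | false => j2 + S.f.hom.app (op (HensSch.dOpen π (f * g2))) b
  have key : S.X₂.obj.map (homOfLE l1).op (j1 - S.f.hom.app (op (HensSch.dOpen π (f * g1))) a) =
      S.X₂.obj.map (homOfLE l2).op (j2 + S.f.hom.app (op (HensSch.dOpen π (f * g2))) b) := by
    rw [map_sub, map_add, ← NatTrans.naturality_apply, ← NatTrans.naturality_apply, sub_eq_iff_eq_add,
      add_assoc, ← map_add, add_comm (S.X₁.obj.map (homOfLE l2).op b), hab, ← sub_eq_iff_eq_add']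
    exact ht.symm
  have hinf : HensSch.dOpen π (f * g1) ⊓ HensSch.dOpen π (f * g2) ≤ W := by
    rintro x ⟨hx1, hx2⟩
    exact mem_dOpen_mul π (dOpen_mul_le_left π f g1 hx1)
      (mem_dOpen_mul π (dOpen_mul_le_right π f g1 hx1) (dOpen_mul_le_right π f g2 hx2))
  have hle : ∀ i, U i ≤ HensSch.dOpen π f := fun i => by
    cases i
    · exact dOpen_mul_le_left π f g2
    · exact dOpen_mul_le_left π f g1
  have hsup : HensSch.dOpen π f ≤ iSup U := fun x hx => by
    rcases hcov x hx with h | h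
    · exact Opens.mem_iSup.2 ⟨true, mem_dOpen_mul π hx h⟩
    · exact Opens.mem_iSup.2 ⟨false, mem_dOpen_mul π hx h⟩
  obtain ⟨j, hj, -⟩ := TopCat.Sheaf.existsUnique_gluing' S.X₂ U _ (fun i => homOfLE (hle i)) hsup sf (by
    intro i k
    cases i <;> cases k
    · rfl
    · have e := congrArg (S.X₂.obj.map (homOfLE ((fun x hx => hinf ⟨hx.2, hx.1⟩) :
          HensSch.dOpen π (f * g2) ⊓ HensSch.dOpen π (f * g1) ≤ W)).op) key
      rw [res_res, res_res] at e
      exact e.symm
    · have e := congrArg (S.X₂.obj.map (homOfLE hinf).op) key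
      rw [res_res, res_res] at e
      exact e
    · rfl)
  refine ⟨j, TopCat.Sheaf.eq_of_locally_eq' S.X₃ U _ (fun i => homOfLE (hle i)) hsup _ _ fun i => ?_⟩
  refine (NatTrans.naturality_apply S.g.hom (homOfLE (hle i)).op j).symm.trans
    ((congrArg (S.g.hom.app (op (U i))) (hj i)).trans ?_)
  have hz : ∀ V y, S.g.hom.app (op V) (S.f.hom.app (op V) y) = 0 := fun V y =>
    congr($(S.zero).hom.app (op V) y)
  cases i
  · show S.g.hom.app (op (HensSch.dOpen π (f * g2))) (j2 + _) = _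
    rw [map_add, hj2, hz, add_zero]
    rfl
  · show S.g.hom.app (op (HensSch.dOpen π (f * g1))) (j1 - _) = _
    rw [map_sub, hj1, hz, sub_zero]
    rfl

theorem lift_of_cover (hX : HensSch.IsSph A I Z π) (hS : S.ShortExact) (hP : PP π S.X₁) :
    ∀ (n : ℕ) (f : A) (g : Fin n → A), (∀ x ∈ HensSch.dOpen π f, ∃ i, x ∈ HensSch.dOpen π (g i)) →
      ∀ q : S.X₃.obj.obj (op (HensSch.dOpen π f)),
        (∀ (i : Fin n) (k : A) (hk : HensSch.dOpen π k ≤ HensSch.dOpen π f),
          HensSch.dOpen π k ≤ HensSch.dOpen π (g i) →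
            ∃ j, S.g.hom.app (op (HensSch.dOpen π k)) j = S.X₃.obj.map (homOfLE hk).op q) →
        ∃ j, S.g.hom.app (op (HensSch.dOpen π f)) j = q
  | 0, f, g, hcov, q, _ => by
    refine ⟨0, TopCat.Sheaf.eq_of_locally_eq' S.X₃ (fun i : PEmpty.{u + 1} => i.elim) _ (fun i => i.elim)
      (fun x hx => (hcov x hx).elim fun i => i.elim0) _ _ fun i => i.elim⟩
  | n + 1, f, g, hcov, q, hloc => by
    have hf : f ∈ (I ⊔ Ideal.span (Set.range g)).radical := by
      rw [Ideal.radical_eq_sInf, Submodule.mem_sInf]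
      rintro P ⟨hIP, hPp⟩
      by_contra hfP
      haveI := hPp
      obtain ⟨x, hx⟩ : (⟨P, hPp⟩ : PrimeSpectrum A) ∈ Set.range π.base := by
        rw [hX.2.1]
        exact fun i hi => hIP (Ideal.mem_sup_left hi)
      have hxf : x ∈ HensSch.dOpen π f := by
        show π.base x ∈ PrimeSpectrum.basicOpen f
        rw [hx]; exact hfP
      obtain ⟨i, hi⟩ := hcov x hxf
      have hi' : π.base x ∈ PrimeSpectrum.basicOpen (g i) := hi
      rw [hx] at hi'
      exact hi' (hIP (Ideal.mem_sup_right (Ideal.subset_span ⟨i, rfl⟩)))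
    obtain ⟨N, hN⟩ := hf
    obtain ⟨a, ha, b, hb, hab⟩ := Submodule.mem_sup.1 hN
    obtain ⟨c, hc⟩ := Ideal.mem_span_range_iff_exists_fun.1 hb
    let g' := ∑ i : Fin n, c i.succ * g i.succ
    have hcov2 : ∀ x ∈ HensSch.dOpen π f, x ∈ HensSch.dOpen π (g 0) ∨ x ∈ HensSch.dOpen π g' := by
      intro x hx
      by_contra hne
      rw [not_or] at hne
      obtain ⟨h0, h'⟩ := hne
      have h0' : g 0 ∈ (π.base x).asIdeal := not_not.1 h0
      have h'' : g' ∈ (π.base x).asIdeal := not_not.1 h'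
      have hI : π.base x ∈ PrimeSpectrum.zeroLocus (I : Set A) := hX.2.1 ▸ ⟨x, rfl⟩
      refine hx ((π.base x).isPrime.mem_of_pow_mem N ?_)
      rw [← hab, ← hc, Fin.sum_univ_succ]
      exact add_mem (hI ha) (add_mem (Ideal.mul_mem_left _ _ h0') h'')
    refine lift_of_two hS hP f (g 0) g' hcov2 q
      (hloc 0 _ (dOpen_mul_le_left π f _) (dOpen_mul_le_right π f _)) ?_
    refine lift_of_cover hX hS hP n (f * g') (fun i => g i.succ) (fun x hx => ?_) _ fun i k hk hki => ?_
    · by_contra hne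
      push Not at hne
      have h' : π.base x ∈ PrimeSpectrum.basicOpen g' := dOpen_mul_le_right π f g' hx
      exact h' (Ideal.sum_mem _ fun i _ => Ideal.mul_mem_left _ _ (not_not.1 (hne i)))
    · obtain ⟨j, hj⟩ := hloc i.succ k (hk.trans (dOpen_mul_le_left π f g')) hki
      exact ⟨j, hj.trans (res_res _ _ _ q).symm⟩

theorem surjective_sections (hX : HensSch.IsSph A I Z π) (hS : S.ShortExact) (hP : PP π S.X₁) (f : A) :
    Function.Surjective (S.g.hom.app (op (HensSch.dOpen π f))) := by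
  classical
  intro q
  haveI : Epi S.g := hS.epi_g
  haveI : Presheaf.IsLocallySurjective (Opens.grothendieckTopology Z.toTopCat) S.g.hom :=
    (Sheaf.isLocallySurjective_iff_epi' AddCommGrpCat.{u} S.g).2 inferInstance
  have hcov := Presheaf.imageSieve_mem (Opens.grothendieckTopology Z.toTopCat) S.g.hom
    (U := op (HensSch.dOpen π f)) q
  have loc : ∀ x : {x // x ∈ HensSch.dOpen π f}, ∃ g : A, x.1 ∈ HensSch.dOpen π g ∧
      ∀ (k : A) (hk : HensSch.dOpen π k ≤ HensSch.dOpen π f), HensSch.dOpen π k ≤ HensSch.dOpen π g →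
        ∃ j, S.g.hom.app (op (HensSch.dOpen π k)) j = S.X₃.obj.map (homOfLE hk).op q := by
    rintro ⟨x, hx⟩
    obtain ⟨V, i, ⟨j, hj⟩, hxV⟩ := hcov x hx
    obtain ⟨g, hxg, hgV⟩ := exists_dOpen_le hX hxV
    refine ⟨g, hxg, fun k hk hkg => ⟨S.X₂.obj.map (homOfLE (hkg.trans hgV)).op j, ?_⟩⟩
    rw [NatTrans.naturality_apply, hj]
    exact res_res S.X₃ i.le _ q
  choose g hg hl using loc
  obtain ⟨T, hT⟩ := (isCompact_dOpen π hX f).elim_finite_subcover
    (fun x : {x // x ∈ HensSch.dOpen π f} => (HensSch.dOpen π (g x) : Set Z)) (fun x => (HensSch.dOpen π (g x)).2)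
    fun y hy => Set.mem_iUnion.2 ⟨⟨y, hy⟩, hg ⟨y, hy⟩⟩
  refine lift_of_cover hX hS hP T.card f (fun i => g (T.equivFin.symm i).1) (fun x hx => ?_) q
    (fun i k hk hki => hl _ k hk hki)
  obtain ⟨i, hi, hxi⟩ := Set.mem_iUnion₂.1 (hT hx)
  exact ⟨T.equivFin ⟨i, hi⟩, by simpa using hxi⟩

theorem dOpen_one (π : Z ⟶ HensSch.specLRS A) : HensSch.dOpen π (1 : A) = ⊤ :=
  Opens.ext (Set.eq_univ_of_forall fun x =>
    fun h => (π.base x).isPrime.ne_top ((Ideal.eq_top_iff_one _).2 h))

theorem subsingleton_H_of_PP (hX : HensSch.IsSph A I Z π) :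
    ∀ (n : ℕ) (G : CohTop.Ab Z.toTopCat), PP π G → Subsingleton (CohTop.H G (n + 1))
  | n, G, hG => by
    let P : ShortComplex (CohTop.Ab Z.toTopCat) :=
      ShortComplex.mk (Injective.ι G) (cokernel.π _) (cokernel.condition _)
    have hP : P.ShortExact :=
      { exact := ShortComplex.exact_cokernel (Injective.ι G), mono_f := Injective.ι_mono G }
    haveI : Injective P.X₂ := (inferInstanceAs (Injective (Injective.under G)) : _)
    refine subsingleton_of_forall_eq 0 fun x => ?_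
    obtain ⟨y, rfl⟩ := Ext.covariant_sequence_exact₁ _ hP x (Ext.eq_zero_of_injective _) rfl
    cases n with
    | zero =>
      obtain ⟨z, rfl⟩ : ∃ z : CohTop.H P.X₂ 0, Sheaf.H.map P.g 0 z = y := by
        let hT : IsTerminal (⊤ : Opens Z.toTopCat) := isTerminalTop
        have hsurj : Function.Surjective (P.g.hom.app (op (⊤ : Opens Z.toTopCat))) := by
          have h := surjective_sections hX hP hG (1 : A)
          rwa [dOpen_one] at h
        obtain ⟨j, hj⟩ := hsurj (Sheaf.H.equiv₀ P.X₃ hT y)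
        refine ⟨(Sheaf.H.equiv₀ P.X₂ hT).symm j, (Sheaf.H.equiv₀ P.X₃ hT).injective ?_⟩
        rw [← Sheaf.H.equiv₀_naturality, AddEquiv.apply_symm_apply, hj]
      show ((Ext.comp z (Ext.mk₀ P.g) (add_zero 0)).comp hP.extClass _) = 0
      rw [Ext.comp_assoc_of_second_deg_zero, hP.comp_extClass, Ext.comp_zero]
    | succ n =>
      haveI : Subsingleton (CohTop.H P.X₃ (n + 1)) := subsingleton_H_of_PP hX n P.X₃ (by
        intro f g1 g2 _ t
        obtain ⟨j, rfl⟩ := surjective_sections hX hP hG _ t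
        obtain ⟨j', rfl⟩ := LocZLib.surjective_res_injective P.X₂ (dOpen_mul_mul_le_left π f g1 g2) j
        refine ⟨P.g.hom.app _ j', 0, ?_⟩
        rw [map_zero, add_zero]
        exact (NatTrans.naturality_apply P.g.hom _ j').symm)
      rw [show y = 0 from Subsingleton.elim (α := CohTop.H P.X₃ (n + 1)) _ _, Ext.zero_comp]

theorem PP_toAb_TM (hX : HensSch.IsSph A I Z π) {p : ℕ} (hp : 0 < p) (hpA : (p : A) = 0) (M : ModuleCat.{u} A) :
    PP π (ModSite.toAb (TM π M)) := by
  intro f g1 g2 hcov t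
  have hl1 : PrimeSpectrum.basicOpen (f * (g1 * g2)) ≤ PrimeSpectrum.basicOpen (f * g1) := by
    rw [← mul_assoc]; exact PrimeSpectrum.basicOpen_mul_le_left _ _
  have hl2 : PrimeSpectrum.basicOpen (f * (g1 * g2)) ≤ PrimeSpectrum.basicOpen (f * g2) := by
    rw [mul_comm g1, ← mul_assoc]; exact PrimeSpectrum.basicOpen_mul_le_left _ _
  suffices h : ∀ z : Sx π (f * (g1 * g2)) ⊗[A] M, ∃ (a : Sx π (f * g1) ⊗[A] M) (b : Sx π (f * g2) ⊗[A] M),
      (resA π hl1).toLinearMap.rTensor M a + (resA π hl2).toLinearMap.rTensor M b = z by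
    obtain ⟨z, hz⟩ := (mu_bijective π M hX _).2 t
    obtain ⟨a, b, rfl⟩ := h z
    refine ⟨mu π M (f * g1) a, mu π M (f * g2) b, ?_⟩
    show resT π M hl1 (mu π M (f * g1) a) + resT π M hl2 (mu π M (f * g2) b) = t
    rw [resT_mu, resT_mu, ← hz, map_add]
  -- the pair of sections over `D(f)`
  let S := Sx π f
  haveI : HenselianRing S (I.map (algebraMap A S)) := (hX.2.2 f).2.1
  have hle : ∀ g : A, PrimeSpectrum.basicOpen (f * g) ≤ PrimeSpectrum.basicOpen f := fun g =>
    PrimeSpectrum.basicOpen_mul_le_left f g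
  letI : Algebra S (Sx π (f * g1)) := (resA π (hle g1)).toRingHom.toAlgebra
  letI : Algebra S (Sx π (f * g2)) := (resA π (hle g2)).toRingHom.toAlgebra
  letI : Algebra S (Sx π (f * (g1 * g2))) := (resA π (hle (g1 * g2))).toRingHom.toAlgebra
  let r1 : Sx π (f * g1) →ₐ[S] Sx π (f * (g1 * g2)) :=
    { resA π hl1 with commutes' := fun s => AlgHom.congr_fun (resA_resA π (hle g1) hl1) s }
  let r2 : Sx π (f * g2) →ₐ[S] Sx π (f * (g1 * g2)) :=
    { resA π hl2 with commutes' := fun s => AlgHom.congr_fun (resA_resA π (hle g2) hl2) s }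
  have hg : Ideal.span {algebraMap A S g1, algebraMap A S g2} = ⊤ := by
    by_contra hne
    obtain ⟨Q, hQ, hQle⟩ := Ideal.exists_le_maximal _ hne
    haveI := hQ.isPrime
    have hIQ : I.map (algebraMap A S) ≤ Q :=
      HenselianRing.jac.trans (sInf_le ⟨bot_le, hQ⟩ : Ideal.jacobson (⊥ : Ideal S) ≤ Q)
    obtain ⟨x, hx, hxp, -⟩ := exists_point π hX f Q hIQ
    have hmem : ∀ g : A, algebraMap A S g ∈ Q → x ∉ HensSch.dOpen π g := fun g hgQ hxg => by
      have h : π.base x ∈ PrimeSpectrum.basicOpen g := hxg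
      rw [hxp] at h
      exact h hgQ
    rcases hcov x hx with h | h
    · exact hmem g1 (hQle (Ideal.subset_span (by simp))) h
    · exact hmem g2 (hQle (Ideal.subset_span (by simp))) h
  have key : ∀ s : Sx π (f * (g1 * g2)), ∃ a b, r1 a + r2 b = s := TwoCover.two_cover
    (I := I.map (algebraMap A S)) hp (by rw [← map_natCast (algebraMap A S), hpA, map_zero]) hg
    (isHensAway_res π hX f g1) (isHensAway_res π hX f g2)
    (by rw [← map_mul]; exact isHensAway_res π hX f (g1 * g2)) r1 r2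
  intro z
  induction z using TensorProduct.induction_on with
  | zero => exact ⟨0, 0, by simp⟩
  | tmul s m =>
    obtain ⟨a, b, rfl⟩ := key s
    exact ⟨a ⊗ₜ m, b ⊗ₜ m, (TensorProduct.add_tmul _ _ _).symm⟩
  | add z z' hz hz' =>
    obtain ⟨a, b, rfl⟩ := hz
    obtain ⟨a', b', rfl⟩ := hz'
    exact ⟨a + a', b + b', by rw [map_add, map_add]; abel⟩

theorem subsingleton_H_of_iso {G G' : CohTop.Ab Z.toTopCat} (e : G ≅ G') (n : ℕ) (h : Subsingleton (CohTop.H G n)) :
    Subsingleton (CohTop.H G' n) := by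
  refine subsingleton_of_forall_eq 0 fun y => ?_
  have hy : Sheaf.H.map e.hom n (Sheaf.H.map e.inv n y) = y := by
    rw [← Sheaf.H.map_comp_apply, e.inv_hom_id, Sheaf.H.map_id_apply]
  rw [← hy, @Subsingleton.elim _ h (Sheaf.H.map e.inv n y) 0, map_zero]

theorem exists_TM_iso (F : (Spec (CommRingCat.of A)).Modules) [F.IsQuasicoherent] :
    ∃ M : ModuleCat.{u} A, Nonempty (TM π M ≅ (HensSch.pullMod π).obj F) := by
  haveI : IsIso (Scheme.Modules.fromTildeΓ (R := CommRingCat.of A) F) :=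
    Scheme.Modules.isIso_fromTildeΓ_of_isQuasicoherent _
  exact ⟨(moduleSpecΓFunctor (R := CommRingCat.of A)).obj F,
    ⟨(HensSch.pullMod π).mapIso (asIso (Scheme.Modules.fromTildeΓ (R := CommRingCat.of A) F))⟩⟩

theorem subsingleton_HC (hX : HensSch.IsSph A I Z π) {p : ℕ} (hp : 0 < p) (hpA : (p : A) = 0)
    (F : (Spec (CommRingCat.of A)).Modules) [F.IsQuasicoherent] (j : ℕ) (hj : 0 < j) :
    Subsingleton (ModSite.HC Z.sheaf ((HensSch.pullMod π).obj F) j) := by
  obtain ⟨n, rfl⟩ := Nat.exists_eq_add_of_le' hj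
  obtain ⟨M, ⟨e⟩⟩ := exists_TM_iso (π := π) F
  let e₂ : (ModSite.toAb (TM π M) : CohTop.Ab Z.toTopCat) ≅ ModSite.toAb ((HensSch.pullMod π).obj F) :=
    (SheafOfModules.toSheaf (ModSite.ringSh Z.sheaf)).mapIso e
  exact subsingleton_H_of_iso e₂ (n + 1) (subsingleton_H_of_PP hX n _ (PP_toAb_TM hX hp hpA M))

end Groth.Agent.HensSchLib
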