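import Groth.Agent.HensSchLib.SphFull
import Groth.Agent.HensSchLib.GoodOpen

/-!
# `M~` and finite maps of Henselian pairs
-/

set_option autoImplicit false
set_option linter.style.haveILetI false
set_option linter.unusedSectionVars false
set_option backward.isDefEq.respectTransparency false
set_option backward.isDefEq.respectTransparency.types false
set_option maxHeartbeats 800000

universe u

open CategoryTheory CategoryTheory.Limits AlgebraicGeometry Opposite TopologicalSpace
open Groth.Agent.RSpLib Groth.Agent.ModTensor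
open scoped TensorProduct

noncomputable section

namespace Groth.Agent.HensSchLib

section Basis

variable {X : TopCat.{u}} {O : TopCat.Sheaf CommRingCat.{u} X} {M N : ModSite.Mod O} (φ : M ⟶ N)
  {ι : Type*} (B : ι → Opens X)

/-- A map of sheaves of modules which is bijective on a basis is an isomorphism. -/
theorem isIso_of_bijective_on_basis (hB : ∀ (U : Opens X), ∀ x ∈ U, ∃ b, x ∈ B b ∧ B b ≤ U)
    (h : ∀ b, Function.Bijective (lin ((preFunctor O).map φ) (op (B b)))) : IsIso φ := by
  let FM : TopCat.Sheaf AddCommGrpCat.{u} X := ⟨(pre O M).presheaf, M.isSheaf⟩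
  let FN : TopCat.Sheaf AddCommGrpCat.{u} X := ⟨(pre O N).presheaf, N.isSheaf⟩
  let app := fun (U : Opens X) => lin ((preFunctor O).map φ) (op U)
  have appres : ∀ {U V : Opens X} (h : V ≤ U) (m : (pre O M).obj (op U)),
      app V ((pre O M).presheaf.map (homOfLE h).op m) = (pre O N).presheaf.map (homOfLE h).op (app U m) :=
    fun h m => lin_res ((preFunctor O).map φ) (homOfLE h).op m
  have hinj : ∀ U : Opens X, Function.Injective (app U) := fun U a b hab => by
    choose k hk hkU using fun x : U => hB U x.1 x.2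
    refine TopCat.Sheaf.eq_of_locally_eq' FM (fun x : U => B (k x)) U (fun x => homOfLE (hkU x))
      (fun x hx => Opens.mem_iSup.2 ⟨⟨x, hx⟩, hk ⟨x, hx⟩⟩) a b fun x => (h (k x)).1 ?_
    show app _ ((pre O M).presheaf.map _ a) = app _ ((pre O M).presheaf.map _ b)
    rw [appres, appres, hab]
  have res2 : ∀ {U V W : Opens X} (h₁ : V ≤ U) (h₂ : W ≤ V) (m : (pre O N).obj (op U)),
      (pre O N).presheaf.map (homOfLE h₂).op ((pre O N).presheaf.map (homOfLE h₁).op m) =
        (pre O N).presheaf.map (homOfLE (h₂.trans h₁)).op m :=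
    fun h₁ h₂ m => by rw [← ConcreteCategory.comp_apply, ← Functor.map_comp]; rfl
  have hbij : ∀ U : Opens X, Function.Bijective (app U) := fun U => by
    refine ⟨hinj U, fun n => ?_⟩
    choose k hk hkU using fun x : U => hB U x.1 x.2
    choose m hm using fun x : U => (h (k x)).2 ((pre O N).presheaf.map (homOfLE (hkU x)).op n)
    obtain ⟨g, hg, -⟩ := FM.existsUnique_gluing' (fun x : U => B (k x)) U (fun x => homOfLE (hkU x))
      (fun x hx => Opens.mem_iSup.2 ⟨⟨x, hx⟩, hk ⟨x, hx⟩⟩) m fun x y => by
        refine hinj _ ?_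
        show app _ ((pre O M).presheaf.map (homOfLE inf_le_left).op (m x)) =
          app _ ((pre O M).presheaf.map (homOfLE inf_le_right).op (m y))
        rw [appres, appres, hm, hm, res2, res2]
    refine ⟨g, TopCat.Sheaf.eq_of_locally_eq' FN (fun x : U => B (k x)) U (fun x => homOfLE (hkU x))
      (fun x hx => Opens.mem_iSup.2 ⟨⟨x, hx⟩, hk ⟨x, hx⟩⟩) _ _ fun x => ?_⟩
    show (pre O N).presheaf.map _ (app U g) = (pre O N).presheaf.map _ n
    rw [← appres, show (pre O M).presheaf.map (homOfLE (hkU x)).op g = m x from hg x, hm]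
  haveI : IsIso ((PresheafOfModules.toPresheaf _).map φ.val) := by
    haveI : ∀ U, IsIso (((PresheafOfModules.toPresheaf _).map φ.val).app U) := fun U =>
      (ConcreteCategory.isIso_iff_bijective _).2 (hbij U.unop)
    exact NatIso.isIso_of_isIso_app _
  haveI : IsIso φ.val := isIso_of_reflects_iso φ.val (PresheafOfModules.toPresheaf _)
  haveI : IsIso ((SheafOfModules.forget (ModSite.ringSh O)).map φ) := ‹IsIso φ.val›
  exact isIso_of_reflects_iso φ (SheafOfModules.forget (ModSite.ringSh O))

end Basis

variable {A B : Type u} [CommRing A] [CommRing B] [Algebra A B] {I : Ideal A}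
  {X Y : LocallyRingedSpace.{u}} {πA : X ⟶ HensSch.specLRS A} {πB : Y ⟶ HensSch.specLRS B} (φ : Y ⟶ X)
  (hφ : φ ≫ πA = πB ≫ (Spec.map (CommRingCat.ofHom (algebraMap A B))).toLRSHom)

include hφ in
theorem preimage_dOpen (f : A) :
    (Opens.map φ.base).obj (HensSch.dOpen πA f) = HensSch.dOpen πB (algebraMap A B f) := by
  ext y
  have h : πA.base (φ.base y) = (Spec.map (CommRingCat.ofHom (algebraMap A B))).toLRSHom.base (πB.base y) :=
    congr(LocallyRingedSpace.Hom.toShHom $hφ |>.hom.base y)
  show πA.base (φ.base y) ∈ PrimeSpectrum.basicOpen f ↔ πB.base y ∈ PrimeSpectrum.basicOpen (algebraMap A B f)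
  rw [h]
  rfl

/-- The map of sections over distinguished opens. -/
def phiS (f : A) : Sx πA f →+* Sx πB (algebraMap A B f) :=
  (Y.presheaf.map (homOfLE (preimage_dOpen φ hφ f).ge).op).hom.comp (φ.c.app (op (HensSch.dOpen πA f))).hom

theorem phiS_algebraMap (f a : A) :
    phiS φ hφ f (algebraMap A (Sx πA f) a) = algebraMap B (Sx πB (algebraMap A B f)) (algebraMap A B a) := by
  show Y.presheaf.map (homOfLE _).op (φ.c.app _ (HensSch.secMap πA (PrimeSpectrum.basicOpen f) a)) =
    HensSch.secMap πB (PrimeSpectrum.basicOpen (algebraMap A B f)) (algebraMap A B a)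
  rw [secMap_eq, secMap_eq]
  have hD : HensSch.dOpen πB (algebraMap A B f) ≤
      (Opens.map (φ ≫ πA).base).obj (PrimeSpectrum.basicOpen f) := (preimage_dOpen φ hφ f).ge
  have hD' : HensSch.dOpen πB (algebraMap A B f) ≤
      (Opens.map (πB ≫ (Spec.map (CommRingCat.ofHom (algebraMap A B))).toLRSHom).base).obj
        (PrimeSpectrum.basicOpen f) := fun y hy => hy
  refine (comp_app_congr hφ (PrimeSpectrum.basicOpen f) _ hD hD' _).trans ?_
  have e1 : (Spec.map (CommRingCat.ofHom (algebraMap A B))).app (PrimeSpectrum.basicOpen f)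
      ((Spec (CommRingCat.of A)).presheaf.map (homOfLE le_top).op ((Scheme.ΓSpecIso (CommRingCat.of A)).inv a)) =
      (Spec (CommRingCat.of B)).presheaf.map (homOfLE le_top).op
        ((Scheme.ΓSpecIso (CommRingCat.of B)).inv (algebraMap A B a)) :=
    (congr($((Spec.map (CommRingCat.ofHom (algebraMap A B))).naturality (homOfLE le_top).op)
      ((Scheme.ΓSpecIso (CommRingCat.of A)).inv a))).trans (congrArg ((Spec (CommRingCat.of B)).presheaf.map _)
      (congr($(Scheme.ΓSpecIso_inv_naturality (CommRingCat.ofHom (algebraMap A B))) a)).symm)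
  exact (congrArg (fun t => Y.presheaf.map (homOfLE hD').op (πB.c.app (op ((Spec.map (CommRingCat.ofHom (algebraMap A B))) ⁻¹ᵁ (PrimeSpectrum.basicOpen f))) t)) e1).trans
    (congr($(Y.presheaf.map_id _) _))

include hφ in
theorem bijective_tensor [Module.Finite A B] (hX : HensSch.IsSph A I X πA)
    (hY : HensSch.IsSph B (I.map (algebraMap A B)) Y πB) (f : A) (N : ModuleCat.{u} B) :
    letI := Module.compHom N (algebraMap A B)
    ∃ Ψ : Sx πA f ⊗[A] N →+ Sx πB (algebraMap A B f) ⊗[B] N, Function.Bijective Ψ ∧
      ∀ s n, Ψ (s ⊗ₜ[A] n) = phiS φ hφ f s ⊗ₜ[B] n := by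
  letI := Module.compHom N (algebraMap A B)
  haveI : IsScalarTower A B N := .of_algebraMap_smul fun _ _ => rfl
  set S := Sx πA f
  set S' := Sx πB (algebraMap A B f)
  letI : Algebra A S' := ((algebraMap B S').comp (algebraMap A B)).toAlgebra
  haveI : IsScalarTower A B S' := .of_algebraMap_eq' rfl
  let p : S →ₐ[A] S' := { phiS φ hφ f with commutes' := fun a => phiS_algebraMap φ hφ f a }
  let L : B ⊗[A] S →ₐ[B] S' := Algebra.TensorProduct.lift (Algebra.ofId B S') p fun _ _ => Commute.all _ _
  obtain ⟨hu, hh, huniv⟩ := hY.2.2 (algebraMap A B f)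
  -- `B ⊗ S` has the universal property of `S'`
  letI : Algebra S (B ⊗[A] S) := Algebra.TensorProduct.rightAlgebra
  haveI : IsScalarTower A S (B ⊗[A] S) :=
    .of_algebraMap_eq' (Algebra.TensorProduct.includeRight (R := A) (A := B) (B := S)).comp_algebraMap.symm
  haveI : Algebra.IsIntegral S (B ⊗[A] S) := by
    haveI : Module.Finite S (B ⊗[A] S) :=
      Module.Finite.of_surjective
        (Algebra.TensorProduct.commRight A S B).toLinearMap (Algebra.TensorProduct.commRight A S B).surjective
    exact Algebra.IsIntegral.of_finite S _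
  haveI : HenselianRing S (I.map (algebraMap A S)) := (hX.2.2 f).2.1
  have hT1 : HenselianRing (B ⊗[A] S) ((I.map (algebraMap A B)).map (algebraMap B (B ⊗[A] S))) := by
    have h := Groth.Agent.Hensel.of_isIntegral (I := I.map (algebraMap A S)) (B ⊗[A] S)
    rw [Ideal.map_map, ← IsScalarTower.algebraMap_eq] at h ⊢
    exact h
  have hT2 : IsUnit (algebraMap B (B ⊗[A] S) (algebraMap A B f)) := by
    rw [← IsScalarTower.algebraMap_apply, IsScalarTower.algebraMap_apply A S (B ⊗[A] S)]
    exact ((hX.2.2 f).1 : IsUnit (algebraMap A S f)).map _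
  obtain ⟨h, hh1, -⟩ := huniv (B ⊗[A] S) _ (algebraMap B (B ⊗[A] S)) hT1 le_rfl hT2
  have hLh : L.toRingHom.comp h = RingHom.id S' := by
    refine (huniv S' _ (algebraMap B S') hh le_rfl hu).unique ?_ (RingHom.id_comp _)
    rw [RingHom.comp_assoc]
    exact (congrArg L.toRingHom.comp hh1).trans L.comp_algebraMap
  have hhL : h.comp L.toRingHom = RingHom.id (B ⊗[A] S) := by
    let hA : S' →ₐ[A] B ⊗[A] S :=
      { h with
        commutes' := fun a => (RingHom.congr_fun hh1 (algebraMap A B a)).trans
          (IsScalarTower.algebraMap_apply A B (B ⊗[A] S) a).symm }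
    have hright : ∀ s, h (L (1 ⊗ₜ s)) = 1 ⊗ₜ s := by
      have hJ : I.map ((Algebra.TensorProduct.includeRight (R := A) (A := B) (B := S) : S →+* B ⊗[A] S).comp
          (algebraMap A S)) ≤ (I.map (algebraMap A B)).map (algebraMap B (B ⊗[A] S)) := by
        rw [Ideal.map_map, ← IsScalarTower.algebraMap_eq, IsScalarTower.algebraMap_eq A S (B ⊗[A] S)]
        exact le_rfl
      have e := ((hX.2.2 f).2.2 (B ⊗[A] S) _ _ hT1 hJ
        ((hX.2.2 f).1.map (Algebra.TensorProduct.includeRight (R := A) (A := B) (B := S) : S →+* B ⊗[A] S))).unique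
        (y₁ := (hA.comp p).toRingHom)
        (y₂ := (Algebra.TensorProduct.includeRight (R := A) (A := B) (B := S) : S →+* B ⊗[A] S))
        (by
          refine (hA.comp p).comp_algebraMap.trans ?_
          exact (Algebra.TensorProduct.includeRight (R := A) (A := B) (B := S)).comp_algebraMap.symm)
        rfl
      intro s
      rw [show L (1 ⊗ₜ s) = p s by simp [L]]
      exact RingHom.congr_fun e s
    refine RingHom.ext fun z => ?_
    induction z using TensorProduct.induction_on with
    | zero => exact map_zero _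
    | add a b ha hb => rw [map_add, ha, hb, map_add]
    | tmul b s =>
      have hb : b ⊗ₜ[A] s = algebraMap B (B ⊗[A] S) b * (1 ⊗ₜ s) := by simp
      show h (L (b ⊗ₜ s)) = b ⊗ₜ s
      rw [hb, map_mul, map_mul, AlgHom.commutes, hright]
      exact congrArg (· * _) (RingHom.congr_fun hh1 b)
  have hbij : Function.Bijective L := Function.bijective_iff_has_inverse.2
    ⟨h, RingHom.congr_fun hhL, RingHom.congr_fun hLh⟩
  let e := AlgEquiv.ofBijective L hbij
  let Ψ : S ⊗[A] N →+ S' ⊗[B] N :=
    (TensorProduct.comm B N S').toLinearMap.toAddMonoidHom.comp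
      ((e.toLinearEquiv.lTensor N).toLinearMap.toAddMonoidHom.comp
        ((TensorProduct.AlgebraTensorModule.cancelBaseChange A B B N S).symm.toLinearMap.toAddMonoidHom.comp
          (TensorProduct.comm A S N).toLinearMap.toAddMonoidHom))
  refine ⟨Ψ, ?_, fun s n => ?_⟩
  · exact (TensorProduct.comm B N S').bijective.comp ((e.toLinearEquiv.lTensor N).bijective.comp
      ((TensorProduct.AlgebraTensorModule.cancelBaseChange A B B N S).symm.bijective.comp
        (TensorProduct.comm A S N).bijective))
  · show (TensorProduct.comm B N S') ((e.toLinearEquiv.lTensor N)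
      ((TensorProduct.AlgebraTensorModule.cancelBaseChange A B B N S).symm (TensorProduct.comm A S N (s ⊗ₜ n)))) = _
    rw [TensorProduct.comm_tmul, TensorProduct.AlgebraTensorModule.cancelBaseChange_symm_tmul,
      LinearEquiv.lTensor_tmul, TensorProduct.comm_tmul]
    congr 1
    show L ((1 : B) ⊗ₜ[A] s) = phiS φ hφ f s
    simp [L]
    rfl

/-- The canonical map on global sections. -/
def thetaTop (π : X ⟶ HensSch.specLRS A) (M : ModuleCat.{u} A) (m : M) :
    ((pre X.sheaf (TM π M)).obj (op ⊤) : Type u) :=
  (((HensSch.pullPushAdj π).unit.app (tilde M)).val.app (op ⊤)).hom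
    (((tilde.adjunction (R := CommRingCat.of A)).unit.app M).hom m)

theorem theta_eq (π : X ⟶ HensSch.specLRS A) (M : ModuleCat.{u} A) (f : A) (m : M) :
    theta π M f m = res (pre X.sheaf (TM π M))
      ((Opens.map π.base).map (homOfLE (le_top : PrimeSpectrum.basicOpen f ≤ ⊤))).op (thetaTop π M m) :=
  ((lin_res ((preFunctor _).map ((HensSch.pullPushAdj π).unit.app (tilde (R := CommRingCat.of A) M)))
    (homOfLE (le_top : PrimeSpectrum.basicOpen f ≤ ⊤)).op
    (((tilde.adjunction (R := CommRingCat.of A)).unit.app M).hom m)).symm.trans rfl).symm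

/-- The canonical map on global sections is linear. -/
def globalMap (N : ModuleCat.{u} B) :
    (ModuleCat.restrictScalars (algebraMap A B)).obj N ⟶
      (moduleSpecΓFunctor (R := CommRingCat.of A)).obj
        ((HensSch.pushMod πA).obj ((HensSch.pushMod φ).obj (HensSch.sphTilde πB N))) :=
  ModuleCat.homMk (AddCommGrpCat.ofHom (AddMonoidHom.mk' (fun n : N => thetaTop πB N n) fun a b =>
      (congrArg (((HensSch.pullPushAdj πB).unit.app (tilde N)).val.app (op ⊤)).hom
        (map_add ((tilde.adjunction (R := CommRingCat.of B)).unit.app N).hom a b)).trans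
        (map_add (((HensSch.pullPushAdj πB).unit.app (tilde N)).val.app (op ⊤)).hom _ _)))
    fun a => AddCommGrpCat.hom_ext (AddMonoidHom.ext fun (n : N) => Eq.symm (by
        show thetaTop πB N (algebraMap A B a • n) = _
        have hB : thetaTop πB N (algebraMap A B a • n) = HSMul.hSMul (α := (Y.sheaf.obj.obj (op ⊤) : Type u)) (β := ((pre Y.sheaf (TM πB N)).obj (op ⊤) : Type u))
            (γ := ((pre Y.sheaf (TM πB N)).obj (op ⊤) : Type u))
            (πB.c.app (op ⊤) ((Scheme.ΓSpecIso (CommRingCat.of B)).inv (algebraMap A B a))) (thetaTop πB N n) := by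
          refine (congrArg (((HensSch.pullPushAdj πB).unit.app (tilde N)).val.app (op ⊤)).hom
            ((map_smul ((tilde.adjunction (R := CommRingCat.of B)).unit.app N).hom (algebraMap A B a) n).trans
              (Scheme.Modules.smul_Spec_def (R := CommRingCat.of B) (algebraMap A B a) _))).trans ?_
          refine (map_smul (((HensSch.pullPushAdj πB).unit.app (tilde N)).val.app (op ⊤)).hom _ _).trans ?_
          show HSMul.hSMul (α := (Y.sheaf.obj.obj (op ⊤) : Type u)) (β := ((pre Y.sheaf (TM πB N)).obj (op ⊤) : Type u))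
            (γ := ((pre Y.sheaf (TM πB N)).obj (op ⊤) : Type u)) (πB.c.app (op ⊤) _) _ = _
          congr 2
        refine hB.trans ?_
        show _ = HSMul.hSMul (α := (Y.sheaf.obj.obj (op ⊤) : Type u)) (β := ((pre Y.sheaf (TM πB N)).obj (op ⊤) : Type u))
            (γ := ((pre Y.sheaf (TM πB N)).obj (op ⊤) : Type u))
          (φ.c.app (op ⊤) (πA.c.app (op ⊤) ((Spec (CommRingCat.of A)).presheaf.map (⊤ : Opens (PrimeSpectrum A)).leTop.op
            ((Scheme.ΓSpecIso (CommRingCat.of A)).inv a)))) (thetaTop πB N n)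
        congr 1
        have e := comp_app_congr hφ ⊤ ⊤ le_top le_top ((Scheme.ΓSpecIso (CommRingCat.of A)).inv a)
        refine Eq.trans ?_ (Eq.trans (congr($(Y.presheaf.map_id (op ⊤))
          (πB.c.app (op ⊤) ((Spec.map (CommRingCat.ofHom (algebraMap A B))).appTop
            ((Scheme.ΓSpecIso (CommRingCat.of A)).inv a))))).symm (e.symm.trans ?_))
        · exact congrArg (πB.c.app (op ⊤)) (congr($(Scheme.ΓSpecIso_inv_naturality (CommRingCat.ofHom (algebraMap A B))) a))
        · refine (congr($(Y.presheaf.map_id (op ⊤)) _)).trans ?_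
          exact congrArg (fun t => φ.c.app (op ⊤) (πA.c.app (op ⊤) t))
            (congr($((Spec (CommRingCat.of A)).presheaf.map_id (op ⊤))
              ((Scheme.ΓSpecIso (CommRingCat.of A)).inv a))).symm))

include hφ in
theorem exists_iso_push [Module.Finite A B] (hX : HensSch.IsSph A I X πA)
    (hY : HensSch.IsSph B (I.map (algebraMap A B)) Y πB) (N : ModuleCat.{u} B) :
    ∃ e : HensSch.sphTilde πA ((ModuleCat.restrictScalars (algebraMap A B)).obj N) ≅
        (HensSch.pushMod φ).obj (HensSch.sphTilde πB N),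
      ∀ n : N, (e.hom.val.app (op ⊤)).hom (thetaTop πA ((ModuleCat.restrictScalars (algebraMap A B)).obj N) n)
        = thetaTop πB N n := by
  let N' := (ModuleCat.restrictScalars (algebraMap A B)).obj N
  let adj := (tilde.adjunction (R := CommRingCat.of A)).comp (HensSch.pullPushAdj πA)
  let ψ : HensSch.sphTilde πA N' ⟶ (HensSch.pushMod φ).obj (HensSch.sphTilde πB N) :=
    (adj.homEquiv N' _).symm (globalMap φ hφ N)
  have htop : ∀ n : N, (ψ.val.app (op ⊤)).hom (thetaTop πA N' n) = thetaTop πB N n := fun n => by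
    have h := congrArg (fun t => t.hom n) ((adj.homEquiv N' _).apply_symm_apply (globalMap φ hφ N))
    rw [Adjunction.homEquiv_unit] at h
    exact h
  haveI : IsIso ψ := by
    refine isIso_of_bijective_on_basis ψ (fun f : A => HensSch.dOpen πA f) (fun U x hx => exists_dOpen_le hX hx)
      fun f => ?_
    letI := Module.compHom N (algebraMap A B)
    obtain ⟨Ψ, hΨ, hΨt⟩ := bijective_tensor φ hφ hX hY f N
    let f' := algebraMap A B f
    have heq := preimage_dOpen φ hφ f
    let r : Tx πB N f' → (pre Y.sheaf (TM πB N)).obj (op ((Opens.map φ.base).obj (HensSch.dOpen πA f))) :=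
      fun t => res (pre Y.sheaf (TM πB N)) (homOfLE heq.le).op t
    have hr : Function.Bijective r := by
      haveI : IsIso (homOfLE heq.le) := ⟨homOfLE heq.ge, Subsingleton.elim _ _, Subsingleton.elim _ _⟩
      exact ConcreteCategory.bijective_of_isIso ((pre Y.sheaf (TM πB N)).presheaf.map (homOfLE heq.le).op)
    have key : ∀ z : Sx πA f ⊗[A] N',
        lin ((preFunctor X.sheaf).map ψ) (op (HensSch.dOpen πA f)) (mu πA N' f z) = r (mu πB N f' (Ψ z)) := by
      intro z
      induction z using TensorProduct.induction_on with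
      | zero =>
        rw [map_zero]
        refine (map_zero _).trans ?_
        rw [map_zero, map_zero]
        exact (map_zero (res (pre Y.sheaf (TM πB N)) (homOfLE heq.le).op)).symm
      | add a b ha hb =>
        rw [map_add]
        refine (map_add _ _ _).trans ((congrArg₂ (· + ·) ha hb).trans ?_)
        rw [map_add, map_add]
        exact (map_add (res (pre Y.sheaf (TM πB N)) (homOfLE heq.le).op) _ _).symm
      | tmul s n =>
        rw [mu_tmul, hΨt, mu_tmul]
        refine (map_smul (lin ((preFunctor X.sheaf).map ψ) (op (HensSch.dOpen πA f))) s _).trans ?_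
        refine Eq.trans ?_ (PresheafOfModules.map_smul (pre Y.sheaf (TM πB N)) (homOfLE heq.le).op
          (phiS φ hφ f s) (theta πB N f' n)).symm
        rw [theta_eq πA N' f n, theta_eq πB N f' n]
        refine (congrArg₂ (fun (a : Y.sheaf.obj.obj (op ((Opens.map φ.base).obj (HensSch.dOpen πA f))))
          (b : (pre Y.sheaf (TM πB N)).obj (op ((Opens.map φ.base).obj (HensSch.dOpen πA f)))) => a • b) ?_ ?_ :
            (φ.c.app (op (HensSch.dOpen πA f)) s : Y.sheaf.obj.obj (op ((Opens.map φ.base).obj (HensSch.dOpen πA f)))) •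
              _ = _)
        · show φ.c.app _ s = Y.presheaf.map _ (Y.presheaf.map _ (φ.c.app _ s))
          rw [← CategoryTheory.ConcreteCategory.comp_apply (f := Y.presheaf.map _), ← Functor.map_comp]
          exact (congr($(Y.presheaf.map_id _) _)).symm
        · refine (lin_res ((preFunctor X.sheaf).map ψ) _ _).trans ?_
          refine (congrArg _ (htop n)).trans ?_
          show (pre Y.sheaf (TM πB N)).presheaf.map _ _ =
            (pre Y.sheaf (TM πB N)).presheaf.map _ ((pre Y.sheaf (TM πB N)).presheaf.map _ _)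
          rw [← CategoryTheory.ConcreteCategory.comp_apply, ← Functor.map_comp]
          rfl
    refine (Function.Bijective.of_comp_iff _ (mu_bijective πA N' hX f)).1 ?_
    rw [show (lin ((preFunctor X.sheaf).map ψ) (op (HensSch.dOpen πA f))) ∘ (mu πA N' f) =
      r ∘ mu πB N f' ∘ Ψ from funext key]
    exact hr.comp ((mu_bijective πB N hY f').comp hΨ)
  exact ⟨asIso ψ, htop⟩

end Groth.Agent.HensSchLib
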