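import Groth.Agent.HensSchLib.SphSections

/-!
# `M ↦ M~` is fully faithful for Henselian pairs
-/

set_option autoImplicit false
set_option linter.style.haveILetI false
set_option linter.unusedSectionVars false
set_option backward.isDefEq.respectTransparency false
set_option backward.isDefEq.respectTransparency.types false
set_option maxHeartbeats 800000

universe u

open CategoryTheory CategoryTheory.Limits AlgebraicGeometry Opposite TopologicalSpace
open Groth.Agent.RSpLib Groth.Agent.ModTensor
open scoped TensorProduct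

noncomputable section

namespace Groth.Agent.HensSchLib

variable {A : Type u} [CommRing A] {I : Ideal A} [HenselianRing A I] {X : LocallyRingedSpace.{u}}
  {π : X ⟶ HensSch.specLRS A}

theorem bijective_secMap_one (hX : HensSch.IsSph A I X π) :
    Function.Bijective (algebraMap A (Sx π 1)) := by
  obtain ⟨-, hh, huniv⟩ := hX.2.2 1
  have hid : IsUnit (RingHom.id A 1) := isUnit_one
  obtain ⟨h, hh1, -⟩ := huniv A I (RingHom.id A) inferInstance (Ideal.map_id I).le hid
  have h2 : (algebraMap A (Sx π 1)).comp h = RingHom.id _ := by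
    refine ((hX.2.2 1).2.2 (Sx π 1) _ (algebraMap A (Sx π 1)) hh le_rfl (by rw [map_one]; exact isUnit_one)).unique
      ?_ (RingHom.id_comp _)
    rw [RingHom.comp_assoc]
    exact congrArg (algebraMap A (Sx π 1)).comp hh1
  exact Function.bijective_iff_has_inverse.2 ⟨h, RingHom.congr_fun hh1, RingHom.congr_fun h2⟩

theorem bijective_theta_one (hX : HensSch.IsSph A I X π) (M : ModuleCat.{u} A) :
    Function.Bijective (theta π M 1) := by
  let e : A ≃ₗ[A] Sx π 1 :=
    LinearEquiv.ofBijective (Algebra.linearMap A (Sx π 1)) (bijective_secMap_one hX)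
  have h : (theta π M 1 : M → Tx π M 1) =
      (mu π M 1) ∘ ((TensorProduct.lid A M).symm.trans (e.rTensor M)) := funext fun m => by
    show theta π M 1 m = mu π M 1 (e 1 ⊗ₜ[A] m)
    rw [mu_tmul, show e 1 = (1 : Sx π 1) from map_one (algebraMap A (Sx π 1)), one_smul]
  rw [h]
  exact (mu_bijective π M hX 1).comp (LinearEquiv.bijective _)

/-- A map of sheaves `M~ → N~` on sections. -/
abbrev appT {M N : ModuleCat.{u} A} (φ : TM π M ⟶ TM π N) (f : A) : Tx π M f →ₗ[Sx π f] Tx π N f :=
  lin ((preFunctor X.sheaf).map φ) (op (HensSch.dOpen π f))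

theorem appT_resT {M N : ModuleCat.{u} A} (φ : TM π M ⟶ TM π N) {f g : A}
    (h : PrimeSpectrum.basicOpen g ≤ PrimeSpectrum.basicOpen f) (t : Tx π M f) :
    appT φ g (resT π M h t) = resT π N h (appT φ f t) :=
  lin_res ((preFunctor X.sheaf).map φ) ((Opens.map π.base).map (homOfLE h)).op t

theorem appT_map_theta {M N : ModuleCat.{u} A} (v : M ⟶ N) (m : M) :
    appT ((HensSch.sphTildeFunctor π).map v) 1 (theta π M 1 m) = theta π N 1 (v.hom m) := by
  have h1 := congr(($((HensSch.pullPushAdj π).unit.naturality ((tilde.functor (CommRingCat.of A)).map v))).val.app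
    (op (PrimeSpectrum.basicOpen (1 : A))))
  have h2 := congr($(h1).hom ((tilde.toOpen (R := CommRingCat.of A) M (PrimeSpectrum.basicOpen (1 : A))).hom m))
  refine Eq.trans ?_ (Eq.trans h2.symm ?_)
  · rfl
  · exact congrArg (unitS (O := X.sheaf) (O' := (HensSch.specLRS A).sheaf) π.base ⟨π.c⟩ (tilde (R := CommRingCat.of A) N))
      (congr($(tilde.toOpen_map_app (R := CommRingCat.of A) v (PrimeSpectrum.basicOpen (1 : A))) m))

theorem hom_ext_theta {M N : ModuleCat.{u} A} (hX : HensSch.IsSph A I X π) (φ ψ : TM π M ⟶ TM π N)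
    (h : ∀ m, appT φ 1 (theta π M 1 m) = appT ψ 1 (theta π M 1 m)) : φ = ψ := by
  refine SheafOfModules.hom_ext (PresheafOfModules.hom_ext fun U => ModuleCat.hom_ext (LinearMap.ext fun s => ?_))
  refine section_ext (TM π N) _ _ fun x hx => ?_
  rw [show germ (TM π N) hx ((φ.val.app U).hom s) = stkMap φ x (germ (TM π M) hx s) from (stkMap_germ φ hx s).symm,
    show germ (TM π N) hx ((ψ.val.app U).hom s) = stkMap ψ x (germ (TM π M) hx s) from (stkMap_germ ψ hx s).symm]
  letI := algOx π x
  obtain ⟨Φ, hΦ, hΦg⟩ := stalk_iso π M x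
  obtain ⟨w, hw⟩ := hΦ.2 (germ (TM π M) hx s)
  rw [← hw]
  clear hw
  have hx1 : x ∈ HensSch.dOpen π (1 : A) := by
    show π.base x ∈ PrimeSpectrum.basicOpen (1 : A)
    rw [PrimeSpectrum.basicOpen_one]; trivial
  induction w using TensorProduct.induction_on with
  | zero => rw [map_zero]; exact (map_zero (stkMap φ x)).trans (map_zero (stkMap ψ x)).symm
  | add a b ha hb =>
    rw [map_add]
    exact (map_add (stkMap φ x) _ _).trans ((congrArg₂ (· + ·) ha hb).trans (map_add (stkMap ψ x) _ _).symm)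
  | tmul o m =>
    obtain ⟨U', hU', y, rfl⟩ := TopCat.Presheaf.exists_germ_eq X.presheaf o
    obtain ⟨g, hg, hgU⟩ := exists_dOpen_le hX hU'
    have hle : PrimeSpectrum.basicOpen (1 * g) ≤ PrimeSpectrum.basicOpen (1 : A) :=
      PrimeSpectrum.basicOpen_mul_le_left _ _
    have hxg := mem_dOpen_mul π hx1 hg
    let y' : Sx π (1 * g) := X.presheaf.map
      (homOfLE (show HensSch.dOpen π (1 * g) ≤ U' from fun v hv =>
        hgU (PrimeSpectrum.basicOpen_mul_le_right 1 g hv))).op y
    have e : X.presheaf.germ U' x hU' y = germA π (1 * g) x hxg y' :=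
      (TopCat.Presheaf.germ_res_apply X.presheaf _ x hxg y).symm
    rw [e]
    have e2 : Φ (germA π (1 * g) x hxg y' ⊗ₜ[A] m) = germT π M (1 * g) x hxg (mu π M (1 * g) (y' ⊗ₜ m)) := by
      rw [hΦg, LinearMap.rTensor_tmul]; rfl
    rw [e2]
    refine (stkMap_germ φ hxg _).trans (Eq.trans ?_ (stkMap_germ ψ hxg _).symm)
    refine congrArg (germ (TM π N) hxg) ?_
    show appT φ (1 * g) (mu π M (1 * g) (y' ⊗ₜ m)) = appT ψ (1 * g) (mu π M (1 * g) (y' ⊗ₜ m))
    rw [mu_tmul, map_smul, map_smul, ← resT_theta π M hle m, appT_resT, appT_resT, h]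

theorem full_and_faithful (π : X ⟶ HensSch.specLRS A) (hX : HensSch.IsSph A I X π) :
    (HensSch.sphTildeFunctor π).Full ∧ (HensSch.sphTildeFunctor π).Faithful := by
  refine ⟨⟨fun {M N} φ => ?_⟩, ⟨fun {M N} v w e => ?_⟩⟩
  · let e := LinearEquiv.ofBijective (theta π N 1) (bijective_theta_one hX N)
    let v : M ⟶ N := ModuleCat.ofHom
      (e.symm.toLinearMap ∘ₗ ((appT φ 1).restrictScalars A) ∘ₗ theta π M 1)
    refine ⟨v, hom_ext_theta hX _ _ fun m => ?_⟩
    rw [appT_map_theta]
    exact e.apply_symm_apply _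
  · refine ModuleCat.hom_ext (LinearMap.ext fun m => (bijective_theta_one hX N).1 ?_)
    rw [← appT_map_theta, ← appT_map_theta, e]

end Groth.Agent.HensSchLib
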