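import Groth.Agent.HensSchLib.SphTilde

/-!
# The sections formula for `M~`
-/

set_option autoImplicit false
set_option linter.style.haveILetI false
set_option linter.unusedSectionVars false
set_option backward.isDefEq.respectTransparency false
set_option backward.isDefEq.respectTransparency.types false
set_option maxHeartbeats 800000

universe u

open CategoryTheory CategoryTheory.Limits AlgebraicGeometry Opposite TopologicalSpace
open Groth.Agent.RSpLib Groth.Agent.ModTensor
open scoped TensorProduct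

noncomputable section

namespace Groth.Agent.HensSchLib

theorem exists_equiv_Nmod {A : Type u} [CommRing A] (N : ModuleCat.{u} A) :
    Nonempty (N ≃ₗ[A] Nmod (tilde (R := CommRingCat.of A) N)) := by
  let F := tilde (R := CommRingCat.of A) N
  let α := ((Scheme.Modules.pullbackId (SpA A)).app F).inv
  let e : N ≃+ Nmod F := ((tilde.isoTop (R := CommRingCat.of A) N).toLinearEquiv.toAddEquiv).trans
    ((asIso (α.app ⊤)).addCommGroupIsoToAddEquiv)
  refine ⟨{ e with map_smul' := fun a n => ?_ }⟩
  show α.app ⊤ ((tilde.isoTop (R := CommRingCat.of A) N).toLinearEquiv (a • n)) = _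
  rw [show (tilde.isoTop (R := CommRingCat.of A) N).toLinearEquiv (a • n) =
    a • (tilde.isoTop (R := CommRingCat.of A) N).toLinearEquiv n from map_smul _ a n]
  refine (congrArg (α.app ⊤) ?_).trans
    (Scheme.Modules.Hom.app_smul α ((Scheme.ΓSpecIso (CommRingCat.of A)).inv a) _)
  refine (Scheme.Modules.smul_Spec_def (R := CommRingCat.of A) a _).trans ?_
  rfl

/-- Compatible elements glue, for any module. -/
theorem exists_glue_module {A : Type u} [CommRing A] (I : Ideal A) [HenselianRing A I] {n : ℕ} (f : Fin n → A)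
    (hcov : ∀ p : PrimeSpectrum A, p ∈ PrimeSpectrum.zeroLocus (I : Set A) → ∃ k, f k ∉ p.asIdeal)
    (S : Fin n → Type u) [∀ k, CommRing (S k)] [∀ k, Algebra A (S k)]
    (hS : ∀ k, HensSch.IsHensAway A I (f k) (S k) (algebraMap A (S k)))
    (S2 : Fin n → Fin n → Type u) [∀ k l, CommRing (S2 k l)] [∀ k l, Algebra A (S2 k l)]
    (hS2 : ∀ k l, HensSch.IsHensAway A I (f k * f l) (S2 k l) (algebraMap A (S2 k l)))
    (r1 : ∀ k l, S k →ₐ[A] S2 k l) (r2 : ∀ k l, S l →ₐ[A] S2 k l)
    (N : Type u) [AddCommGroup N] [Module A N] (x : ∀ k, S k ⊗[A] N)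
    (hx : ∀ k l, (r1 k l).toLinearMap.rTensor N (x k) = (r2 k l).toLinearMap.rTensor N (x l)) :
    ∃ m : N, ∀ k, (1 : S k) ⊗ₜ[A] m = x k := by
  let F := tilde (R := CommRingCat.of A) (ModuleCat.of A N)
  obtain ⟨e⟩ := exists_equiv_Nmod (ModuleCat.of A N)
  haveI : Coh.IsQCoh F := (inferInstanceAs F.IsQuasicoherent : _)
  obtain ⟨m, hm⟩ := exists_glue_tensor I F f hcov S hS S2 hS2 r1 r2 (fun k => e.toLinearMap.lTensor (S k) (x k))
    (fun k l => by
      rw [← LinearMap.comp_apply, ← LinearMap.comp_apply (f := (r2 k l).toLinearMap.rTensor _),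
        LinearMap.rTensor_comp_lTensor, LinearMap.rTensor_comp_lTensor, ← LinearMap.lTensor_comp_rTensor,
        ← LinearMap.lTensor_comp_rTensor, LinearMap.comp_apply, LinearMap.comp_apply, hx k l])
  refine ⟨e.symm m, fun k => ?_⟩
  apply (e.lTensor (S k)).injective
  rw [show (e.lTensor (S k)) (x k) = e.toLinearMap.lTensor (S k) (x k) from rfl, ← hm k]
  simp

variable {A : Type u} [CommRing A] {X : LocallyRingedSpace.{u}} (π : X ⟶ HensSch.specLRS A)
  (M : ModuleCat.{u} A) {I : Ideal A}

theorem isCompact_dOpen (hX : HensSch.IsSph A I X π) (f : A) : IsCompact (HensSch.dOpen π f : Set X) := by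
  rw [hX.1.isCompact_iff]
  have : π.base '' (HensSch.dOpen π f : Set X) =
      (PrimeSpectrum.basicOpen f : Set (PrimeSpectrum A)) ∩ PrimeSpectrum.zeroLocus (I : Set A) := by
    rw [← hX.2.1]
    exact Set.image_preimage_eq_inter_range (f := π.base) (t := (PrimeSpectrum.basicOpen f : Set (PrimeSpectrum A)))
  rw [this]
  exact (PrimeSpectrum.isCompact_basicOpen f).inter_right (PrimeSpectrum.isClosed_zeroLocus _)

theorem mu_surjective (hX : HensSch.IsSph A I X π) (f : A) : Function.Surjective (mu π M f) := by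
  classical
  intro t
  -- local preimages
  have loc : ∀ x : {x // x ∈ HensSch.dOpen π f}, ∃ g : A, x.1 ∈ HensSch.dOpen π g ∧ ∃ z : Sx π (f * g) ⊗[A] M,
      mu π M (f * g) z = resT π M (PrimeSpectrum.basicOpen_mul_le_left f g) t := by
    rintro ⟨x, hx⟩
    letI := algOx π x
    obtain ⟨Φ, hΦ, hΦg⟩ := stalk_iso π M x
    obtain ⟨w, hw⟩ := hΦ.2 (germT π M f x hx t)
    obtain ⟨s, rfl⟩ := TensorProduct.exists_finset w
    choose U hU y hy using fun i : s => TopCat.Presheaf.exists_germ_eq X.presheaf i.1.1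
    obtain ⟨g₀, hg₀, hg₀'⟩ := exists_dOpen_le hX
      (U := ⟨⋂ i, SetLike.coe (U i), isOpen_iInter_of_finite fun i => (U i).2⟩) (x := x) (Set.mem_iInter.2 hU)
    have hle : PrimeSpectrum.basicOpen (f * g₀) ≤ PrimeSpectrum.basicOpen f := PrimeSpectrum.basicOpen_mul_le_left f g₀
    have hx₀ := mem_dOpen_mul π hx hg₀
    let z₀ : Sx π (f * g₀) ⊗[A] M := ∑ i : s, (show Sx π (f * g₀) from X.presheaf.map
      (homOfLE (show HensSch.dOpen π (f * g₀) ≤ U i from fun v hv =>
        Set.mem_iInter.1 (hg₀' (PrimeSpectrum.basicOpen_mul_le_right f g₀ hv)) i)).op (y i)) ⊗ₜ i.1.2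
    have hgerm : germT π M (f * g₀) x hx₀ (mu π M (f * g₀) z₀) =
        germT π M (f * g₀) x hx₀ (resT π M hle t) := by
      rw [hΦg, germT_resT, ← hw, map_sum (LinearMap.rTensor _ _), ← Finset.sum_coe_sort s]
      refine congrArg Φ (Finset.sum_congr rfl fun i _ => ?_)
      rw [LinearMap.rTensor_tmul]
      congr 1
      exact (TopCat.Presheaf.germ_res_apply X.presheaf _ x hx₀ (y i)).trans (hy i)
    obtain ⟨W, hxW, u₁, u₂, he⟩ := TopCat.Presheaf.germ_eq (pre X.sheaf (TM π M)).presheaf x hx₀ hx₀
      (mu π M (f * g₀) z₀) (resT π M hle t) hgerm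
    obtain ⟨g₁, hg₁, hg₁'⟩ := exists_dOpen_le hX hxW
    have hb1 : PrimeSpectrum.basicOpen (f * (g₀ * g₁)) ≤ PrimeSpectrum.basicOpen (f * g₀) := by
      rw [← mul_assoc]; exact PrimeSpectrum.basicOpen_mul_le_left _ _
    have hlW : HensSch.dOpen π (f * (g₀ * g₁)) ≤ W := fun v hv =>
      hg₁' (PrimeSpectrum.basicOpen_mul_le_right (f * g₀) g₁ (by rw [mul_assoc]; exact hv))
    refine ⟨g₀ * g₁, mem_dOpen_mul π hg₀ hg₁, (resA π hb1).toLinearMap.rTensor M z₀, ?_⟩
    rw [← resT_mu]
    have key : resT π M hb1 (mu π M (f * g₀) z₀) = resT π M hb1 (resT π M hle t) := by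
      have e := congrArg ((pre X.sheaf (TM π M)).presheaf.map (homOfLE hlW).op) he
      rw [← CategoryTheory.ConcreteCategory.comp_apply, ← CategoryTheory.ConcreteCategory.comp_apply,
        ← Functor.map_comp, ← Functor.map_comp] at e
      exact e
    rw [key]
    show (pre X.sheaf (TM π M)).presheaf.map _ ((pre X.sheaf (TM π M)).presheaf.map _ t) =
      (pre X.sheaf (TM π M)).presheaf.map _ t
    rw [← CategoryTheory.ConcreteCategory.comp_apply, ← Functor.map_comp]
    rfl
  choose g hg z hz using loc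
  obtain ⟨T, hT⟩ := (isCompact_dOpen π hX f).elim_finite_subcover
    (fun x : {x // x ∈ HensSch.dOpen π f} => (HensSch.dOpen π (g x) : Set X)) (fun x => (HensSch.dOpen π (g x)).2)
    fun y hy => Set.mem_iUnion.2 ⟨⟨y, hy⟩, hg ⟨y, hy⟩⟩
  let ix : Fin T.card → {x // x ∈ HensSch.dOpen π f} := fun k => (T.equivFin.symm k).1
  -- the Henselian pair of sections over `D(f)`
  let S := Sx π f
  haveI : HenselianRing S (I.map (algebraMap A S)) := (hX.2.2 f).2.1
  let G : Fin T.card → A := fun k => g (ix k)
  have hle : ∀ g : A, PrimeSpectrum.basicOpen (f * g) ≤ PrimeSpectrum.basicOpen f := fun g =>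
    PrimeSpectrum.basicOpen_mul_le_left f g
  letI algK : ∀ k, Algebra S (Sx π (f * G k)) := fun k => (resA π (hle _)).toRingHom.toAlgebra
  haveI : ∀ k, IsScalarTower A S (Sx π (f * G k)) := fun k =>
    .of_algebraMap_eq' (resA π (hle (G k))).comp_algebraMap.symm
  letI algKL : ∀ k l, Algebra S (Sx π (f * (G k * G l))) := fun k l => (resA π (hle _)).toRingHom.toAlgebra
  haveI : ∀ k l, IsScalarTower A S (Sx π (f * (G k * G l))) := fun k l =>
    .of_algebraMap_eq' (resA π (hle (G k * G l))).comp_algebraMap.symm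
  have hl1 : ∀ k l, PrimeSpectrum.basicOpen (f * (G k * G l)) ≤ PrimeSpectrum.basicOpen (f * G k) := fun k l => by
    rw [← mul_assoc]; exact PrimeSpectrum.basicOpen_mul_le_left _ _
  have hl2 : ∀ k l, PrimeSpectrum.basicOpen (f * (G k * G l)) ≤ PrimeSpectrum.basicOpen (f * G l) := fun k l => by
    rw [mul_comm (G k), ← mul_assoc]; exact PrimeSpectrum.basicOpen_mul_le_left _ _
  let r1 : ∀ k l, Sx π (f * G k) →ₐ[S] Sx π (f * (G k * G l)) := fun k l =>
    { resA π (hl1 k l) with commutes' := fun s => AlgHom.congr_fun (resA_resA π (hle (G k)) (hl1 k l)) s }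
  let r2 : ∀ k l, Sx π (f * G l) →ₐ[S] Sx π (f * (G k * G l)) := fun k l =>
    { resA π (hl2 k l) with commutes' := fun s => AlgHom.congr_fun (resA_resA π (hle (G l)) (hl2 k l)) s }
  let cb := fun (k : Fin T.card) =>
    TensorProduct.AlgebraTensorModule.cancelBaseChange A S (Sx π (f * G k)) (Sx π (f * G k)) M
  let cb2 := fun (k l : Fin T.card) =>
    TensorProduct.AlgebraTensorModule.cancelBaseChange A S (Sx π (f * (G k * G l))) (Sx π (f * (G k * G l))) M
  have hc1 : ∀ k l (w : Sx π (f * G k) ⊗[S] (S ⊗[A] M)), cb2 k l ((r1 k l).toLinearMap.rTensor _ w) =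
      (resA π (hl1 k l)).toLinearMap.rTensor M (cb k w) := fun k l w => by
    induction w using TensorProduct.induction_on with
    | zero => simp
    | add a b ha hb => simp only [map_add, ha, hb]
    | tmul a b =>
      induction b using TensorProduct.induction_on with
      | zero => simp
      | add b b' hb hb' => simp only [TensorProduct.tmul_add, map_add, hb, hb']
      | tmul s m =>
        simp only [cb, cb2, LinearMap.rTensor_tmul, TensorProduct.AlgebraTensorModule.cancelBaseChange_tmul]
        exact congrArg (· ⊗ₜ[A] m) (map_smul (r1 k l).toLinearMap s a).symm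
  have hc2 : ∀ k l (w : Sx π (f * G l) ⊗[S] (S ⊗[A] M)), cb2 k l ((r2 k l).toLinearMap.rTensor _ w) =
      (resA π (hl2 k l)).toLinearMap.rTensor M (cb l w) := fun k l w => by
    induction w using TensorProduct.induction_on with
    | zero => simp
    | add a b ha hb => simp only [map_add, ha, hb]
    | tmul a b =>
      induction b using TensorProduct.induction_on with
      | zero => simp
      | add b b' hb hb' => simp only [TensorProduct.tmul_add, map_add, hb, hb']
      | tmul s m =>
        simp only [cb, cb2, LinearMap.rTensor_tmul, TensorProduct.AlgebraTensorModule.cancelBaseChange_tmul]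
        exact congrArg (· ⊗ₜ[A] m) (map_smul (r2 k l).toLinearMap s a).symm
  have hS2 : ∀ k l, HensSch.IsHensAway S (I.map (algebraMap A S)) (algebraMap A S (G k) * algebraMap A S (G l))
      (Sx π (f * (G k * G l))) (algebraMap S (Sx π (f * (G k * G l)))) := fun k l => by
    rw [← map_mul]; exact isHensAway_res π hX f (G k * G l)
  obtain ⟨n, hn⟩ := exists_glue_module (I.map (algebraMap A S)) (fun k => algebraMap A S (G k))
    (fun q hq => by
      obtain ⟨x, hx, hxq, -⟩ := exists_point π hX f q.asIdeal hq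
      obtain ⟨i, hi, hxi⟩ := Set.mem_iUnion₂.1 (hT hx)
      refine ⟨T.equivFin ⟨i, hi⟩, ?_⟩
      have hxi' : π.base x ∈ PrimeSpectrum.basicOpen (g i) := hxi
      rw [hxq] at hxi'
      show algebraMap A S (G (T.equivFin ⟨i, hi⟩)) ∉ q.asIdeal
      rw [show G (T.equivFin ⟨i, hi⟩) = g i by simp [G, ix]]
      exact hxi')
    (fun k => Sx π (f * G k)) (fun k => isHensAway_res π hX f (G k))
    (fun k l => Sx π (f * (G k * G l))) hS2 r1 r2 (S ⊗[A] M)
    (fun k => (cb k).symm (z (ix k))) (fun k l => by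
      apply (cb2 k l).injective
      rw [hc1, hc2, LinearEquiv.apply_symm_apply, LinearEquiv.apply_symm_apply]
      apply mu_injective π M hX
      rw [← resT_mu, ← resT_mu]
      show resT π M (hl1 k l) (mu π M (f * g (ix k)) (z (ix k))) =
        resT π M (hl2 k l) (mu π M (f * g (ix l)) (z (ix l)))
      rw [hz, hz]
      show (pre X.sheaf (TM π M)).presheaf.map _ ((pre X.sheaf (TM π M)).presheaf.map _ t) =
        (pre X.sheaf (TM π M)).presheaf.map _ ((pre X.sheaf (TM π M)).presheaf.map _ t)
      rw [← CategoryTheory.ConcreteCategory.comp_apply, ← CategoryTheory.ConcreteCategory.comp_apply,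
        ← Functor.map_comp, ← Functor.map_comp]
      rfl)
  refine ⟨n, section_ext (TM π M) _ _ fun x hx => ?_⟩
  obtain ⟨i, hi, hxi⟩ := Set.mem_iUnion₂.1 (hT hx)
  let k := T.equivFin ⟨i, hi⟩
  have hik : ix k = i := by simp [k, ix]
  have hxk : x ∈ HensSch.dOpen π (f * G k) := mem_dOpen_mul π hx (show x ∈ HensSch.dOpen π (g (ix k)) by rw [hik]; exact hxi)
  have hres : (resA π (hle (G k))).toLinearMap.rTensor M n = z (ix k) := by
    have h := congrArg (cb k) (hn k)
    rw [LinearEquiv.apply_symm_apply] at h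
    rw [← h]
    clear hn h
    induction n using TensorProduct.induction_on with
    | zero => simp
    | add a b ha hb => simp only [map_add, TensorProduct.tmul_add, ha, hb]
    | tmul s m =>
      rw [LinearMap.rTensor_tmul, TensorProduct.AlgebraTensorModule.cancelBaseChange_tmul, Algebra.smul_def, mul_one]
      rfl
  show germT π M f x hx (mu π M f n) = germT π M f x hx t
  rw [← germT_resT π M (hle (G k)) x hxk, ← germT_resT π M (hle (G k)) x hxk t, resT_mu, hres]
  exact congrArg _ (hz (ix k))

theorem mu_bijective (hX : HensSch.IsSph A I X π) (f : A) : Function.Bijective (mu π M f) :=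
  ⟨mu_injective π M hX f, mu_surjective π M hX f⟩

end Groth.Agent.HensSchLib
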