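import Groth.Agent.HensSchLib.Glue
import Groth.Agent.HensSchLib.Faithful

/-!
# Sections of `M~` on an affine Henselian spectrum

On the distinguished opens the sections of `M~` are `S_f ⊗ M`.
-/

set_option autoImplicit false
set_option linter.style.haveILetI false
set_option linter.unusedSectionVars false
set_option backward.isDefEq.respectTransparency false
set_option backward.isDefEq.respectTransparency.types false
set_option maxHeartbeats 800000

universe u

open CategoryTheory CategoryTheory.Limits AlgebraicGeometry Opposite TopologicalSpace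
open Groth.Agent.RSpLib Groth.Agent.ModTensor
open scoped TensorProduct

noncomputable section

namespace Groth.Agent.HensSchLib

variable {A : Type u} [CommRing A] {X : LocallyRingedSpace.{u}} (π : X ⟶ HensSch.specLRS A)
  (M : ModuleCat.{u} A)

/-- The sections of the structure sheaf over a distinguished open. -/
def Sx (f : A) : Type u := X.presheaf.obj (op (HensSch.dOpen π f))

instance (f : A) : CommRing (Sx π f) := inferInstanceAs (CommRing (X.presheaf.obj (op (HensSch.dOpen π f))))

instance (f : A) : Algebra A (Sx π f) := (HensSch.secMap π (PrimeSpectrum.basicOpen f)).toAlgebra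

/-- The inverse image of `M~`. -/
abbrev TM : ModSite.Mod X.sheaf := HensSch.sphTilde π M

/-- The sections of `M~` over a distinguished open. -/
def Tx (f : A) : Type u := (pre X.sheaf (TM π M)).obj (op (HensSch.dOpen π f))

instance (f : A) : AddCommGroup (Tx π M f) :=
  inferInstanceAs (AddCommGroup ((pre X.sheaf (TM π M)).obj (op (HensSch.dOpen π f)) : Type u))

instance (f : A) : Module (Sx π f) (Tx π M f) :=
  inferInstanceAs (Module (X.sheaf.obj.obj (op (HensSch.dOpen π f)))
    ((pre X.sheaf (TM π M)).obj (op (HensSch.dOpen π f)) : Type u))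

instance (f : A) : Module A (Tx π M f) := Module.compHom _ (algebraMap A (Sx π f))

instance (f : A) : IsScalarTower A (Sx π f) (Tx π M f) := .of_algebraMap_smul fun _ _ => rfl

theorem secMap_eq (U : Opens (PrimeSpectrum A)) (a : A) :
    HensSch.secMap π U a = π.c.app (op U) ((Spec (CommRingCat.of A)).presheaf.map (homOfLE (le_top : U ≤ ⊤)).op
      ((Scheme.ΓSpecIso (CommRingCat.of A)).inv a)) :=
  (congr($(π.c.naturality (homOfLE (le_top : U ≤ ⊤)).op) ((Scheme.ΓSpecIso (CommRingCat.of A)).inv a))).symm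

/-- The canonical map to the sections over a distinguished open. -/
def theta (f : A) : M →ₗ[A] Tx π M f where
  toFun m := unitS (O := X.sheaf) (O' := (HensSch.specLRS A).sheaf) π.base ⟨π.c⟩ (tilde (R := CommRingCat.of A) M)
    (U := PrimeSpectrum.basicOpen f) ((tilde.toOpen (R := CommRingCat.of A) M (PrimeSpectrum.basicOpen f)).hom m)
  map_add' a b := by
    rw [map_add]
    exact map_add (lin ((preFunctor _).map ((rm (O := X.sheaf) (O' := (HensSch.specLRS A).sheaf) π.base ⟨π.c⟩).adj.unit.app
      (tilde M))) (op (PrimeSpectrum.basicOpen f))) _ _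
  map_smul' a m := by
    rw [map_smul, RingHom.id_apply]
    refine (map_smul (lin ((preFunctor _).map ((rm (O := X.sheaf) (O' := (HensSch.specLRS A).sheaf) π.base ⟨π.c⟩).adj.unit.app
      (tilde M))) (op (PrimeSpectrum.basicOpen f)))
      ((Spec (CommRingCat.of A)).presheaf.map (homOfLE (le_top : PrimeSpectrum.basicOpen f ≤ ⊤)).op
        ((Scheme.ΓSpecIso (CommRingCat.of A)).inv a)) _).trans ?_
    rw [← algebraMap_smul (Sx π f) a, show algebraMap A (Sx π f) a = HensSch.secMap π (PrimeSpectrum.basicOpen f) a from rfl, secMap_eq]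
    rfl

/-- The comparison map. -/
def mu (f : A) : Sx π f ⊗[A] M →ₗ[Sx π f] Tx π M f := LinearMap.liftBaseChange (Sx π f) (theta π M f)

theorem mu_tmul (f : A) (s : Sx π f) (m : M) : mu π M f (s ⊗ₜ[A] m) = s • theta π M f m :=
  LinearMap.liftBaseChange_tmul _ _ _ _

/-- The stalk of the structure sheaf. -/
def Ox (x : X) : Type u := X.presheaf.stalk x

instance (x : X) : CommRing (Ox x) := inferInstanceAs (CommRing (X.presheaf.stalk x))

instance (x : X) : IsLocalRing (Ox x) := inferInstanceAs (IsLocalRing (X.presheaf.stalk x))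

/-- The algebra structure of a stalk. -/
@[implicit_reducible] def algOx (x : X) : Algebra A (Ox x) := (toStk π x).toAlgebra

/-- The germ of a section of the structure sheaf. -/
def germA (f : A) (x : X) (hx : x ∈ HensSch.dOpen π f) :
    letI := algOx π x
    Sx π f →ₐ[A] Ox x :=
  letI := algOx π x
  { (X.presheaf.germ (HensSch.dOpen π f) x hx).hom with commutes' := fun a => germ_secMap π _ x hx a }

theorem dOpen_mul_le_left (f g : A) : HensSch.dOpen π (f * g) ≤ HensSch.dOpen π f := fun _ hy =>
  PrimeSpectrum.basicOpen_mul_le_left f g hy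

theorem mem_dOpen_mul {f g : A} {x : X} (hf : x ∈ HensSch.dOpen π f) (hg : x ∈ HensSch.dOpen π g) :
    x ∈ HensSch.dOpen π (f * g) := by
  show π.base x ∈ PrimeSpectrum.basicOpen (f * g)
  rw [PrimeSpectrum.basicOpen_mul]
  exact ⟨hf, hg⟩

/-- Restriction of sections of the structure sheaf. -/
def resA {f g : A} (h : PrimeSpectrum.basicOpen g ≤ PrimeSpectrum.basicOpen f) : Sx π f →ₐ[A] Sx π g :=
  { (X.presheaf.map ((Opens.map π.base).map (homOfLE h)).op).hom with
    commutes' := fun a => by
      show X.presheaf.map _ (X.presheaf.map _ _) = X.presheaf.map _ _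
      rw [← CategoryTheory.ConcreteCategory.comp_apply, ← Functor.map_comp]
      rfl }

/-- Restriction of sections of `M~`. -/
def resT {f g : A} (h : PrimeSpectrum.basicOpen g ≤ PrimeSpectrum.basicOpen f) : Tx π M f →+ Tx π M g :=
  res (pre X.sheaf (TM π M)) ((Opens.map π.base).map (homOfLE h)).op

theorem resA_resA {f g k : A} (h : PrimeSpectrum.basicOpen g ≤ PrimeSpectrum.basicOpen f)
    (h' : PrimeSpectrum.basicOpen k ≤ PrimeSpectrum.basicOpen g) :
    (resA π h').comp (resA π h) = resA π (h'.trans h) := AlgHom.ext fun s => by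
  show X.presheaf.map _ (X.presheaf.map _ s) = X.presheaf.map _ s
  rw [← CategoryTheory.ConcreteCategory.comp_apply, ← Functor.map_comp]
  rfl

theorem resT_smul {f g : A} (h : PrimeSpectrum.basicOpen g ≤ PrimeSpectrum.basicOpen f) (s : Sx π f)
    (t : Tx π M f) : resT π M h (s • t) = resA π h s • resT π M h t :=
  PresheafOfModules.map_smul (pre X.sheaf (TM π M)) ((Opens.map π.base).map (homOfLE h)).op s t

theorem resT_theta {f g : A} (h : PrimeSpectrum.basicOpen g ≤ PrimeSpectrum.basicOpen f) (m : M) :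
    resT π M h (theta π M f m) = theta π M g m :=
  (lin_res ((preFunctor _).map ((rm (O := X.sheaf) (O' := (HensSch.specLRS A).sheaf) π.base ⟨π.c⟩).adj.unit.app
    (tilde M))) (homOfLE h).op _).symm.trans rfl

theorem resT_mu {f g : A} (h : PrimeSpectrum.basicOpen g ≤ PrimeSpectrum.basicOpen f) (z : Sx π f ⊗[A] M) :
    resT π M h (mu π M f z) = mu π M g ((resA π h).toLinearMap.rTensor M z) := by
  induction z using TensorProduct.induction_on with
  | zero => simp
  | tmul s m => rw [mu_tmul, resT_smul, resT_theta, LinearMap.rTensor_tmul, mu_tmul]; rfl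
  | add a b ha hb => simp only [map_add, ha, hb]

variable (I : Ideal A)

/-- The stalk of `M~`. -/
def Stk (x : X) : Type u := stk (TM π M) x

instance (x : X) : AddCommGroup (Stk π M x) := inferInstanceAs (AddCommGroup (stk (TM π M) x))

instance (x : X) : Module (Ox x) (Stk π M x) := inferInstanceAs (Module (rstk X.sheaf x) (stk (TM π M) x))

/-- The germ of a section of `M~`. -/
def germT (f : A) (x : X) (hx : x ∈ HensSch.dOpen π f) : Tx π M f →+ Stk π M x :=
  Groth.Agent.RSpLib.germ (TM π M) hx

theorem germT_smul (f : A) (x : X) (hx : x ∈ HensSch.dOpen π f) (s : Sx π f) (t : Tx π M f) :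
    germT π M f x hx (s • t) =
      letI := algOx π x
      germA π f x hx s • germT π M f x hx t :=
  germ_smul' (TM π M) hx s t

theorem germT_resT {f g : A} (h : PrimeSpectrum.basicOpen g ≤ PrimeSpectrum.basicOpen f) (x : X)
    (hx : x ∈ HensSch.dOpen π g) (t : Tx π M f) :
    germT π M g x hx (resT π M h t) = germT π M f x (h hx) t :=
  germ_res (TM π M) ((Opens.map π.base).map (homOfLE h)) hx t

theorem stalk_iso (x : X) :
    letI := algOx π x
    ∃ Φ : Ox x ⊗[A] M →+ Stk π M x, Function.Bijective Φ ∧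
      ∀ (f : A) (hx : x ∈ HensSch.dOpen π f) (z : Sx π f ⊗[A] M),
        germT π M f x hx (mu π M f z) = Φ ((germA π f x hx).toLinearMap.rTensor M z) := by
  letI := algOx π x
  let R := rstk (HensSch.specLRS A).sheaf (π.base x)
  letI : Algebra A R := (StructureSheaf.toStalk A (π.base x)).hom.toAlgebra
  haveI : IsLocalization.AtPrime R (π.base x).asIdeal := StructureSheaf.IsLocalization.to_stalk A (π.base x)
  let c : (HensSch.specLRS A).sheaf ⟶ ((Opens.map π.base).sheafPushforwardContinuous CommRingCat.{u}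
    (Opens.grothendieckTopology _) (Opens.grothendieckTopology _)).obj X.sheaf := ⟨π.c⟩
  let N := stk (O := (HensSch.specLRS A).sheaf) (tilde M) (π.base x)
  let P := stk ((rm (O := X.sheaf) (O' := (HensSch.specLRS A).sheaf) π.base c).pull.obj (tilde (R := CommRingCat.of A) M)) x
  letI : Algebra R (rstk X.sheaf x) := (rstkMap π.base c x).hom.toAlgebra
  letI : Module R P := Module.compHom P (rstkMap π.base c x).hom
  haveI : IsScalarTower R (rstk X.sheaf x) P := .of_algebraMap_smul fun _ _ => rfl
  letI : Algebra A (rstk X.sheaf x) := (toStk π x).toAlgebra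
  haveI : IsScalarTower A R (rstk X.sheaf x) := .of_algebraMap_eq fun _ => rfl
  letI : Module A P := Module.compHom P (toStk π x)
  haveI : IsScalarTower A (rstk X.sheaf x) P := .of_algebraMap_smul fun _ _ => rfl
  haveI : IsScalarTower A R P := .of_algebraMap_smul fun _ _ => rfl
  letI : Module A N := (inferInstanceAs
    (Module A (TopCat.Presheaf.stalk (C := AddCommGrpCat.{u}) (moduleStructurePresheaf A M).presheaf (π.base x : PrimeSpectrum.Top A))) : _)
  haveI : IsScalarTower A R N := .of_algebraMap_smul fun a n => rfl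
  let g : M →ₗ[A] N := StructureSheaf.toStalkₗ A M (π.base x : PrimeSpectrum.Top A)
  haveI : IsLocalizedModule (π.base x).asIdeal.primeCompl g :=
    (inferInstanceAs (IsLocalizedModule (π.base x).asIdeal.primeCompl
      (StructureSheaf.toStalkₗ A M (π.base x : PrimeSpectrum.Top A))) : _)
  have h1 : IsBaseChange R g := IsLocalizedModule.isBaseChange (π.base x).asIdeal.primeCompl R g
  have h3 := h1.comp (isBaseChange_pullStkL π.base c (tilde M) x)
  refine ⟨h3.equiv.toAddMonoidHom, h3.equiv.bijective, fun f hx z => ?_⟩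
  induction z using TensorProduct.induction_on with
  | zero => simp
  | tmul s m =>
    rw [mu_tmul, germT_smul, LinearMap.rTensor_tmul]
    refine Eq.trans (congrArg _ ?_) (h3.equiv_tmul _ _).symm
    exact (pullStk_germ (O := X.sheaf) (O' := (HensSch.specLRS A).sheaf) π.base c (tilde (R := CommRingCat.of A) M)
      (U := PrimeSpectrum.basicOpen f) (x := x) hx _).symm.trans (congrArg _ (TopCat.Presheaf.germ_res_apply
        (moduleStructurePresheaf A M).presheaf (homOfLE (le_top : PrimeSpectrum.basicOpen f ≤ ⊤)) (π.base x : PrimeSpectrum.Top A) hx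
        (StructureSheaf.toOpenₗ A M ⊤ m)))
  | add a b ha hb => simp only [map_add, ha, hb]

variable {I}

theorem exists_res_zero_of_germ_zero (hX : HensSch.IsSph A I X π) {f : A} {x : X}
    (hx : x ∈ HensSch.dOpen π f) (z : Sx π f ⊗[A] M)
    (hz : letI := algOx π x; (germA π f x hx).toLinearMap.rTensor M z = 0) :
    ∃ g : A, x ∈ HensSch.dOpen π g ∧
      ∃ h : PrimeSpectrum.basicOpen g ≤ PrimeSpectrum.basicOpen f, (resA π h).toLinearMap.rTensor M z = 0 := by
  classical
  letI := algOx π x
  haveI : Module.Flat A (Ox x) := RingHom.flat_algebraMap_iff.1 (flat_toStk hX x)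
  obtain ⟨s, rfl⟩ := TensorProduct.exists_finset z
  have hz' : ∑ i : s, i.1.2 ⊗ₜ[A] germA π f x hx i.1.1 = (0 : M ⊗[A] Ox x) := by
    have h := congrArg (TensorProduct.comm A (Ox x) M) hz
    rw [map_sum, map_sum, map_zero, ← Finset.sum_coe_sort s] at h
    simpa using h
  obtain ⟨k, a, y, hay, ham⟩ := TensorProduct.vanishesTrivially_of_sum_tmul_eq_zero_of_rTensor_injective A
    (m := fun i : s => i.1.2) (n := fun i : s => germA π f x hx i.1.1)
    (Module.Flat.rTensor_preserves_injective_linearMap _ Subtype.val_injective) hz'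
  choose U hU y' hy' using fun j => TopCat.Presheaf.exists_germ_eq X.presheaf (y j)
  obtain ⟨g₀, hg₀, hg₀'⟩ := exists_dOpen_le hX
    (U := ⟨⋂ j, SetLike.coe (U j), isOpen_iInter_of_finite fun j => (U j).2⟩) (x := x) (Set.mem_iInter.2 hU)
  have hle1 : PrimeSpectrum.basicOpen (f * g₀) ≤ PrimeSpectrum.basicOpen f := PrimeSpectrum.basicOpen_mul_le_left f g₀
  have hx1 := mem_dOpen_mul π hx hg₀
  have hleU : ∀ j, HensSch.dOpen π (f * g₀) ≤ U j := fun j y hy =>
    Set.mem_iInter.1 (hg₀' (PrimeSpectrum.basicOpen_mul_le_right f g₀ hy)) j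
  let Y : Fin k → Sx π (f * g₀) := fun j => X.presheaf.map (homOfLE (hleU j)).op (y' j)
  let rel : s → Sx π (f * g₀) := fun i => resA π hle1 i.1.1 - ∑ j, a i j • Y j
  have hrel : ∀ i, germA π (f * g₀) x hx1 (rel i) = 0 := fun i => by
    rw [map_sub, map_sum, sub_eq_zero]
    refine Eq.trans ?_ ((hay i).trans (Finset.sum_congr rfl fun j _ => ?_))
    · exact TopCat.Presheaf.germ_res_apply X.presheaf _ x hx1 i.1.1
    · rw [map_smul]
      congr 1
      rw [← hy' j]
      exact (TopCat.Presheaf.germ_res_apply X.presheaf _ x hx1 (y' j)).symm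
  choose V hV u₁ u₂ hu using fun i =>
    TopCat.Presheaf.germ_eq X.presheaf x hx1 hx1 (rel i) 0 ((hrel i).trans (map_zero _).symm)
  obtain ⟨g₁, hg₁, hg₁'⟩ := exists_dOpen_le hX
    (U := ⟨⋂ i, SetLike.coe (V i), isOpen_iInter_of_finite fun i => (V i).2⟩) (x := x) (Set.mem_iInter.2 hV)
  have hle2 : PrimeSpectrum.basicOpen (f * g₀ * g₁) ≤ PrimeSpectrum.basicOpen (f * g₀) :=
    PrimeSpectrum.basicOpen_mul_le_left _ g₁
  refine ⟨f * g₀ * g₁, mem_dOpen_mul π hx1 hg₁, hle2.trans hle1, ?_⟩
  have hzero : ∀ i, resA π hle2 (rel i) = 0 := fun i => by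
    have hleV : HensSch.dOpen π (f * g₀ * g₁) ≤ V i := fun y hy =>
      Set.mem_iInter.1 (hg₁' (PrimeSpectrum.basicOpen_mul_le_right _ g₁ hy)) i
    have e : X.presheaf.map (homOfLE hleV).op (X.presheaf.map (u₁ i).op (rel i)) =
        X.presheaf.map (homOfLE hleV).op (X.presheaf.map (u₂ i).op 0) := congrArg _ (hu i)
    rw [map_zero, map_zero, ← CategoryTheory.ConcreteCategory.comp_apply, ← Functor.map_comp] at e
    exact e
  rw [← resA_resA π hle1 hle2, map_sum, ← Finset.sum_coe_sort s]
  have key : ∀ i : s, resA π hle2 (resA π hle1 i.1.1) = ∑ j, a i j • resA π hle2 (Y j) := fun i => by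
    have h := hzero i
    rw [map_sub, map_sum, sub_eq_zero] at h
    simpa only [map_smul] using h
  have : ∀ i : s, ((resA π hle2).comp (resA π hle1)).toLinearMap.rTensor M (i.1.1 ⊗ₜ[A] i.1.2) =
      ∑ j, resA π hle2 (Y j) ⊗ₜ[A] (a i j • i.1.2) := fun i => by
    rw [LinearMap.rTensor_tmul]
    show resA π hle2 (resA π hle1 i.1.1) ⊗ₜ[A] _ = _
    rw [key, TensorProduct.sum_tmul]
    exact Finset.sum_congr rfl fun j _ => TensorProduct.smul_tmul _ _ _
  rw [Finset.sum_congr rfl fun i _ => this i, Finset.sum_comm]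
  refine Finset.sum_eq_zero fun j _ => ?_
  rw [← TensorProduct.tmul_sum, ham, TensorProduct.tmul_zero]

theorem isHensAway_res (hX : HensSch.IsSph A I X π) (f g : A) :
    HensSch.IsHensAway (Sx π f) (I.map (algebraMap A (Sx π f))) (algebraMap A (Sx π f) g) (Sx π (f * g))
      (resA π (PrimeSpectrum.basicOpen_mul_le_left f g)).toRingHom := by
  set r := resA π (PrimeSpectrum.basicOpen_mul_le_left f g)
  obtain ⟨hu, hh, huniv⟩ := hX.2.2 (f * g)
  have hrc : r.toRingHom.comp (algebraMap A (Sx π f)) = algebraMap A (Sx π (f * g)) := r.comp_algebraMap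
  refine ⟨?_, ?_, fun C _ J k hC hJ hk => ?_⟩
  · show IsUnit (r (algebraMap A _ g))
    rw [r.commutes]
    exact isUnit_of_mul_isUnit_right (by rw [← map_mul]; exact hu)
  · rw [Ideal.map_map, hrc]
    exact hh
  · have hJ' : I.map (k.comp (algebraMap A (Sx π f))) ≤ J := by rwa [← Ideal.map_map]
    have hk' : IsUnit (k.comp (algebraMap A (Sx π f)) (f * g)) := by
      rw [map_mul]
      exact ((hX.2.2 f).1.map k).mul hk
    obtain ⟨h, hh1, hh2⟩ := huniv C J (k.comp (algebraMap A (Sx π f))) hC hJ' hk'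
    refine ⟨h, ?_, fun h' hh' => hh2 h' ?_⟩
    · have hkf : IsUnit (k.comp (algebraMap A (Sx π f)) f) := (hX.2.2 f).1.map k
      refine ((hX.2.2 f).2.2 C J (k.comp (algebraMap A (Sx π f))) hC hJ' hkf).unique ?_ rfl
      rw [RingHom.comp_assoc]
      exact (congrArg h.comp hrc).trans hh1
    · show h'.comp (algebraMap A (Sx π (f * g))) = _
      rw [← hrc, ← RingHom.comp_assoc, hh']

theorem exists_point (hX : HensSch.IsSph A I X π) (f : A) (Q : Ideal (Sx π f)) [Q.IsPrime]
    (hQ : I.map (algebraMap A (Sx π f)) ≤ Q) :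
    ∃ x, ∃ hx : x ∈ HensSch.dOpen π f, π.base x = ⟨Q.comap (algebraMap A (Sx π f)), inferInstance⟩ ∧
      (letI := algOx π x
      Q = (IsLocalRing.maximalIdeal (Ox x)).comap (germA π f x hx).toRingHom) := by
  let p : PrimeSpectrum A := ⟨Q.comap (algebraMap A (Sx π f)), inferInstance⟩
  have hfQ : algebraMap A (Sx π f) f ∉ Q := fun h =>
    Ideal.IsPrime.ne_top' (Ideal.eq_top_of_isUnit_mem _ h (hX.2.2 f).1)
  obtain ⟨x, hxp⟩ : p ∈ Set.range π.base := by
    rw [hX.2.1]
    exact fun i hi => hQ (Ideal.mem_map_of_mem _ hi)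
  have hx : x ∈ HensSch.dOpen π f := by
    show π.base x ∈ PrimeSpectrum.basicOpen f
    rw [hxp]; exact hfQ
  refine ⟨x, hx, hxp, ?_⟩
  letI := algOx π x
  set P := (IsLocalRing.maximalIdeal (Ox x)).comap (germA π f x hx).toRingHom
  have hPc : ∀ a : A, algebraMap A (Sx π f) a ∈ P ↔ a ∈ p.asIdeal := fun a => by
    have e : germA π f x hx (algebraMap A (Sx π f) a) = algebraMap A (Ox x) a := AlgHom.commutes _ _
    show germA π f x hx (algebraMap A (Sx π f) a) ∈ IsLocalRing.maximalIdeal (Ox x) ↔ _
    rw [e, IsLocalRing.mem_maximalIdeal, mem_nonunits_iff]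
    refine (not_congr (isUnit_toStk_iff π x a)).trans ?_
    rw [hxp, PrimeSpectrum.mem_basicOpen, not_not]
  have hIP : I.map (algebraMap A (Sx π f)) ≤ P := Ideal.map_le_iff_le_comap.2 fun i hi =>
    (hPc i).2 (hQ (Ideal.mem_map_of_mem _ hi))
  letI : Algebra (Localization.Away f) (Sx π f) := (IsLocalization.Away.lift f (show IsUnit (algebraMap A (Sx π f) f) from (hX.2.2 f).1)).toAlgebra
  haveI : IsScalarTower A (Localization.Away f) (Sx π f) :=
    .of_algebraMap_eq' (IsLocalization.Away.lift_comp f (hX.2.2 f).1).symm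
  ext s
  have hA : HensSch.IsHensAway A I f (Sx π f) (algebraMap A (Sx π f)) := hX.2.2 f
  obtain ⟨r, hr⟩ := Groth.Agent.PairHens.exists_sub_mem_map_pow (isPairHenselization_away hA) 1 s
  rw [pow_one, Ideal.map_map, ← IsScalarTower.algebraMap_eq] at hr
  obtain ⟨⟨a, _, m, rfl⟩, har⟩ := IsLocalization.surj (Submonoid.powers f) r
  have har' := congrArg (algebraMap (Localization.Away f) (Sx π f)) har
  rw [map_mul, ← IsScalarTower.algebraMap_apply, ← IsScalarTower.algebraMap_apply] at har'
  have key : ∀ (T : Ideal (Sx π f)), T.IsPrime → I.map (algebraMap A (Sx π f)) ≤ T →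
      (∀ b : A, algebraMap A (Sx π f) b ∈ T ↔ b ∈ p.asIdeal) → (s ∈ T ↔ a ∈ p.asIdeal) := by
    intro T hT hIT hTc
    have hf : algebraMap A (Sx π f) (f ^ m) ∉ T := fun h =>
      hfQ ((hTc f).1 (hT.mem_of_pow_mem m (by rw [← map_pow]; exact h)))
    rw [← hTc a, ← har']
    have h1 := hIT hr
    constructor
    · intro hs
      exact T.mul_mem_right _ (by simpa using T.sub_mem hs h1)
    · intro hs
      simpa using T.add_mem ((hT.mem_or_mem hs).resolve_right hf) h1
  exact (key Q inferInstance hQ fun b => Iff.rfl).trans (key P inferInstance hIP hPc).symm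

theorem mu_injective (hX : HensSch.IsSph A I X π) (f : A) : Function.Injective (mu π M f) := by
  rw [injective_iff_map_eq_zero]
  intro z hz
  by_contra hne
  obtain ⟨Q, hQ, hle⟩ := Ideal.exists_le_maximal (Submodule.span (Sx π f) {z}).annihilator (fun h => hne (by
    have h1 : (1 : Sx π f) ∈ (Submodule.span (Sx π f) {z}).annihilator := h ▸ trivial
    rwa [Submodule.mem_annihilator_span_singleton, one_smul] at h1))
  haveI : HenselianRing (Sx π f) (I.map (algebraMap A (Sx π f))) := (hX.2.2 f).2.1
  have hIQ : I.map (algebraMap A (Sx π f)) ≤ Q :=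
    HenselianRing.jac.trans ((sInf_le ⟨bot_le, hQ⟩ : Ideal.jacobson (⊥ : Ideal (Sx π f)) ≤ Q))
  obtain ⟨x, hx, -, hQP⟩ := exists_point π hX f Q hIQ
  letI := algOx π x
  obtain ⟨Φ, hΦ, hΦg⟩ := stalk_iso π M x
  have h0 : (germA π f x hx).toLinearMap.rTensor M z = 0 := hΦ.1 (by
    rw [← hΦg f hx z, hz, map_zero, map_zero])
  obtain ⟨g, hxg, hle', hres⟩ := exists_res_zero_of_germ_zero π M hX hx z h0
  -- work over `D(f g)`
  have h1 : PrimeSpectrum.basicOpen (f * g) ≤ PrimeSpectrum.basicOpen f := PrimeSpectrum.basicOpen_mul_le_left f g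
  have h2 : PrimeSpectrum.basicOpen (f * g) ≤ PrimeSpectrum.basicOpen g := PrimeSpectrum.basicOpen_mul_le_right f g
  have hz' : (resA π h1).toLinearMap.rTensor M z = 0 := by
    rw [show resA π h1 = (resA π h2).comp (resA π hle') from (resA_resA π hle' h2).symm,
      show ((resA π h2).comp (resA π hle')).toLinearMap = (resA π h2).toLinearMap ∘ₗ (resA π hle').toLinearMap from rfl,
      LinearMap.rTensor_comp, LinearMap.comp_apply, hres, map_zero]
  letI : Algebra (Sx π f) (Sx π (f * g)) := (resA π h1).toRingHom.toAlgebra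
  haveI : IsScalarTower A (Sx π f) (Sx π (f * g)) := .of_algebraMap_eq' (resA π h1).comp_algebraMap.symm
  haveI : Module.Flat (Sx π f) (Sx π (f * g)) :=
    RingHom.flat_algebraMap_iff.1 (flat_of_isHensAway _ _ (isHensAway_res π hX f g))
  -- the annihilator generates the unit ideal after restriction
  let L : Sx π f →ₗ[Sx π f] Sx π f ⊗[A] M := LinearMap.toSpanSingleton (Sx π f) _ z
  have hker : LinearMap.ker L = (Submodule.span (Sx π f) {z}).annihilator := by
    ext s
    rw [Submodule.mem_annihilator_span_singleton]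
    rfl
  let L' := (LinearMap.ker L).liftQ L le_rfl
  have hL' : Function.Injective L' := LinearMap.ker_eq_bot.1 (Submodule.ker_liftQ_eq_bot _ _ _ le_rfl)
  have hmem : (LinearMap.lTensor (Sx π (f * g)) L') ((1 : Sx π (f * g)) ⊗ₜ Submodule.Quotient.mk (1 : Sx π f)) = 0 := by
    refine (TensorProduct.AlgebraTensorModule.cancelBaseChange A (Sx π f) (Sx π (f * g)) (Sx π (f * g)) M).injective ?_
    rw [map_zero, LinearMap.lTensor_tmul, Submodule.liftQ_apply]
    show TensorProduct.AlgebraTensorModule.cancelBaseChange A (Sx π f) (Sx π (f * g)) (Sx π (f * g)) M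
      (1 ⊗ₜ ((1 : Sx π f) • z)) = 0
    rw [one_smul, ← hz']
    clear hz hne hle hres hz' h0 L L' hker hL'
    induction z using TensorProduct.induction_on with
    | zero => simp
    | tmul s m =>
      rw [TensorProduct.AlgebraTensorModule.cancelBaseChange_tmul, LinearMap.rTensor_tmul, Algebra.smul_def, mul_one]
      rfl
    | add a b ha hb => simp only [TensorProduct.tmul_add, map_add, ha, hb]
  have hq := (injective_iff_map_eq_zero _).1 (Module.Flat.lTensor_preserves_injective_linearMap L' hL') _ hmem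
  rw [← (TensorProduct.comm _ _ _).map_eq_zero_iff, TensorProduct.comm_tmul] at hq
  have hq' := congrArg (TensorProduct.quotTensorEquivQuotSMul (Sx π (f * g)) (LinearMap.ker L)) hq
  erw [TensorProduct.quotTensorEquivQuotSMul_mk_tmul, map_zero] at hq'
  rw [one_smul, Submodule.Quotient.mk_eq_zero, hker] at hq'
  have hxg' : x ∈ HensSch.dOpen π (f * g) := mem_dOpen_mul π hx hxg
  have hbad : ∀ y ∈ ((Submodule.span (Sx π f) {z}).annihilator • (⊤ : Submodule (Sx π f) (Sx π (f * g)))),
      germA π (f * g) x hxg' y ∈ IsLocalRing.maximalIdeal (Ox x) := by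
    intro y hy
    refine Submodule.smul_induction_on hy (fun s hs t _ => ?_) (fun a b ha hb => ?_)
    · rw [Algebra.smul_def, map_mul]
      refine Ideal.mul_mem_right _ _ ?_
      have : s ∈ Q := hle hs
      rw [hQP] at this
      exact (TopCat.Presheaf.germ_res_apply X.presheaf ((Opens.map π.base).map (homOfLE h1)) x hxg' s).symm ▸ this
    · rw [map_add]; exact add_mem ha hb
  have := hbad 1 hq'
  rw [map_one] at this
  exact (IsLocalRing.maximalIdeal.isMaximal _).ne_top ((Ideal.eq_top_iff_one _).2 this)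

end Groth.Agent.HensSchLib
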