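import Groth.Agent.HensSchLib.GoodOpen

/-!
# The universal property of the Henselization of a scheme along a closed subset
-/

set_option autoImplicit false
set_option backward.isDefEq.respectTransparency false
set_option linter.style.haveILetI false

universe u

open CategoryTheory CategoryTheory.Limits Opposite TopologicalSpace Topology AlgebraicGeometry

noncomputable section

namespace Groth.Agent.HensSchLib

/-- Morphisms of locally ringed spaces with the same map of spaces and the same germs agree. -/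
theorem lrs_hom_ext {Z X : LocallyRingedSpace.{u}} (a b : Z ⟶ X) (hb : a.base = b.base)
    (h : ∀ (T : Opens X) (s : X.presheaf.obj (op T)) (z : Z) (h₁ : a.base z ∈ T) (h₂ : b.base z ∈ T),
      Z.presheaf.germ ((Opens.map a.base).obj T) z h₁ (a.c.app (op T) s) =
        Z.presheaf.germ ((Opens.map b.base).obj T) z h₂ (b.c.app (op T) s)) : a = b := by
  obtain ⟨⟨a0, ac⟩, ha'⟩ := a
  obtain ⟨⟨b0, bc⟩, hb'⟩ := b
  dsimp at hb
  subst hb
  suffices ac = bc by subst this; rfl
  refine NatTrans.ext (funext fun T => CommRingCat.hom_ext (RingHom.ext fun s => ?_))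
  apply TopCat.Presheaf.section_ext Z.sheaf
  intro z hz
  exact h T.unop s z hz hz

section

variable {X : Scheme.{u}} {Y : Set X} {Xh : LocallyRingedSpace.{u}} {ι : Xh ⟶ X.toLocallyRingedSpace}
  (hh : HensSch.IsHenselizationAlong X Y Xh ι) {Z : LocallyRingedSpace.{u}} (hZ : HensSch.IsHensScheme Z)
  (g : Z ⟶ X.toLocallyRingedSpace) (hg : Set.range g.base ⊆ Y)

include hh in
theorem exists_preimage {x : X} (hx : x ∈ Y) : ∃ y, ι.base y = x := (hh.2.2.1.symm ▸ hx : x ∈ Set.range ι.base)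

/-- The map of spaces. -/
def baseMap : Z.toTopCat ⟶ Xh.toTopCat :=
  TopCat.ofHom ⟨fun z => (exists_preimage hh (hg ⟨z, rfl⟩)).choose, by
    rw [hh.2.1.isInducing.continuous_iff]
    have : (ι.base ∘ fun z => (exists_preimage hh (hg ⟨z, rfl⟩)).choose) = g.base :=
      funext fun z => (exists_preimage hh (hg ⟨z, rfl⟩)).choose_spec
    rw [this]
    exact g.base.hom.continuous⟩

theorem ι_baseMap (z : Z) : ι.base (baseMap hh g hg z) = g.base z :=
  (exists_preimage hh (hg ⟨z, rfl⟩)).choose_spec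

variable {U : X.Opens}

/-- The target map on sections. -/
def tgt (U : X.Opens) {T : Opens Z} (hT : T ≤ (Opens.map g.base).obj U) : Γ(X, U) →+* Z.presheaf.obj (op T) :=
  (g.c.app (op U) ≫ Z.presheaf.map (homOfLE hT).op).hom

include hh hg in
theorem map_vanY_le {T : Opens Z} (hT : T ≤ (Opens.map g.base).obj U) :
    (vanY ι U).map (tgt g U hT) ≤ vanI T := by
  rw [Ideal.map_le_iff_le_comap]
  intro a ha
  rw [Ideal.mem_comap, mem_vanI_iff]
  intro z hz
  have h0 : ∀ (p : X) (hp : p ∈ U), p ∈ Set.range ι.base →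
      X.presheaf.germ U p hp a ∈ IsLocalRing.maximalIdeal (X.presheaf.stalk p) := by
    rintro _ hp ⟨y, rfl⟩
    exact (germ_app_mem_iff ι a y hp).1 ((mem_vanI_iff _).1 ha y hp)
  change Z.presheaf.germ T z hz (Z.presheaf.map (homOfLE hT).op (g.c.app (op U) a)) ∈ _
  rw [TopCat.Presheaf.germ_res_apply]
  exact (germ_app_mem_iff g a z (hT hz)).2 (h0 _ _ ⟨baseMap hh g hg z, ι_baseMap hh g hg z⟩)

variable (hU : Good ι U)

include hh hg hZ hU in
theorem existsUnique_hom {T : Opens Z} (hT : T ≤ (Opens.map g.base).obj U) :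
    ∃! k : Xh.presheaf.obj (op (preO ι U)) →+* Z.presheaf.obj (op T), k.comp (φU ι U) = tgt g U hT :=
  hU.univ _ (vanI T) _ (henselianRing_vanI hZ T) (map_vanY_le hh g hg hT)

/-- The map on sections over a good open. -/
def secHom {T : Opens Z} (hT : T ≤ (Opens.map g.base).obj U) :
    Xh.presheaf.obj (op (preO ι U)) →+* Z.presheaf.obj (op T) :=
  (existsUnique_hom hh hZ g hg hU hT).choose

theorem secHom_comp {T : Opens Z} (hT : T ≤ (Opens.map g.base).obj U) :
    (secHom hh hZ g hg hU hT).comp (φU ι U) = tgt g U hT :=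
  (existsUnique_hom hh hZ g hg hU hT).choose_spec.1

theorem secHom_unique {T : Opens Z} (hT : T ≤ (Opens.map g.base).obj U)
    (k : Xh.presheaf.obj (op (preO ι U)) →+* Z.presheaf.obj (op T)) (hk : k.comp (φU ι U) = tgt g U hT) :
    k = secHom hh hZ g hg hU hT :=
  (existsUnique_hom hh hZ g hg hU hT).choose_spec.2 k hk

theorem res_secHom {T T' : Opens Z} (hT : T ≤ (Opens.map g.base).obj U) (h' : T' ≤ T)
    (s : Xh.presheaf.obj (op (preO ι U))) :
    Z.presheaf.map (homOfLE h').op (secHom hh hZ g hg hU hT s) = secHom hh hZ g hg hU (h'.trans hT) s := by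
  refine DFunLike.congr_fun (secHom_unique hh hZ g hg hU (h'.trans hT)
    ((Z.presheaf.map (homOfLE h').op).hom.comp (secHom hh hZ g hg hU hT)) ?_) s
  rw [RingHom.comp_assoc, secHom_comp]
  ext a
  exact ConcreteCategory.congr_hom (Z.presheaf.map_comp (homOfLE hT).op (homOfLE h').op).symm (g.c.app (op U) a)

theorem secHom_res {U' : X.Opens} (hU' : Good ι U') (h : U' ≤ U) {T : Opens Z}
    (hT : T ≤ (Opens.map g.base).obj U') (s : Xh.presheaf.obj (op (preO ι U))) :
    secHom hh hZ g hg hU' hT (Xh.presheaf.map ((Opens.map ι.base).map (homOfLE h)).op s) =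
      secHom hh hZ g hg hU (fun _ hz => h (hT hz)) s := by
  refine DFunLike.congr_fun (secHom_unique hh hZ g hg hU (fun _ hz => h (hT hz))
    ((secHom hh hZ g hg hU' hT).comp (Xh.presheaf.map ((Opens.map ι.base).map (homOfLE h)).op).hom) ?_) s
  ext a
  have h1 := ConcreteCategory.congr_hom (ι.c.naturality (homOfLE h).op) a
  refine (congrArg (secHom hh hZ g hg hU' hT) h1.symm).trans
    ((DFunLike.congr_fun (secHom_comp hh hZ g hg hU' hT) _).trans ?_)
  have h2 := ConcreteCategory.congr_hom (g.c.naturality (homOfLE h).op) a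
  refine (congrArg (Z.presheaf.map (homOfLE hT).op) h2).trans ?_
  exact (ConcreteCategory.congr_hom (Z.presheaf.map_comp ((Opens.map g.base).map (homOfLE h)).op (homOfLE hT).op)
    (g.c.app (op U) a)).symm

include hh in
theorem isBasis_good : Opens.IsBasis (Set.range fun i : {U : X.Opens // Good ι U} => preO ι i.1) := by
  rw [Opens.isBasis_iff_nbhd]
  intro O y hy
  obtain ⟨O', hO', e⟩ := hh.2.1.isInducing.isOpen_iff.1 O.2
  obtain ⟨U, hyU, hUO, hU⟩ := exists_good hh (ι.base y) (hh.2.2.1 ▸ ⟨y, rfl⟩) ⟨O', hO'⟩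
    ((Set.ext_iff.1 e y).2 hy)
  exact ⟨preO ι U, ⟨⟨U, hU⟩, rfl⟩, hyU, fun w hw => (Set.ext_iff.1 e w).1 (hUO hw)⟩

theorem le_of_baseMap (U : X.Opens) :
    (Opens.map (baseMap hh g hg)).obj (preO ι U) ≤ (Opens.map g.base).obj U := fun z hz => by
  show g.base z ∈ U
  rw [← ι_baseMap hh g hg z]
  exact hz

theorem good_natural {U' : X.Opens} (hU' : Good ι U') (hle : preO ι U' ≤ preO ι U)
    (s : Xh.presheaf.obj (op (preO ι U))) :
    secHom hh hZ g hg hU' (le_of_baseMap hh g hg U') (Xh.presheaf.map (homOfLE hle).op s) =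
      Z.presheaf.map ((Opens.map (baseMap hh g hg)).map (homOfLE hle)).op
        (secHom hh hZ g hg hU (le_of_baseMap hh g hg U) s) := by
  apply TopCat.Presheaf.section_ext Z.sheaf
  intro z hz
  have hz' : g.base z ∈ U' := le_of_baseMap hh g hg U' hz
  have hzU : g.base z ∈ U := le_of_baseMap hh g hg U (hle hz)
  obtain ⟨U'', hzU'', hle'', hU''⟩ := exists_good hh (g.base z) (hg ⟨z, rfl⟩) (U' ⊓ U) ⟨hz', hzU⟩
  let T := (Opens.map (baseMap hh g hg)).obj (preO ι U'')
  have hzT : z ∈ T := by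
    show ι.base (baseMap hh g hg z) ∈ U''
    rw [ι_baseMap]; exact hzU''
  have hT1 : T ≤ (Opens.map (baseMap hh g hg)).obj (preO ι U') := fun w hw => (hle'' hw).1
  have hT2 : T ≤ (Opens.map (baseMap hh g hg)).obj (preO ι U) := fun w hw => (hle'' hw).2
  change Z.presheaf.germ _ z hz (secHom hh hZ g hg hU' _ _) = Z.presheaf.germ _ z hz (Z.presheaf.map _ _)
  rw [TopCat.Presheaf.germ_res_apply, ← TopCat.Presheaf.germ_res_apply Z.presheaf (homOfLE hT1) z hzT,
    ← TopCat.Presheaf.germ_res_apply Z.presheaf (homOfLE hT2) z hzT, res_secHom, res_secHom]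
  congr 1
  rw [← secHom_res hh hZ g hg hU' hU'' (fun w hw => (hle'' hw).1) (le_of_baseMap hh g hg U''),
    ← secHom_res hh hZ g hg hU hU'' (fun w hw => (hle'' hw).2) (le_of_baseMap hh g hg U''),
    ← ConcreteCategory.comp_apply, ← Xh.presheaf.map_comp]
  congr 1

/-- The map of sheaves on the good opens. -/
def goodNatTrans :
    (inducedFunctor fun i : {U : X.Opens // Good ι U} => preO ι i.1).op ⋙ Xh.presheaf ⟶
      (inducedFunctor fun i : {U : X.Opens // Good ι U} => preO ι i.1).op ⋙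
        ((TopCat.Sheaf.pushforward CommRingCat.{u} (baseMap hh g hg)).obj Z.sheaf).1 where
  app i := CommRingCat.ofHom (secHom hh hZ g hg i.unop.2 (le_of_baseMap hh g hg i.unop.1))
  naturality {i i'} m := by
    refine CommRingCat.hom_ext (RingHom.ext fun s => ?_)
    exact good_natural hh hZ g hg i.unop.2 i'.unop.2 (leOfHom m.unop.hom) s

/-- The map of sheaves. -/
def cMap : Xh.presheaf ⟶ (TopCat.Presheaf.pushforward CommRingCat.{u} (baseMap hh g hg)).obj Z.presheaf :=
  TopCat.Sheaf.restrictHomEquivHom Xh.presheaf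
    ((TopCat.Sheaf.pushforward CommRingCat.{u} (baseMap hh g hg)).obj Z.sheaf) (isBasis_good hh) (goodNatTrans hh hZ g hg)

theorem cMap_good (hU : Good ι U) (s : Xh.presheaf.obj (op (preO ι U))) :
    (cMap hh hZ g hg).app (op (preO ι U)) s = secHom hh hZ g hg hU (le_of_baseMap hh g hg U) s :=
  ConcreteCategory.congr_hom (TopCat.Sheaf.extend_hom_app Xh.presheaf
    ((TopCat.Sheaf.pushforward CommRingCat.{u} (baseMap hh g hg)).obj Z.sheaf) (isBasis_good hh)
    (goodNatTrans hh hZ g hg) ⟨U, hU⟩) s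

/-- The morphism of presheafed spaces. -/
def liftPS : Z.toPresheafedSpace ⟶ Xh.toPresheafedSpace := ⟨baseMap hh g hg, cMap hh hZ g hg⟩

theorem isLocalHom_stalkMap (z : Z) : IsLocalHom ((liftPS hh hZ g hg).stalkMap z).hom := by
  refine ⟨fun e he => ?_⟩
  let y := baseMap hh g hg z
  obtain ⟨O, hyO, s, rfl⟩ := Xh.presheaf.germ_exist (x := y) e
  obtain ⟨O', hO', eO⟩ := hh.2.1.isInducing.isOpen_iff.1 O.2
  obtain ⟨U, hzU, hUO, hU⟩ := exists_good hh (g.base z) (hg ⟨z, rfl⟩) ⟨O', hO'⟩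
    (by rw [← ι_baseMap hh g hg z]; exact (Set.ext_iff.1 eO y).2 hyO)
  have hle : preO ι U ≤ O := fun w hw => (Set.ext_iff.1 eO w).1 (hUO hw)
  have hy : y ∈ preO ι U := by
    show ι.base y ∈ U
    rw [ι_baseMap]; exact hzU
  rw [← TopCat.Presheaf.germ_res_apply Xh.presheaf (homOfLE hle) y hy s] at he ⊢
  generalize Xh.presheaf.map (homOfLE hle).op s = t at he ⊢
  have h1 : (liftPS hh hZ g hg).stalkMap z (Xh.presheaf.germ (preO ι U) y hy t) =
      Z.presheaf.germ _ z hy ((cMap hh hZ g hg).app (op (preO ι U)) t) :=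
    PresheafedSpace.stalkMap_germ_apply (liftPS hh hZ g hg) (preO ι U) z hy t
  change IsUnit ((liftPS hh hZ g hg).stalkMap z (Xh.presheaf.germ (preO ι U) y hy t)) at he
  rw [h1, cMap_good hh hZ g hg hU] at he
  let T := (Opens.map (baseMap hh g hg)).obj (preO ι U)
  let k := secHom hh hZ g hg hU (le_of_baseMap hh g hg U)
  obtain ⟨r, hr⟩ := hU.surj t
  have hw1 : k (t - φU ι U r) ∈ vanI T :=
    (map_vanY_le hh g hg (le_of_baseMap hh g hg U)) (by
      rw [← secHom_comp hh hZ g hg hU, ← Ideal.map_map]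
      exact Ideal.mem_map_of_mem k hr)
  have hw2 : t - φU ι U r ∈ vanI (preO ι U) := Ideal.map_comap_le hr
  have hkr : k (φU ι U r) = tgt g U (le_of_baseMap hh g hg U) r :=
    DFunLike.congr_fun (secHom_comp hh hZ g hg hU (le_of_baseMap hh g hg U)) r
  rw [map_sub, hkr] at hw1
  have h2 : IsUnit (Z.presheaf.germ T z hy (tgt g U (le_of_baseMap hh g hg U) r)) := by
    rw [← IsLocalRing.notMem_maximalIdeal]
    intro hc
    have := (mem_vanI_iff _).1 hw1 z hy
    rw [map_sub] at this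
    exact (IsLocalRing.notMem_maximalIdeal.2 he) ((Submodule.sub_mem_iff_left _ hc).1 this)
  have h3 : IsUnit (X.presheaf.germ U (g.base z) hzU r) := by
    rw [← IsLocalRing.notMem_maximalIdeal] at h2 ⊢
    intro hc
    refine h2 ?_
    change Z.presheaf.germ T z hy (Z.presheaf.map _ (g.c.app (op U) r)) ∈ _
    have e : Z.presheaf.germ T z hy (Z.presheaf.map (homOfLE (le_of_baseMap hh g hg U)).op (g.c.app (op U) r)) =
        Z.presheaf.germ ((Opens.map g.base).obj U) z hzU (g.c.app (op U) r) :=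
      TopCat.Presheaf.germ_res_apply Z.presheaf _ z hy _
    exact e.symm ▸ (germ_app_mem_iff g r z hzU).2 hc
  have h4 : ∀ (p : X) (hp : p ∈ U), p = g.base z → IsUnit (X.presheaf.germ U p hp r) := by
    rintro p hp rfl
    exact h3
  have h5 := h4 (ι.base y) hy (ι_baseMap hh g hg z)
  rw [← IsLocalRing.notMem_maximalIdeal] at h5 ⊢
  intro hc
  refine h5 ((germ_app_mem_iff ι r y hy).1 ?_)
  have := (mem_vanI_iff _).1 hw2 y hy
  rw [map_sub] at this
  exact (Submodule.sub_mem_iff_right _ hc).1 this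

/-- The lift to the Henselization. -/
def lift : Z ⟶ Xh := ⟨liftPS hh hZ g hg, isLocalHom_stalkMap hh hZ g hg⟩

theorem lift_comp : lift hh hZ g hg ≫ ι = g := by
  refine lrs_hom_ext _ _ (TopCat.ext fun z => ι_baseMap hh g hg z) fun O s z h₁ h₂ => ?_
  change g.base z ∈ O at h₂
  obtain ⟨U, hzU, hUO, hU⟩ := exists_good hh (g.base z) (hg ⟨z, rfl⟩) O h₂
  let T := (Opens.map (baseMap hh g hg)).obj (preO ι U)
  have hzT : z ∈ T := by
    show ι.base (baseMap hh g hg z) ∈ U
    rw [ι_baseMap]; exact hzU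
  let s' := X.presheaf.map (homOfLE hUO).op s
  have e1 : Z.presheaf.germ _ z h₁ ((cMap hh hZ g hg).app (op (preO ι O)) (ι.c.app (op O) s)) =
      Z.presheaf.germ T z hzT ((cMap hh hZ g hg).app (op (preO ι U)) (φU ι U s')) := by
    have h := ConcreteCategory.congr_hom ((cMap hh hZ g hg).naturality ((Opens.map ι.base).map (homOfLE hUO)).op)
      (ι.c.app (op O) s)
    have h' := ConcreteCategory.congr_hom (ι.c.naturality (homOfLE hUO).op) s
    refine (TopCat.Presheaf.germ_res_apply Z.presheaf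
      ((Opens.map (baseMap hh g hg)).map ((Opens.map ι.base).map (homOfLE hUO))) z hzT _).symm.trans ?_
    exact congrArg (Z.presheaf.germ T z hzT) (h.symm.trans
      (congrArg ((cMap hh hZ g hg).app (op (preO ι U))) h'.symm))
  refine e1.trans ?_
  rw [cMap_good hh hZ g hg hU, show secHom hh hZ g hg hU (le_of_baseMap hh g hg U) (φU ι U s') = _ from
    DFunLike.congr_fun (secHom_comp hh hZ g hg hU (le_of_baseMap hh g hg U)) s']
  change Z.presheaf.germ T z hzT (Z.presheaf.map _ (g.c.app (op U) s')) = _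
  refine (TopCat.Presheaf.germ_res_apply Z.presheaf _ z hzT _).trans ?_
  have h' := ConcreteCategory.congr_hom (g.c.naturality (homOfLE hUO).op) s
  refine (congrArg (Z.presheaf.germ ((Opens.map g.base).obj U) z hzU) h').trans ?_
  exact TopCat.Presheaf.germ_res_apply Z.presheaf _ z hzU _

theorem germ_lift_eq (m : Z ⟶ Xh) (hm : m ≫ ι = g) {O : Opens Xh} (s : Xh.presheaf.obj (op O)) (z : Z)
    (hz : m.base z ∈ O) (U : X.Opens) (hU : Good ι U) (hzU : g.base z ∈ U) (hle : preO ι U ≤ O) :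
    Z.presheaf.germ ((Opens.map m.base).obj O) z hz (m.c.app (op O) s) =
      Z.presheaf.germ ((Opens.map g.base).obj U) z hzU
        (secHom hh hZ g hg hU le_rfl (Xh.presheaf.map (homOfLE hle).op s)) := by
  subst hm
  let T := (Opens.map (m ≫ ι).base).obj U
  have hk : (m.c.app (op (preO ι U))).hom = secHom hh hZ (m ≫ ι) hg hU (le_refl T) := by
    refine secHom_unique hh hZ (m ≫ ι) hg hU (le_refl T) _ (RingHom.ext fun a => ?_)
    have e : (homOfLE (le_refl T)).op = 𝟙 (op T) := rfl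
    change m.c.app (op (preO ι U)) (ι.c.app (op U) a) = Z.presheaf.map (homOfLE (le_refl T)).op _
    rw [e, Z.presheaf.map_id]
    rfl
  rw [← hk]
  refine (TopCat.Presheaf.germ_res_apply Z.presheaf ((Opens.map m.base).map (homOfLE hle)) z hzU _).symm.trans ?_
  exact congrArg (Z.presheaf.germ T z hzU) (ConcreteCategory.congr_hom (m.c.naturality (homOfLE hle).op) s).symm

include hh hZ hg in
theorem existsUnique_lift : ∃! g' : Z ⟶ Xh, g' ≫ ι = g := by
  refine ⟨lift hh hZ g hg, lift_comp hh hZ g hg, fun m hm => ?_⟩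
  have hb : ∀ (m : Z ⟶ Xh), m ≫ ι = g → ∀ z, ι.base (m.base z) = g.base z := fun m hm z => congr(($hm).base z)
  refine lrs_hom_ext _ _ (TopCat.ext fun z => hh.2.1.injective
    ((hb m hm z).trans (hb _ (lift_comp hh hZ g hg) z).symm)) fun O s z h₁ h₂ => ?_
  obtain ⟨O', hO', eO⟩ := hh.2.1.isInducing.isOpen_iff.1 O.2
  obtain ⟨U, hzU, hUO, hU⟩ := exists_good hh (g.base z) (hg ⟨z, rfl⟩) ⟨O', hO'⟩
    (by rw [← hb m hm z]; exact (Set.ext_iff.1 eO _).2 h₁)
  have hle : preO ι U ≤ O := fun w hw => (Set.ext_iff.1 eO w).1 (hUO hw)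
  rw [germ_lift_eq hh hZ g hg m hm s z h₁ U hU hzU hle,
    germ_lift_eq hh hZ g hg (lift hh hZ g hg) (lift_comp hh hZ g hg) s z h₂ U hU hzU hle]

end

end Groth.Agent.HensSchLib
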